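import Cfsg.Agent.Cls.SS

/-! The centraliser algebra of a unipotent endomorphism and the order of its unit group. -/

set_option autoImplicit false

namespace CF.Cls

open Polynomial Module

variable {F : Type*} [Field F]
variable {V W : Type*} [AddCommGroup V] [Module F V] [AddCommGroup W] [Module F W]

/-- the `F[X]`-homomorphism from a cyclic block with given image of `1` -/
noncomputable def liftCyc (a : F[X]) (g : End F W) (w : W) (h : aeval g a w = 0) :
    AdjoinRoot a →ₗ[F] W :=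
  (((Ideal.span {a}).restrictScalars F).liftQ
    ({ toFun := fun p => aeval g p w, map_add' := by simp, map_smul' := by simp } : F[X] →ₗ[F] W)
    (fun p hp => by
      obtain ⟨c, rfl⟩ := Ideal.mem_span_singleton.1 hp
      simp [mul_comm a c, h])).comp
    (Submodule.Quotient.restrictScalarsEquiv F (Ideal.span {a})).symm.toLinearMap

@[simp] theorem liftCyc_mk (a : F[X]) (g : End F W) (w : W) (h : aeval g a w = 0) (p : F[X]) :
    liftCyc a g w h (AdjoinRoot.mk a p) = aeval g p w := rfl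

theorem liftCyc_cyc (a : F[X]) (g : End F W) (w : W) (h : aeval g a w = 0) (x : AdjoinRoot a) :
    liftCyc a g w h (cyc a x) = g (liftCyc a g w h x) := by
  obtain ⟨p, rfl⟩ := AdjoinRoot.mk_surjective x
  rw [cyc_apply, ← AdjoinRoot.mk_X, ← map_mul, liftCyc_mk, liftCyc_mk]; simp

section blk
variable {κ : Type*} [Fintype κ] [DecidableEq κ] (a : κ → F[X])

theorem aeval_blk_apply (p : F[X]) (m : ∀ k, AdjoinRoot (a k)) (k : κ) :
    aeval (blk a) p m k = AdjoinRoot.mk (a k) p * m k := by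
  rw [blk, aeval_piMap]; exact aeval_cyc _ _ _

theorem aeval_blk_single (p : F[X]) (l : κ) :
    aeval (blk a) p (Pi.single l 1) = Pi.single l (AdjoinRoot.mk (a l) p) := by
  ext k
  rw [aeval_blk_apply]
  by_cases h : k = l
  · subst h; simp
  · simp [Pi.single_eq_of_ne h]

theorem exists_sum_single (m : ∀ k, AdjoinRoot (a k)) :
    ∃ p : κ → F[X], m = ∑ l, aeval (blk a) (p l) (Pi.single l 1) := by
  choose p hp using fun k => AdjoinRoot.mk_surjective (m k)
  exact ⟨p, by simp only [aeval_blk_single, hp, Finset.univ_sum_single]⟩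

theorem hom_ext {g : End F W} {φ ψ : (∀ k, AdjoinRoot (a k)) →ₗ[F] W}
    (hφ : ∀ m, φ (blk a m) = g (φ m)) (hψ : ∀ m, ψ (blk a m) = g (ψ m))
    (h : ∀ l, φ (Pi.single l 1) = ψ (Pi.single l 1)) : φ = ψ := by
  refine LinearMap.ext fun m => ?_
  obtain ⟨p, rfl⟩ := exists_sum_single a m
  simp only [map_sum, aeval_intertwine φ hφ, aeval_intertwine ψ hψ, h]

theorem exists_hom (g : End F W) (w : κ → W) (h : ∀ l, aeval g (a l) (w l) = 0) :
    ∃ φ : (∀ k, AdjoinRoot (a k)) →ₗ[F] W, (∀ m, φ (blk a m) = g (φ m)) ∧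
      ∀ l, φ (Pi.single l 1) = w l := by
  refine ⟨∑ l, (liftCyc (a l) g (w l) (h l)).comp (LinearMap.proj l), fun m => ?_, fun l => ?_⟩
  · simp only [LinearMap.sum_apply, LinearMap.comp_apply, LinearMap.proj_apply, map_sum]
    exact Finset.sum_congr rfl (fun l _ => liftCyc_cyc _ _ _ _ _)
  · simp only [LinearMap.sum_apply, LinearMap.comp_apply, LinearMap.proj_apply]
    rw [Finset.sum_eq_single l]
    · rw [Pi.single_eq_same, ← map_one (AdjoinRoot.mk (a l)), liftCyc_mk]; simp
    · intro k _ hk; rw [Pi.single_eq_of_ne hk, map_zero]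
    · simp

theorem card_hom [Finite F] [FiniteDimensional F W] (g : End F W) :
    Nat.card {φ : (∀ k, AdjoinRoot (a k)) →ₗ[F] W // ∀ m, φ (blk a m) = g (φ m)} =
      Nat.card F ^ ∑ l, kd g (a l) := by
  rw [← Finset.prod_pow_eq_pow_sum]
  simp only [kd, ← Module.natCard_eq_pow_finrank]
  rw [← Nat.card_pi]
  refine Nat.card_congr (Equiv.ofBijective (fun φ l => ⟨φ.1 (Pi.single l 1), ?_⟩) ⟨?_, ?_⟩)
  · rw [LinearMap.mem_ker, ← aeval_intertwine φ.1 φ.2, aeval_blk_single]; simp
  · intro φ ψ h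
    exact Subtype.ext (hom_ext a φ.2 ψ.2 (fun l => congrArg Subtype.val (congrFun h l)))
  · intro w
    obtain ⟨φ, h1, h2⟩ := exists_hom a g (fun l => w l) (fun l => (w l).2)
    exact ⟨⟨φ, h1⟩, funext fun l => Subtype.ext (h2 l)⟩

end blk

theorem toSquareBlock_mul {κ R : Type*} [Fintype κ] [DecidableEq κ] [Ring R] {b : κ → ℕ}
    {M N : Matrix κ κ R} (hM : M.BlockTriangular b) (hN : N.BlockTriangular b) (j : ℕ) :
    (M * N).toSquareBlock b j = M.toSquareBlock b j * N.toSquareBlock b j := by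
  ext k l
  simp only [Matrix.toSquareBlock_def, Matrix.of_apply, Matrix.mul_apply]
  rw [← Finset.sum_subtype (Finset.univ.filter (fun m => b m = j)) (by simp)
    (fun m => M k m * N m l)]
  refine (Finset.sum_subset (Finset.filter_subset _ _) (fun m _ hm => ?_)).symm
  have hm' : b m ≠ j := by simpa using hm
  rcases lt_or_gt_of_ne hm' with h | h
  · rw [hM (by rw [k.2]; exact h), zero_mul]
  · rw [hN (by rw [l.2]; exact h), mul_zero]

theorem card_preimage_mul {E A : Type*} [AddGroup E] [AddGroup A] (δ : E → A)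
    (hadd : ∀ x y, δ (x + y) = δ x + δ y) (hδ : Function.Surjective δ) (S : A → Prop) :
    Nat.card {x // S (δ x)} = Nat.card {y // S y} * Nat.card {x // δ x = 0} := by
  rw [← Nat.card_prod]
  choose s hs using hδ
  have hneg : ∀ x, δ (-x) = -δ x := (AddMonoidHom.mk' δ hadd).map_neg
  exact Nat.card_congr
    { toFun := fun x => (⟨δ x, x.2⟩, ⟨-s (δ x) + x, by simp [hs, hadd, hneg]⟩)
      invFun := fun y => ⟨s y.1 + y.2, by simpa [hs, hadd, y.2.2] using y.1.2⟩
      left_inv := fun x => by simp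
      right_inv := fun y => by simp [hs, hadd, y.2.2] }

section unip
variable {κ : Type*} [Fintype κ] [DecidableEq κ] (F) (d : κ → ℕ)

/-- the standard unipotent module of type `d` -/
abbrev UM : Type _ := ∀ k, AdjoinRoot ((X - 1 : F[X]) ^ d k)

/-- the standard unipotent endomorphism of type `d` -/
noncomputable abbrev uE : End F (UM F d) := blk fun k => (X - 1 : F[X]) ^ d k

instance (n : ℕ) : FiniteDimensional F (AdjoinRoot ((X - 1 : F[X]) ^ n)) :=
  fd_adjoinRoot (pow_ne_zero n monic_X_sub_one.ne_zero)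

/-- its centraliser algebra -/
noncomputable abbrev CA : Subalgebra F (End F (UM F d)) := Subalgebra.centralizer F {uE F d}

variable {F d}

theorem mem_CA {φ : End F (UM F d)} : φ ∈ CA F d ↔ ∀ m, φ (uE F d m) = uE F d (φ m) := by
  rw [Subalgebra.mem_centralizer_iff]
  simp only [Set.mem_singleton_iff, forall_eq]
  exact ⟨fun h m => (DFunLike.congr_fun h m).symm, fun h => (LinearMap.ext h).symm⟩

/-- evaluation at `1` -/
noncomputable def ev1 {n : ℕ} (hn : 0 < n) : AdjoinRoot ((X - 1 : F[X]) ^ n) →ₐ[F] F :=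
  AdjoinRoot.liftAlgHom _ (AlgHom.id F F) 1 (by simp [hn.ne'])

@[simp] theorem ev1_mk {n : ℕ} (hn : 0 < n) (p : F[X]) :
    ev1 hn (AdjoinRoot.mk _ p) = p.eval 1 := rfl

variable (hd : ∀ k, 0 < d k)

/-- the top of the module -/
noncomputable def evM : UM F d →ₗ[F] (κ → F) :=
  LinearMap.piMap fun k => (ev1 (hd k)).toLinearMap

theorem evM_apply (m : UM F d) (k : κ) : evM hd m k = ev1 (hd k) (m k) := rfl

theorem evM_aeval (p : F[X]) (m : UM F d) :
    evM hd (aeval (uE F d) p m) = p.eval 1 • evM hd m := by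
  ext k; simp [evM_apply, aeval_blk_apply]

theorem evM_single (l : κ) : evM (F := F) hd (Pi.single l 1) = Pi.single l 1 := by
  ext k
  rw [evM_apply]
  by_cases h : k = l
  · subst h; simp
  · simp [Pi.single_eq_of_ne h]

theorem evM_surjective : Function.Surjective (evM (F := F) hd) := fun c =>
  ⟨fun k => algebraMap F _ (c k), by ext k; rw [evM_apply]; exact (ev1 (hd k)).commutes _⟩

theorem exists_of_evM_eq_zero {m : UM F d} (h : evM hd m = 0) :
    ∃ m', m = (uE F d - 1) m' := by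
  have : ∀ k, ∃ y, m k = AdjoinRoot.mk ((X - 1 : F[X]) ^ d k) (X - 1) * y := fun k => by
    obtain ⟨p, hp⟩ := AdjoinRoot.mk_surjective (m k)
    have h1 := congrFun h k
    rw [evM_apply, ← hp, ev1_mk] at h1
    obtain ⟨r, hr⟩ : (X - 1 : F[X]) ∣ p := dvd_iff_isRoot.2 h1
    exact ⟨AdjoinRoot.mk _ r, by rw [← hp, hr, map_mul]⟩
  choose y hy using this
  refine ⟨y, funext fun k => ?_⟩
  rw [hy, ← aeval_blk_apply (fun k => (X - 1 : F[X]) ^ d k)]; simp

/-- the matrix induced on the top -/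
noncomputable def topM (φ : End F (UM F d)) : Matrix κ κ F :=
  Matrix.of fun k l => evM hd (φ (Pi.single l 1)) k

theorem evM_comm {φ : End F (UM F d)} (hφ : φ ∈ CA F d) (m : UM F d) :
    evM hd (φ m) = (topM hd φ).mulVec (evM hd m) := by
  obtain ⟨p, rfl⟩ := exists_sum_single _ m
  simp only [map_sum, aeval_intertwine φ (mem_CA.1 hφ), evM_aeval, evM_single,
    Matrix.mulVec_sum, Matrix.mulVec_smul, Matrix.mulVec_single_one]
  rfl

theorem topM_mul {φ ψ : End F (UM F d)} (hφ : φ ∈ CA F d) :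
    topM hd (φ * ψ) = topM hd φ * topM hd ψ := by
  ext k l
  exact congrFun (evM_comm hd hφ (ψ (Pi.single l 1))) k

theorem topM_one : topM (F := F) hd 1 = 1 := by
  ext k l
  simp [topM, evM_single, Pi.single_apply, Matrix.one_apply]

theorem topM_triangular {φ : End F (UM F d)} (hφ : φ ∈ CA F d) :
    (topM hd φ).BlockTriangular d := by
  intro k l h
  have h1 := aeval_intertwine φ (mem_CA.1 hφ) ((X - 1) ^ d l) (Pi.single l 1)
  rw [aeval_blk_single, AdjoinRoot.mk_self, Pi.single_zero, map_zero] at h1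
  have h2 := congrFun h1 k
  obtain ⟨p, hp⟩ := AdjoinRoot.mk_surjective (φ (Pi.single l 1) k)
  rw [aeval_blk_apply, ← hp, ← map_mul, eq_comm, Pi.zero_apply, AdjoinRoot.mk_eq_zero] at h2
  simp only [topM, Matrix.of_apply, evM_apply, ← hp, ev1_mk]
  obtain ⟨e, he⟩ := Nat.exists_eq_add_of_lt h
  rw [he, add_assoc, pow_add, mul_dvd_mul_iff_left (pow_ne_zero _ monic_X_sub_one.ne_zero)] at h2
  exact dvd_iff_isRoot.1 ((dvd_pow_self _ e.succ_ne_zero).trans h2)

theorem uE_nilpotent : IsNilpotent (uE F d - 1) :=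
  ⟨Finset.univ.sup d, by
    rw [← aeval_X_sub_one_pow (F := F), (hasED_blk _).aeval_eq_zero_iff]
    intro a ha
    obtain ⟨k, -, rfl⟩ := Multiset.mem_map.1 ha
    exact pow_dvd_pow _ (Finset.le_sup (Finset.mem_univ k))⟩

theorem isUnit_iff_topM {φ : End F (UM F d)} (hφ : φ ∈ CA F d) :
    IsUnit φ ↔ IsUnit (topM hd φ) := by
  rw [← Matrix.mulVec_surjective_iff_isUnit, LinearMap.isUnit_iff_range_eq_top,
    LinearMap.range_eq_top]
  constructor
  · intro h c
    obtain ⟨m, rfl⟩ := evM_surjective hd c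
    obtain ⟨m', rfl⟩ := h m
    exact ⟨_, (evM_comm hd hφ m').symm⟩
  · intro h
    have hN : ∀ m, φ ((uE F d - 1) m) = (uE F d - 1) (φ m) := fun m => by
      simp [mem_CA.1 hφ m]
    have key : ∀ (k : ℕ) m, ∃ r m', m = φ r + ((uE F d - 1) ^ k) m' := by
      intro k
      induction k with
      | zero => intro m; exact ⟨0, m, by simp⟩
      | succ k ih =>
        intro m
        obtain ⟨r, m', rfl⟩ := ih m
        obtain ⟨c, hc⟩ := h (evM hd m')
        obtain ⟨y, rfl⟩ := evM_surjective hd c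
        obtain ⟨z, hz⟩ := exists_of_evM_eq_zero hd (m := m' - φ y)
          (by rw [map_sub, evM_comm hd hφ, hc, sub_self])
        refine ⟨r + ((uE F d - 1) ^ k) y, z, ?_⟩
        rw [map_add, pow_intertwine φ hN, pow_succ, End.mul_apply, ← hz, map_sub]; abel
    intro m
    obtain ⟨k, hk⟩ := uE_nilpotent (F := F) (d := d)
    obtain ⟨r, m', h1⟩ := key k m
    exact ⟨r, by rw [h1, hk]; simp⟩

/-- the diagonal blocks of the top matrix -/
noncomputable def dl (D : ℕ) :
    CA F d →+* ∀ j : Fin D, Matrix {k // d k = j} {k // d k = j} F where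
  toFun φ j := (topM hd φ.1).toSquareBlock d j
  map_one' := by
    ext j k l
    simp [topM_one, Matrix.toSquareBlock_def, Matrix.one_apply, Subtype.ext_iff]
  map_mul' φ ψ := by
    ext1 j
    simp only [MulMemClass.coe_mul, topM_mul hd φ.2, Pi.mul_apply]
    exact toSquareBlock_mul (topM_triangular hd φ.2) (topM_triangular hd ψ.2) j
  map_zero' := by ext j k l; simp [topM, Matrix.toSquareBlock_def]
  map_add' φ ψ := by ext j k l; simp [topM, Matrix.toSquareBlock_def]

theorem dl_apply (D : ℕ) (φ : CA F d) (j : Fin D) (k l : {k // d k = j}) :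
    dl hd D φ j k l = ev1 (hd k) (φ.1 (Pi.single l.1 1) k) := rfl

theorem isUnit_iff_dl {D : ℕ} (hD : ∀ k, d k < D) (φ : CA F d) :
    IsUnit φ.1 ↔ ∀ j, IsUnit (dl hd D φ j) := by
  rw [isUnit_iff_topM hd φ.2, Matrix.isUnit_iff_isUnit_det, (topM_triangular hd φ.2).det,
    isUnit_iff_ne_zero, Finset.prod_ne_zero_iff]
  simp only [Matrix.isUnit_iff_isUnit_det, isUnit_iff_ne_zero]
  constructor
  · intro h j
    by_cases hj : (j : ℕ) ∈ Finset.univ.image d
    · exact h j hj
    · have : IsEmpty {k // d k = j} := ⟨fun k => hj (Finset.mem_image.2 ⟨k.1, by simp, k.2⟩)⟩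
      simp
  · intro h j hj
    obtain ⟨k, -, rfl⟩ := Finset.mem_image.1 hj
    exact h ⟨d k, hD k⟩

/-- a matrix which is block diagonal for `d` lifts to the centraliser algebra -/
theorem exists_lift (B : Matrix κ κ F) (hB : ∀ k l, d k ≠ d l → B k l = 0) :
    ∃ φ ∈ CA F d, ∀ l, φ (Pi.single l 1) = fun k => algebraMap F _ (B k l) := by
  obtain ⟨φ, h1, h2⟩ := exists_hom (fun k => (X - 1 : F[X]) ^ d k) (uE F d)
    (fun l k => algebraMap F _ (B k l)) (fun l => by
      ext k
      rw [aeval_blk_apply]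
      by_cases h : d k = d l
      · rw [← h, AdjoinRoot.mk_self]; simp
      · simp [hB k l h])
  exact ⟨φ, mem_CA.2 h1, h2⟩

theorem dl_surjective (D : ℕ) : Function.Surjective (dl (F := F) hd D) := by
  intro B
  let B' : Matrix κ κ F := fun k l =>
    if h : d k = d l ∧ d l < D then B ⟨d l, h.2⟩ ⟨k, h.1⟩ ⟨l, rfl⟩ else 0
  obtain ⟨φ, h1, h2⟩ := exists_lift B' (fun k l h => dif_neg (fun h' => h h'.1))
  refine ⟨⟨φ, h1⟩, ?_⟩
  ext ⟨j, hj⟩ ⟨k, hk⟩ ⟨l, hl⟩
  simp only at hk hl
  subst hl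
  rw [dl_apply]
  simp only [h2, AlgHom.commutes, B']
  rw [dif_pos ⟨hk, hj⟩]; rfl

omit hd in
theorem card_CA [Finite F] : Nat.card (CA F d) = Nat.card F ^ ∑ l, ∑ k, min (d k) (d l) := by
  have := card_hom (fun k => (X - 1 : F[X]) ^ d k) (uE F d)
  rw [Nat.card_congr (Equiv.subtypeEquivRight (fun φ => mem_CA (φ := φ))), this]
  congr 1
  refine Finset.sum_congr rfl (fun l _ => ?_)
  rw [uE, blk, kd_piMap]
  simp [kd_cyc_pow monic_X_sub_one.ne_zero, natDegree_X_sub_one]

theorem card_ker_dl [Finite F] (D : ℕ) :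
    Nat.card F ^ (∑ j : Fin D, Fintype.card {k // d k = j} ^ 2) *
      Nat.card {x // dl (F := F) hd D x = 0} = Nat.card F ^ ∑ l, ∑ k, min (d k) (d l) := by
  have h1 := card_preimage_mul (dl (F := F) hd D) (fun x y => map_add _ x y)
    (dl_surjective hd D)
    (fun _ => True)
  rw [Nat.card_congr (Equiv.subtypeUnivEquiv (fun _ => trivial)),
    Nat.card_congr (Equiv.subtypeUnivEquiv (fun _ => trivial)), card_CA, Nat.card_pi] at h1
  rw [h1, ← Finset.prod_pow_eq_pow_sum]
  congr 1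
  refine Finset.prod_congr rfl (fun j _ => ?_)
  rw [Module.natCard_eq_pow_finrank (K := F) (V := Matrix _ _ F), Module.finrank_matrix]
  simp [pow_two]

theorem card_GL_eq [Fintype F] (ι : Type*) [Fintype ι] [DecidableEq ι] :
    Nat.card {A : Matrix ι ι F // IsUnit A} =
      ∏ i : Fin (Fintype.card ι), (Fintype.card F ^ Fintype.card ι - Fintype.card F ^ (i : ℕ)) := by
  rw [← Matrix.card_GL_field]
  refine Nat.card_congr ((Submonoid.unitsTypeEquivIsUnitSubmonoid (M := Matrix ι ι F)).symm.toEquiv.trans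
    (Units.mapEquiv (Matrix.reindexAlgEquiv F F (Fintype.equivFin ι)).toMulEquiv).toEquiv)

include hd in
theorem card_CG_uE [Fintype F] {D : ℕ} (hD : ∀ k, d k < D) :
    Nat.card (CG (uE F d)) = (∏ j : Fin D, ∏ i : Fin (Fintype.card {k // d k = j}),
      (Fintype.card F ^ Fintype.card {k // d k = j} - Fintype.card F ^ (i : ℕ))) *
      Nat.card {x // dl (F := F) hd D x = 0} := by
  have h1 := card_preimage_mul (dl (F := F) hd D) (fun x y => map_add _ x y)
    (dl_surjective hd D)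
    (fun B => ∀ j, IsUnit (B j))
  rw [Nat.card_congr Equiv.subtypePiEquivPi, Nat.card_pi] at h1
  simp only [card_GL_eq] at h1
  rw [← h1, card_CG_eq]
  exact Nat.card_congr
    { toFun := fun φ => ⟨⟨φ.1, mem_CA.2 (DFunLike.congr_fun φ.2.1)⟩,
        (isUnit_iff_dl hd hD _).1 φ.2.2⟩
      invFun := fun φ => ⟨φ.1.1, LinearMap.ext (mem_CA.1 φ.1.2), (isUnit_iff_dl hd hD _).2 φ.2⟩
      left_inv := fun _ => rfl
      right_inv := fun _ => rfl }

end unip

theorem sum_min_eq {κ : Type*} [Fintype κ] (d : κ → ℕ) {D : ℕ} (hd : ∀ k, 0 < d k)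
    (hD : ∀ k, d k < D) (a : ℕ → ℕ) (ha : ∀ j, a j = (Finset.univ.filter (d · = j)).card) :
    ∑ l, ∑ k, min (d k) (d l) = ∑ j ∈ Finset.range D, a j ^ 2 +
      (2 * (∑ i ∈ Finset.range D, ∑ j ∈ Finset.range D, if i < j then i * a i * a j else 0) +
        ∑ i ∈ Finset.range D, (i - 1) * a i ^ 2) := by
  have h1 : ∀ f : ℕ → ℕ, ∑ k, f (d k) = ∑ j ∈ Finset.range D, a j * f j := by
    intro f
    rw [← Finset.sum_fiberwise_of_maps_to (t := Finset.range D) (g := d)
      (fun k _ => Finset.mem_range.2 (hD k))]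
    refine Finset.sum_congr rfl (fun j _ => ?_)
    rw [Finset.sum_congr rfl (g := fun _ => f j) (fun k hk => by
      rw [(Finset.mem_filter.1 hk).2]), Finset.sum_const, ha, smul_eq_mul]
  have h0 : a 0 = 0 := by
    rw [ha, Finset.card_eq_zero, Finset.filter_eq_empty_iff]
    exact fun k _ => (hd k).ne'
  have h2 : ∀ i j, a j * (a i * min i j) = (if i < j then i * a i * a j else 0) +
      (if j < i then j * a j * a i else 0) + if i = j then i * a i ^ 2 else 0 := by
    intro i j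
    rcases lt_trichotomy i j with h | rfl | h
    · simp [h, h.le, h.ne, h.not_gt]; ring
    · simp; ring
    · simp [h, h.le, h.ne', h.not_gt]; ring
  have h4 : ∑ l, ∑ k, min (d k) (d l) =
      ∑ j ∈ Finset.range D, ∑ i ∈ Finset.range D, a j * (a i * min i j) := by
    rw [h1 (fun y => ∑ k, min (d k) y)]
    refine Finset.sum_congr rfl (fun j _ => ?_)
    rw [h1 (fun x => min x j), Finset.mul_sum]
  rw [h4]
  simp only [h2, Finset.sum_add_distrib, Finset.sum_ite_eq', Finset.mem_range]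
  rw [Finset.sum_comm]
  have h3 : ∑ x ∈ Finset.range D, (if x < D then x * a x ^ 2 else 0) =
      ∑ j ∈ Finset.range D, a j ^ 2 + ∑ i ∈ Finset.range D, (i - 1) * a i ^ 2 := by
    rw [← Finset.sum_add_distrib]
    refine Finset.sum_congr rfl (fun j hj => ?_)
    rw [if_pos (Finset.mem_range.1 hj)]
    rcases j with _ | j
    · simp [h0]
    · simp; ring
  rw [h3]
  ring

theorem card_ker_dl_eq [Finite F] {κ : Type*} [Fintype κ] [DecidableEq κ] {d : κ → ℕ}
    (hd : ∀ k, 0 < d k) {D : ℕ} (hD : ∀ k, d k < D) (a : ℕ → ℕ)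
    (ha : ∀ j, a j = (Finset.univ.filter (d · = j)).card) :
    Nat.card {x // dl (F := F) hd D x = 0} = Nat.card F ^
      (2 * (∑ i ∈ Finset.range D, ∑ j ∈ Finset.range D, if i < j then i * a i * a j else 0) +
        ∑ i ∈ Finset.range D, (i - 1) * a i ^ 2) := by
  have h1 := card_ker_dl (F := F) hd D
  rw [sum_min_eq d hd hD a ha, pow_add] at h1
  simp only [Fintype.card_subtype, ← ha] at h1
  rw [Fin.sum_univ_eq_sum_range (fun j => a j ^ 2)] at h1
  exact Nat.eq_of_mul_eq_mul_left (pow_pos Nat.card_pos _) h1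

theorem card_CG_uE_eq [Fintype F] {κ : Type*} [Fintype κ] [DecidableEq κ] {d : κ → ℕ}
    (hd : ∀ k, 0 < d k) {D : ℕ} (hD : ∀ k, d k < D) (a : ℕ → ℕ)
    (ha : ∀ j, a j = (Finset.univ.filter (d · = j)).card) :
    Nat.card (CG (uE F d)) = Fintype.card F ^
      (2 * (∑ i ∈ Finset.range D, ∑ j ∈ Finset.range D, if i < j then i * a i * a j else 0) +
        ∑ i ∈ Finset.range D, (i - 1) * a i ^ 2) *
      ∏ j ∈ Finset.range D, ∏ i : Fin (a j), (Fintype.card F ^ a j - Fintype.card F ^ (i : ℕ)) := by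
  rw [card_CG_uE hd hD, card_ker_dl_eq hd hD a ha, Nat.card_eq_fintype_card, mul_comm]
  congr 1
  rw [← Fin.prod_univ_eq_prod_range (fun j => ∏ i : Fin (a j),
    (Fintype.card F ^ a j - Fintype.card F ^ (i : ℕ)))]
  refine Finset.prod_congr rfl (fun j _ => ?_)
  rw [Fintype.card_subtype, ← ha]

end CF.Cls
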