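/-
Invariant non-degenerate and totally singular subspaces of isometries.
-/
import Cfsg.Agent.Cls.SpO3
import Cfsg.Agent.Classical.EluD
import Cfsg.Agent.Geom.Levi

set_option autoImplicit false

namespace CF.Cls

open Polynomial Module CF.Geom CF.Classical

variable {F V W : Type*} [Field F] [AddCommGroup V] [Module F V] [AddCommGroup W] [Module F W]
  {σ : F →+* F} {B : V →ₛₗ[σ] V →ₗ[F] F} {Q : V → F}

/-- Isometries of a subspace. -/
abbrev IU (B : V →ₛₗ[σ] V →ₗ[F] F) (Q : V → F) (U : Submodule F V) : Subgroup (U ≃ₗ[F] U) :=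
  Isom (B.domRestrict₁₂ U U) (fun x : U => Q x)

/-- `g` stabilises a subspace with the property `P`. -/
def Fx (P : Submodule F V → Prop) (g : End F V) : Prop := ∃ U, P U ∧ ∀ u ∈ U, g u ∈ U

/-- `P` is invariant under isometries. -/
def Inv (B : V →ₛₗ[σ] V →ₗ[F] F) (Q : V → F) (P : Submodule F V → Prop) : Prop :=
  ∀ c ∈ Isom B Q, ∀ U, P U → P (U.map (c : V →ₗ[F] V))

/-- Totally singular subspaces of dimension `m`. -/
def TS (B : V →ₛₗ[σ] V →ₗ[F] F) (Q : V → F) (m : ℕ) (U : Submodule F V) : Prop :=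
  finrank F U = m ∧ (∀ u ∈ U, Q u = Q 0) ∧ U ≤ perp B U

/-- Hyperbolic subspaces of dimension `2 * m`. -/
def HypU (B : V →ₛₗ[σ] V →ₗ[F] F) (Q : V → F) (m : ℕ) (U : Submodule F V) : Prop :=
  Disjoint U (perp B U) ∧ finrank F U = 2 * m ∧ ∃ W ≤ U, TS B Q m W

variable {P : Submodule F V → Prop} {U U' : Submodule F V} {m : ℕ}

theorem fx_iff_map {g : End F V} : Fx P g ↔ ∃ U, P U ∧ U.map g ≤ U := by
  simp only [Fx, Submodule.map_le_iff_le_comap]; rfl

theorem Fx.smul {g : End F V} (h : Fx P g) (c : F) : Fx P (c • g) :=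
  let ⟨U, h1, h2⟩ := h; ⟨U, h1, fun u hu => U.smul_mem c (h2 u hu)⟩

theorem fx_smul_iff {g : End F V} {c : F} (hc : c ≠ 0) : Fx P (c • g) ↔ Fx P g :=
  ⟨fun h => by simpa [smul_smul, hc] using h.smul c⁻¹, fun h => h.smul c⟩

theorem Fx.of_isConj {x y : Isom B Q} (h : Fx P x.1.toLinearMap) (hP : Inv B Q P)
    (hc : IsConj x y) : Fx P y.1.toLinearMap := by
  obtain ⟨U, h1, h2⟩ := h
  obtain ⟨c, rfl⟩ := isConj_iff.1 hc
  refine ⟨_, hP c.1 c.2 U h1, ?_⟩
  rintro _ ⟨u, hu, rfl⟩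
  exact ⟨_, h2 u hu, by simp⟩

theorem inv_TS [FiniteDimensional F V] : Inv B Q (TS B Q m) := fun c hc U hU =>
  ⟨(LinearEquiv.finrank_map_eq c U).trans hU.1, by
    rintro _ ⟨u, hu, rfl⟩
    exact (hc.2 u).trans (hU.2.1 u hu), map_perp hc.1 U ▸ Submodule.map_mono hU.2.2⟩

theorem disjoint_map_perp {c : V ≃ₗ[F] V} (hc : c ∈ Isom B Q) (h : Disjoint U (perp B U)) :
    Disjoint (U.map (c : V →ₗ[F] V)) (perp B (U.map (c : V →ₗ[F] V))) := by
  rw [← map_perp hc.1, disjoint_iff, ← Submodule.map_inf _ c.injective, h.eq_bot,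
    Submodule.map_bot]

/-- The sum of two independent subspaces. -/
noncomputable def supEquiv (h : Disjoint U U') : (U × U') ≃ₗ[F] ↥(U ⊔ U') :=
  LinearEquiv.ofBijective ((Submodule.inclusion le_sup_left).coprod
    (Submodule.inclusion le_sup_right)) ⟨(injective_iff_map_eq_zero _).2 fun x hx => by
      have h1 : (x.1 : V) + x.2 = 0 := congrArg Subtype.val hx
      have h2 := Submodule.disjoint_def.1 h _ x.1.2
        (eq_neg_of_add_eq_zero_left h1 ▸ U'.neg_mem x.2.2)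
      exact Prod.ext (Subtype.ext h2) (Subtype.ext (by simpa [h2] using h1)), fun x => by
      obtain ⟨y, hy, z, hz, h⟩ := Submodule.mem_sup.1 x.2
      exact ⟨(⟨y, hy⟩, ⟨z, hz⟩), Subtype.ext h⟩⟩

@[simp] theorem supEquiv_apply (h : Disjoint U U') (x : U × U') :
    (supEquiv h x : V) = x.1 + x.2 := rfl

variable [FiniteDimensional F V] [FiniteDimensional F W]

theorem finrank_sup_of_disjoint (h : Disjoint U U') :
    finrank F ↥(U ⊔ U') = finrank F U + finrank F U' := by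
  rw [← (supEquiv h).finrank_eq, finrank_prod]

theorem nt_add {W' : Type*} [AddCommGroup W'] [Module F W'] [FiniteDimensional F W'] {f : End F V}
    {g : End F W} {k : End F W'} (h : ed f = ed g + ed k) : nt f = nt g + nt k := by
  simp only [nt, h, Multiset.filter_add]

section Glue

variable (h : IsWittPair σ B Q) (hU : Disjoint U (perp B U))

/-- The sum of isometries of a subspace and its orthogonal complement. -/
noncomputable def glue : IU B Q U × IU B Q (perp B U) →* Isom B Q := (h.orthDecomp hU).hom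

theorem glue_apply (x : IU B Q U × IU B Q (perp B U)) (u : U) (w : perp B U) :
    (glue h hU x).1 (u + w) = x.1.1 u + x.2.1 w := by
  simpa [glue] using (h.orthDecomp hU).hom_apply x u w

theorem glue_left (x : IU B Q U × IU B Q (perp B U)) (u : U) : (glue h hU x).1 u = x.1.1 u := by
  simpa using glue_apply h hU x u 0

theorem glue_right (x : IU B Q U × IU B Q (perp B U)) (w : perp B U) :
    (glue h hU x).1 w = x.2.1 w := by
  simpa using glue_apply h hU x 0 w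

theorem glue_injective : Function.Injective (glue h hU) := (h.orthDecomp hU).hom_injective

theorem glue_mem (x : IU B Q U × IU B Q (perp B U)) (u : V) (hu : u ∈ U) :
    (glue h hU x).1 u ∈ U := glue_left h hU x ⟨u, hu⟩ ▸ (x.1.1 ⟨u, hu⟩).2

theorem sim_glue (x : IU B Q U × IU B Q (perp B U)) :
    Sim (x.1.1.toLinearMap.prodMap x.2.1.toLinearMap : End F (U × perp B U))
      (glue h hU x).1.toLinearMap :=
  ⟨U.prodEquivOfIsCompl _ (h.isCompl_perp hU), fun v => by simp [glue_left, glue_right]⟩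

theorem ed_glue (x : IU B Q U × IU B Q (perp B U)) :
    ed (glue h hU x).1.toLinearMap = ed x.1.1.toLinearMap + ed x.2.1.toLinearMap := by
  rw [← sim_iff_ed.1 (sim_glue h hU x), ed_prodMap]

theorem exists_glue (g : Isom B Q) (hg : ∀ u ∈ U, g.1 u ∈ U) : ∃ x, glue h hU x = g := by
  have := (h.orthDecomp hU).range_hom (h.restrict hU).nondegenerate
  rw [left_prodEquivOfIsCompl] at this
  exact MonoidHom.mem_range.1 (this ▸ mem_stabSet_iff_le.2 hg : g ∈ (h.orthDecomp hU).hom.range)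

theorem glue_pow_eq_one {x : IU B Q U × IU B Q (perp B U)} {r : ℕ} :
    glue h hU x ^ r = 1 ↔ x.1 ^ r = 1 ∧ x.2 ^ r = 1 := by
  rw [← map_pow, map_eq_one_iff _ (glue_injective h hU), Prod.ext_iff]; rfl

include h hU in
theorem card_eq_mul_nondeg (hP : ∀ W, P W ↔ ∃ g ∈ Isom B Q, U.map (g : V →ₗ[F] V) = W) :
    Nat.card (Isom B Q) =
      Nat.card {W // P W} * (Nat.card (IU B Q U) * Nat.card (IU B Q (perp B U))) := by
  obtain ⟨e⟩ := h.nonempty_stabEquiv hU
  rw [card_eq_mul_card_stabSet _ U P hP, Nat.card_congr e.toEquiv, Nat.card_prod]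

end Glue

section Pair

variable (hσ : ∀ x, σ (σ x) = x) {A : V →ₛₗ[σ] W →ₗ[F] F} (h1 : ∀ v, (∀ w, A v w = 0) → v = 0)
  (hd : finrank F V = finrank F W)
include hσ h1 hd

theorem exists_pair : ∃ (B₀ : V →ₛₗ[σ] V →ₗ[F] F) (_ : EH σ 1 B₀) (S : V ≃ₗ[F] V)
    (ψ : V ≃ₗ[F] W), ∀ u v, A u (ψ v) = B₀ (S u) v := by
  obtain ⟨B₀, h⟩ := exists_eh_one hσ V
  let ψ := LinearEquiv.ofFinrankEq V W hd
  obtain ⟨S, hS⟩ := h.exists_rep (A.compl₂ ψ.toLinearMap)
  refine ⟨B₀, h, LinearEquiv.ofInjectiveEndo S ((injective_iff_map_eq_zero _).2 fun u hu =>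
    h1 u fun w => ?_), ψ, fun u v => (hS u v).symm⟩
  simpa [hu] using (hS u (ψ.symm w)).symm

theorem ed_of_pair {f : End F V} {g : End F W} (h : ∀ v w, A (f v) (g w) = A v w) :
    ed g = (ed f).map (cr σ) := by
  obtain ⟨B₀, h0, S, ψ, hS⟩ := exists_pair hσ h1 hd
  rw [sim_iff_ed.1 (Sim.of_conj ψ.symm g), sim_iff_ed.1 (Sim.of_conj S f)]
  refine h0.ed_inv_adj (LinearMap.ext fun v => h0.ext_right fun u => ?_)
  obtain ⟨u, rfl⟩ := S.surjective u
  rw [End.mul_apply, h0.adj_right]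
  simp [LinearEquiv.conj_apply, ← hS, h]

theorem exists_dual (f : V ≃ₗ[F] V) : ∃ g : W ≃ₗ[F] W, ∀ v w, A (f v) (g w) = A v w := by
  obtain ⟨B₀, h0, S, ψ, hS⟩ := exists_pair hσ h1 hd
  let k := h0.adj (S.conj f.symm.toLinearMap)
  have hk : ∀ u v, B₀ (S (f u)) (k v) = B₀ (S u) v := fun u v => by
    rw [h0.adj_right]; simp [LinearEquiv.conj_apply]
  refine ⟨ψ.symm.trans ((LinearEquiv.ofInjectiveEndo k ((injective_iff_map_eq_zero _).2
    fun v hv => h0.nondeg' v fun u => ?_)).trans ψ), fun v w => ?_⟩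
  · obtain ⟨u, rfl⟩ := S.surjective u
    rw [← hk, hv, map_zero]
  · obtain ⟨w, rfl⟩ := ψ.surjective w
    simp [hS, hk]

end Pair

theorem pair_facts (h : IsWittPair σ B Q) (hU : U ≤ perp B U) (hc : IsCompl U' (perp B U)) :
    Disjoint U U' ∧ finrank F U = finrank F U' ∧ Disjoint (U ⊔ U') (perp B (U ⊔ U')) ∧
      ∀ v : U, (∀ w : U', B.domRestrict₁₂ U U' v w = 0) → v = 0 := by
  have h1 : ∀ v ∈ U, (∀ w ∈ U', B v w = 0) → v = 0 := fun v hv hw => h.nondeg v fun y => by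
    obtain ⟨a, ha, b, hb, rfl⟩ := Submodule.mem_sup.1 (hc.sup_eq_top ▸ Submodule.mem_top :
      y ∈ U' ⊔ perp B U)
    rw [map_add, hw a ha, mem_perp.1 hb v hv, add_zero]
  have h2 := h.finrank_perp U
  have h3 := Submodule.finrank_add_eq_of_isCompl hc
  refine ⟨(hc.disjoint.mono_right hU).symm, by omega, Submodule.disjoint_def.2 fun x hx hx' => ?_,
    fun v hv => Subtype.ext (h1 v v.2 fun w hw => hv ⟨w, hw⟩)⟩
  obtain ⟨a, ha, b, hb, rfl⟩ := Submodule.mem_sup.1 hx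
  rw [perp_sup] at hx'
  have h4 : b = 0 := Submodule.disjoint_def.1 hc.disjoint b hb
    (by simpa using (perp B U).sub_mem hx'.1 (hU ha))
  subst h4
  simpa using h1 a ha fun w hw => h.refl (by simpa using mem_perp.1 hx'.2 w hw)

theorem exists_hypU_of_inv (h : IsWittPair σ B Q) (hσ : ∀ x, σ (σ x) = x) (g : Isom B Q)
    (hs : End.IsSemisimple g.1.toLinearMap) (hU : TS B Q m U)
    (hg : ∀ u ∈ U, g.1.toLinearMap u ∈ U) : ∃ H, ∃ hH : HypU B Q m H, ∃ x, glue h hH.1 x = g ∧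
      ed x.1.1.toLinearMap = ed (g.1.toLinearMap.restrict hg) +
        (ed (g.1.toLinearMap.restrict hg)).map (cr σ) := by
  have h1 := mem_stabSet_iff_le.1 (mem_stabSet_perp (mem_stabSet_iff_le.2 hg))
  obtain ⟨U', h2, h3⟩ := End.isSemisimple_iff.1 hs (perp B U) h1
  obtain ⟨h4, h5, h6, h7⟩ := pair_facts h hU.2.2 h3.symm
  have h8 : ∀ u ∈ U', g.1.toLinearMap u ∈ U' := h2
  obtain ⟨x, hx⟩ := exists_glue h h6 g fun u hu => by
    obtain ⟨a, ha, b, hb, rfl⟩ := Submodule.mem_sup.1 hu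
    rw [map_add]
    exact Submodule.add_mem_sup (hg a ha) (h8 b hb)
  refine ⟨_, ⟨h6, by rw [finrank_sup_of_disjoint h4, ← h5, hU.1, two_mul], U, le_sup_left, hU⟩,
    x, hx, ?_⟩
  rw [← ed_of_pair hσ h7 h5 (g := g.1.toLinearMap.restrict h8) fun v w => g.2.1 v w, ← ed_prodMap]
  refine (sim_iff_ed.1 ⟨supEquiv h4, fun v => Subtype.ext ?_⟩).symm
  rw [LinearEquiv.coe_coe, ← glue_left h h6, hx]
  simp

theorem exists_levi (h : IsWittPair σ B Q) (hσ : ∀ x, σ (σ x) = x) (hU : TS B Q m U) :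
    ∃ H, HypU B Q m H ∧ U ≤ H ∧ ∀ f : U ≃ₗ[F] U, ∃ g : IU B Q H,
      (∀ u : H, u.1 ∈ U → (g.1 u).1 ∈ U) ∧
        ed g.1.toLinearMap = ed f.toLinearMap + (ed f.toLinearMap).map (cr σ) := by
  obtain ⟨e, e', hf, rfl⟩ := h.exists_hypFrame_span hU.2.1 hU.2.2 hU.1
  have h1 := IsWittPair.span_le_perp_span (B := B) hf.ff
  have h2 := hf.disjoint h
  rw [hypSpan_eq_sup] at h2
  have h3 : IsCompl (Submodule.span F (Set.range e')) (perp B (Submodule.span F (Set.range e))) := by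
    have := h.finrank_perp (Submodule.span F (Set.range e))
    have h4 := finrank_span_eq_card (hf.linearIndependent_right h)
    refine (Submodule.isCompl_iff_disjoint _ _ (by
      have := hU.1; rw [h4, Fintype.card_fin]; omega)).2
      (Submodule.disjoint_def.2 fun x hx hx' => Submodule.disjoint_def.1 h2 x
        (Submodule.mem_sup_right hx) ?_)
    rw [perp_sup]
    exact ⟨hx', h1 hx⟩
  obtain ⟨h4, h5, h6, h7⟩ := pair_facts h hU.2.2 h3
  refine ⟨_, ⟨h6, by rw [finrank_sup_of_disjoint h4, ← h5, hU.1, two_mul], _, le_sup_left, hU⟩,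
    le_sup_left, fun f => ?_⟩
  obtain ⟨g, hg⟩ := exists_dual hσ h7 h5 f
  replace hg : ∀ v w, B (f v : V) (g w : V) = B v w := hg
  have h8 := fun x hx => h.singular_of_mem_span hf.qf hf.ff (x := x) hx
  refine ⟨⟨(supEquiv h4).symm.trans ((f.prodCongr g).trans (supEquiv h4)), fun u v => ?_,
    fun u => ?_⟩, fun u hu => ?_, ?_⟩
  · obtain ⟨⟨a, b⟩, rfl⟩ := (supEquiv h4).surjective u
    obtain ⟨⟨a', b'⟩, rfl⟩ := (supEquiv h4).surjective v
    simp [LinearMap.domRestrict₁₂_apply, hg, h.symm _ _ _ _ (hg a' b),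
      mem_perp.1 (hU.2.2 (f a').2) _ (f a).2, mem_perp.1 (hU.2.2 a'.2) _ a.2,
      mem_perp.1 (h1 (g b').2) _ (g b).2, mem_perp.1 (h1 b'.2) _ b.2]
  · obtain ⟨⟨a, b⟩, rfl⟩ := (supEquiv h4).surjective u
    simpa using h.add _ _ _ _ ((hU.2.1 _ (f a).2).trans (hU.2.1 _ a.2).symm)
      ((h8 _ (g b).2).trans (h8 _ b.2).symm) (hg a b)
  · rw [show u = supEquiv h4 (⟨u, hu⟩, 0) from Subtype.ext (by simp)]
    simp
  · rw [← ed_of_pair hσ h7 h5 (g := g.toLinearMap) fun v w => hg v w, ← ed_prodMap]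
    exact (sim_iff_ed.1 ⟨supEquiv h4, fun v => by simp⟩).symm

theorem card_TS_dvd (h : IsWittPair σ B Q) (hH : HypU B Q m U) :
    Nat.card {W // TS B Q m W} * Nat.card (IU B Q (perp B U)) ∣ Nat.card (Isom B Q) := by
  obtain ⟨h1, -, W, h2, h3⟩ := hH
  rw [h.card_eq_mul_totally_singular h3.2.1 h3.2.2 h3.1, ← h.card_fixSub_nondeg h1,
    ← Nat.card_congr (Subgroup.subgroupOfEquivOfLe (H := fixSub (Isom B Q) U) (K := Isom B Q)
      fun _ hg => hg.1).toEquiv]
  exact mul_dvd_mul_left _ (Subgroup.card_dvd_of_le fun g hg =>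
    mem_stabSet_iff_le.2 fun w hw => (hg.2 w (h2 hw)).symm ▸ hw)

theorem not_dvd_card_TS [Fintype F] (p : ℕ) [hp : Fact p.Prime] [CharP F p] (h : IsWittPair σ B Q)
    {s : ℕ} (hs : SlideCard B Q s) (hU : TS B Q m U) (h1 : p ∣ s ∨ 2 * m < finrank F V) :
    ¬ p ∣ Nat.card {W // TS B Q m W} := by
  have : Finite V := Module.finite_of_finite F
  have : Finite (V ≃ₗ[F] V) := DFunLike.finite _
  have h2 := h.card_eq_mul_totally_singular hU.2.1 hU.2.2 hU.1
  rw [h.card_stabSet_totally_singular hU.2.1 hU.2.2 hU.1] at h2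
  obtain ⟨e, f, hf, rfl⟩ := h.exists_hypFrame_span hU.2.1 hU.2.2 hU.1
  have h3 := hf.card_fixSub_left h hs (Z := ⊥) (by rw [perp_bot]; exact le_top)
  have h4 := hf.card_fixSub_eq h hs (Z := ⊥) disjoint_bot_left (by rw [perp_bot]; exact le_top)
    rfl rfl
  have h5 := hf.finrank_perp h
  have h6 := prod_pow_sub_pow (Nat.card F) (le_refl m)
  have h0 : 0 < Nat.card (Isom B Q) := Nat.card_pos
  rw [fixSub_bot, bot_sup_eq] at h4
  rw [bot_sup_eq, bot_sup_eq] at h3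
  rw [Nat.sub_self, show qq (Nat.card F) 0 = 1 from rfl, mul_one] at h6
  rw [Fintype.card_fin] at h5
  generalize finrank F (perp B (hypSpan F e f)) = D at *
  have h7 : ∏ j ∈ Finset.range m, Nat.card F ^ (D + 2 * j) * s =
      s ^ m * Nat.card F ^ (m * D + m * (m - 1) / 2) * Nat.card F ^ (∑ j ∈ Finset.range m, j) := by
    rw [Finset.prod_mul_distrib, Finset.prod_pow_eq_pow_sum, Finset.sum_add_distrib,
      ← Finset.mul_sum, ← Finset.sum_range_id]
    simp; ring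
  rw [Finset.prod_mul_distrib, h7] at h4
  rw [h3, h6, h4] at h2
  rw [h4, mul_assoc] at h0
  have h8 := Nat.eq_of_mul_eq_mul_right (k := Nat.card {W // TS B Q m W} * qq (Nat.card F) m)
    (Nat.pos_of_mul_pos_left h0) ((mul_assoc _ _ _).symm.trans (h2.trans (by unfold TS; ring)))
  intro h9
  obtain ⟨j, -, hj⟩ := (hp.out.prime.dvd_finsetProd_iff _).1 (h8 ▸ h9.mul_right _)
  have h10 : p ∣ Nat.card F := Nat.card_eq_fintype_card (α := F) ▸ char_dvd_card p
  have h11 := card_ne_zero_add_one (B := B) (Q := Q) (hypSpan F e f)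
  refine hp.out.not_dvd_one ((Nat.dvd_sub_iff_right (Nat.one_le_iff_ne_zero.2 (by
    rw [← h11]; have : 0 < Nat.card F := Nat.card_pos; positivity)) (dvd_add
      (dvd_mul_of_dvd_left (dvd_pow h10 j.succ_ne_zero) _) (dvd_mul_of_dvd_left ?_ _))).1 hj)
  exact h1.elim (fun h => h.mul_right _) fun h => (dvd_pow h10 (by omega)).mul_left _

end CF.Cls
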