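/-
Invariant subspaces of isometries of odd prime order.
-/
import Cfsg.Agent.Cls.El1

set_option autoImplicit false

namespace CF.Cls

open Polynomial Module CF.Geom CF.Classical Multiset

section Comb

variable {α : Type*} {Φ : Finset α} {ι : α → α} {w T : ℕ} {s : Multiset α}

/-- An involution on a finite set that is fixed point free or trivial. -/
structure CB (Φ : Finset α) (ι : α → α) (w T : ℕ) : Prop where
  mem : ∀ a ∈ Φ, ι a ∈ Φ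
  inv : ∀ a ∈ Φ, ι (ι a) = a
  ne : Φ.Nonempty
  cs : (w = 2 ∧ T = 1 ∧ ∀ a ∈ Φ, ι a ≠ a) ∨ (w = 1 ∧ T = Φ.card ∧ ∀ a ∈ Φ, ι a = a)

/-- Stable multisets. -/
def Sb (Φ : Finset α) (ι : α → α) (s : Multiset α) : Prop := (∀ a ∈ s, a ∈ Φ) ∧ s.map ι = s

theorem sb_zero : Sb Φ ι 0 := ⟨by simp, rfl⟩

theorem Sb.add {s' : Multiset α} (h : Sb Φ ι s) (h' : Sb Φ ι s') : Sb Φ ι (s + s') :=
  ⟨fun a ha => (mem_add.1 ha).elim (h.1 a) (h'.1 a), by rw [Multiset.map_add, h.2, h'.2]⟩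

theorem Sb.of_add {s' : Multiset α} (h : Sb Φ ι (s + s')) (h' : Sb Φ ι s) : Sb Φ ι s' :=
  ⟨fun a ha => h.1 a (mem_add.2 (.inr ha)), by
    have := h.2; rwa [Multiset.map_add, h'.2, add_right_inj] at this⟩

namespace CB

variable (h : CB Φ ι w T)
include h

theorem sb_add_map (hs : ∀ a ∈ s, a ∈ Φ) : Sb Φ ι (s + s.map ι) :=
  ⟨fun a ha => (mem_add.1 ha).elim (hs a) fun ha => by
    obtain ⟨b, hb, rfl⟩ := mem_map.1 ha
    exact h.mem b (hs b hb), by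
    rw [Multiset.map_add, map_map, add_comm, map_congr rfl (f := ι ∘ ι) (g := id) fun a ha => h.inv a (hs a ha),
      map_id]⟩

theorem w_pos : 0 < w := by rcases h.cs with h | h <;> omega

theorem T_pos : 0 < T := by
  have := h.ne.card_pos
  rcases h.cs with h | h <;> omega

theorem pair (hs : Sb Φ ι s) (h1 : T < card s ∨ (w = 2 ∧ s ≠ 0)) :
    ∃ a ∈ Φ, ∃ s', s = {a} + map ι {a} + s' ∧ Sb Φ ι s' := by
  suffices ∃ a ∈ s, {a} + map ι {a} ≤ s by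
    obtain ⟨a, h2, h3⟩ := this
    obtain ⟨s', rfl⟩ := Multiset.le_iff_exists_add.1 h3
    exact ⟨a, hs.1 a h2, s', rfl, hs.of_add (h.sb_add_map (by simpa using hs.1 a h2))⟩
  rcases h.cs with ⟨-, rfl, h2⟩ | ⟨rfl, rfl, h2⟩
  · obtain ⟨a, ha⟩ := exists_mem_of_ne_zero (h1.elim (by rintro h rfl; simp at h) (·.2))
    refine ⟨a, ha, (le_iff_subset (by simpa using (h2 a (hs.1 a ha)).symm)).2 fun b hb => ?_⟩
    rcases (by simpa using hb : b = a ∨ b = ι a) with rfl | rfl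
    exacts [ha, hs.2 ▸ mem_map_of_mem ι ha]
  · have h3 : ¬ s.Nodup := fun h3 => by
      have := card_le_card ((le_iff_subset h3).2 hs.1 : s ≤ Φ.val)
      simp at this h1; omega
    obtain ⟨a, ha⟩ := by simpa only [nodup_iff_le, not_forall, not_not] using h3
    have h4 := mem_of_le ha (mem_cons_self _ _)
    exact ⟨a, h4, by rwa [map_singleton, h2 a (hs.1 a h4)]⟩

theorem block (hs : Sb Φ ι s) (h1 : s ≠ 0) :
    ∃ b s', s = b + s' ∧ Sb Φ ι b ∧ Sb Φ ι s' ∧ card b = w := by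
  rcases h.cs with ⟨rfl, -, -⟩ | ⟨rfl, -, h2⟩
  · obtain ⟨a, h2, s', h3, h4⟩ := h.pair hs (.inr ⟨rfl, h1⟩)
    exact ⟨_, s', h3, h.sb_add_map (by simpa using h2), h4, by simp⟩
  · obtain ⟨a, ha⟩ := exists_mem_of_ne_zero h1
    obtain ⟨s', rfl⟩ := exists_cons_of_mem ha
    have h3 : Sb Φ ι {a} := ⟨by simpa using hs.1 a ha, by simp [h2 a (hs.1 a ha)]⟩
    exact ⟨{a}, s', rfl, h3, Sb.of_add hs h3, rfl⟩

theorem dvd (hs : Sb Φ ι s) : w ∣ card s := by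
  induction hn : card s using Nat.strong_induction_on generalizing s with
  | _ n ih =>
    by_cases h1 : s = 0
    · simp [← hn, h1]
    obtain ⟨b, s', rfl, -, h2, h3⟩ := h.block hs h1
    have := h.w_pos
    rw [card_add, h3] at hn
    exact hn ▸ dvd_add dvd_rfl (ih _ (by omega) h2 rfl)

theorem split (k : ℕ) (hs : Sb Φ ι s) (h1 : w * k ≤ card s) :
    ∃ s₁ s₂, s = s₁ + s₂ ∧ Sb Φ ι s₁ ∧ Sb Φ ι s₂ ∧ card s₁ = w * k := by
  induction k generalizing s with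
  | zero => exact ⟨0, s, by simp, sb_zero, hs, rfl⟩
  | succ k ih =>
    have := h.w_pos
    rw [mul_add_one] at h1 ⊢
    obtain ⟨b, s', rfl, h2, h3, h4⟩ := h.block hs (by rintro rfl; simp at h1; omega)
    obtain ⟨s₁, s₂, rfl, h5, h6, h7⟩ := ih h3 (by rw [card_add] at h1; omega)
    exact ⟨b + s₁, s₂, (add_assoc _ _ _).symm, h2.add h5, h6, by rw [card_add]; omega⟩

theorem hyp (j : ℕ) (hs : Sb Φ ι s) (h1 : j = 0 ∨ 2 * j + T ≤ card s + 1) :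
    ∃ s₀ s₂, s = s₀ + s₀.map ι + s₂ ∧ (∀ a ∈ s₀, a ∈ Φ) ∧ Sb Φ ι s₂ ∧ card s₀ = j := by
  induction j generalizing s with
  | zero => exact ⟨0, s, by simp, by simp, hs, rfl⟩
  | succ j ih =>
    obtain ⟨a, h2, s', rfl, h3⟩ := h.pair hs (.inl (by omega))
    obtain ⟨s₀, s₂, rfl, h4, h5, h6⟩ := ih h3 (by simp at h1 ⊢; omega)
    exact ⟨{a} + s₀, s₂, by rw [Multiset.map_add]; abel, by simpa using ⟨h2, h4⟩, h5, by
      simp [h6, add_comm]⟩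

theorem sharp (k : ℕ) : ∃ s, Sb Φ ι s ∧ card s = w * k ∧ ∀ s₀ s₂, s = s₀ + s₀.map ι + s₂ →
    card s₀ = 0 ∨ 2 * card s₀ + T ≤ card s + 1 := by
  classical
  obtain ⟨a, ha⟩ := h.ne
  rcases h.cs with ⟨rfl, rfl, -⟩ | ⟨rfl, rfl, h2⟩
  · refine ⟨_, h.sb_add_map (s := replicate k a) fun b hb => eq_of_mem_replicate hb ▸ ha, by
      simp [two_mul], fun s₀ s₂ h1 => .inr ?_⟩
    rw [h1]; simp; omega
  obtain ⟨u, l, h3, h4, h5⟩ : ∃ u l, u ≤ Φ.card ∧ u + 2 * l = k ∧ (l = 0 ∨ Φ.card ≤ u + 1) := by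
    have := h.T_pos
    by_cases h3 : k ≤ Φ.card
    · exact ⟨k, 0, h3, rfl, .inl rfl⟩
    · exact ⟨k - 2 * ((k + 1 - Φ.card) / 2), (k + 1 - Φ.card) / 2, by omega, by omega, by omega⟩
  obtain ⟨Ψ, h6, rfl⟩ := Finset.exists_subset_card_eq h3
  have h7 : ∀ b ∈ Ψ.val + replicate (2 * l) a, b ∈ Φ := fun b hb =>
    (mem_add.1 hb).elim (fun h => h6 h) fun h => eq_of_mem_replicate h ▸ ha
  refine ⟨_, ⟨h7, (map_congr rfl fun b hb => h2 b (h7 b hb)).trans (map_id' _)⟩, by simp [h4],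
    fun s₀ s₂ h1 => ?_⟩
  rw [(map_congr rfl fun b hb => h2 b (h7 b (by rw [h1]; simp [hb]))).trans (map_id' s₀)] at h1
  have h8 : Ψ.val ≤ s₂ := (le_iff_subset Ψ.nodup).2 fun b hb => by
    have := congrArg (count b) h1
    simp only [count_add, count_eq_one_of_mem Ψ.nodup hb, count_replicate] at this
    rw [← count_pos]
    split_ifs at this <;> omega
  have h9 := card_le_card h8
  have := congrArg card h1
  simp at this h9 ⊢
  rw [← card_eq_zero]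
  omega

end CB

theorem forall_hyp_iff_two {K K' M : ℕ} : (∀ k, 1 ≤ k → k ≤ K → ∃ j,
    (j = 0 ∨ 2 * j + 1 ≤ 2 * k + 1) ∧ j ≤ M ∧ 2 * k ≤ 2 * j + 2 * K') ↔ K ≤ M + K' :=
  ⟨fun h => by_contra fun h1 => by obtain ⟨j, -, h2⟩ := h K (by omega) le_rfl; omega,
    fun h k _ _ => ⟨min k M, by omega⟩⟩

theorem forall_hyp_iff_one {K K' M : ℕ} (hT : 0 < T) (h0 : K' < K) : (∀ k, 1 ≤ k → k ≤ K → ∃ j,
    (j = 0 ∨ 2 * j + T ≤ 1 * k + 1) ∧ j ≤ M ∧ 1 * k ≤ 2 * j + 1 * K') ↔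
      T ≤ K' ∧ K ≤ K' + 2 * M :=
  ⟨fun h => by
    obtain ⟨j, h2⟩ := h K (by omega) le_rfl
    obtain ⟨j', h3⟩ := h (K' + 1) (by omega) h0
    omega, fun h k _ _ => ⟨(k + 1 - K') / 2, by omega⟩⟩

end Comb

variable {F V : Type*} [Field F] [AddCommGroup V] [Module F V] [FiniteDimensional F V]
  {σ : F →+* F} {B : V →ₛₗ[σ] V →ₗ[F] F} {Q : V → F}

/-- The data of elements of order `r` in `G`. -/
def RzK (σ : F →+* F) (G : Subgroup (V ≃ₗ[F] V)) (r K : ℕ) : Prop :=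
  ∀ s, (∃ g : G, g ^ r = 1 ∧ nt g.1.toLinearMap = s) ↔ Sb (facs F r) (cr σ) s ∧ card s ≤ K

/-- Similar elements of order `r` are conjugate. -/
def UQ (G : Subgroup (V ≃ₗ[F] V)) (r : ℕ) : Prop :=
  ∀ x y : G, x ^ r = 1 → Sim x.1.toLinearMap y.1.toLinearMap → IsConj x y

theorem nt_one : nt (1 : End F V) = 0 := eq_zero_of_forall_notMem fun a ha =>
  (mem_nt.1 ha).2 (eq_of_mem_replicate (ed_one (F := F) (V := V) ▸ (mem_nt.1 ha).1))

variable {P : Submodule F V → Prop} {r w T K K₁ K₂ m : ℕ} (hC : CB (facs F r) (cr σ) w T)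
  (h : IsWittPair σ B Q) (hu : UQ (Isom B Q) r)
include hC h

theorem card_nt_le_of_fx (hP : ∀ U, P U → Disjoint U (perp B U) ∧ RzK σ (IU B Q U) r K₁ ∧
    RzK σ (IU B Q (perp B U)) r K₂) {g : Isom B Q} (hg : g ^ r = 1) (h1 : Fx P g.1.toLinearMap) :
    card (nt g.1.toLinearMap) ≤ K₁ + K₂ := by
  obtain ⟨U, h2, h3⟩ := h1
  obtain ⟨h4, h5, h6⟩ := hP U h2
  obtain ⟨x, rfl⟩ := exists_glue h h4 g h3
  rw [glue_pow_eq_one] at hg
  rw [nt_add (ed_glue h h4 x), card_add]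
  exact add_le_add ((h5 _).1 ⟨_, hg.1, rfl⟩).2 ((h6 _).1 ⟨_, hg.2, rfl⟩).2

include hu in
theorem fx_of_card_nt_le (hP : Inv B Q P) {U : Submodule F V} (h2 : P U)
    (h4 : Disjoint U (perp B U)) (h5 : RzK σ (IU B Q U) r (w * K₁))
    (h6 : RzK σ (IU B Q (perp B U)) r (w * K₂)) {g : Isom B Q}
    (hs : Sb (facs F r) (cr σ) (nt g.1.toLinearMap))
    (h1 : card (nt g.1.toLinearMap) ≤ w * (K₁ + K₂)) : Fx P g.1.toLinearMap := by
  obtain ⟨k, hk⟩ := hC.dvd hs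
  obtain ⟨s₁, s₂, h7, h8, h9, h10⟩ := hC.split (min k K₁) hs
    (hk ▸ Nat.mul_le_mul_left w (min_le_left _ _))
  obtain ⟨x, hx, rfl⟩ := (h5 _).2 ⟨h8, h10 ▸ Nat.mul_le_mul_left w (min_le_right _ _)⟩
  obtain ⟨y, hy, rfl⟩ := (h6 _).2 ⟨h9, by
    rw [h7, card_add, h10] at hk h1
    rcases le_total k K₁ with h | h
    · rw [min_eq_left h] at hk; omega
    · rw [min_eq_right h, mul_add] at h1; omega⟩
  exact Fx.of_isConj ⟨U, h2, glue_mem h h4 (x, y)⟩ hP (hu _ _ ((glue_pow_eq_one h h4).2 ⟨hx, hy⟩)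
    ((sim_iff_nt rfl).2 ((nt_add (ed_glue h h4 (x, y))).trans h7.symm)))

include hu in
theorem forall_fx_iff (hK : RzK σ (Isom B Q) r (w * K)) (hP : Inv B Q P) (h0 : ∃ U, P U)
    (hP' : ∀ U, P U → Disjoint U (perp B U) ∧ RzK σ (IU B Q U) r (w * K₁) ∧
      RzK σ (IU B Q (perp B U)) r (w * K₂)) :
    (∀ g : Isom B Q, g ^ r = 1 → g ≠ 1 → Fx P g.1.toLinearMap) ↔ K ≤ K₁ + K₂ := by
  have := hC.w_pos
  refine ⟨fun H => by_contra fun h1 => ?_, fun H g hg _ => ?_⟩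
  · obtain ⟨s, h2, h3, -⟩ := hC.sharp K
    obtain ⟨g, hg, rfl⟩ := (hK s).2 ⟨h2, h3.le⟩
    have h4 := card_nt_le_of_fx hC h hP' hg (H g hg (by
      rintro rfl
      rw [show (1 : Isom B Q).1.toLinearMap = 1 from rfl, nt_one, card_zero, eq_comm,
        Nat.mul_eq_zero] at h3
      omega))
    rw [h3, ← mul_add] at h4
    exact h1 (Nat.le_of_mul_le_mul_left h4 this)
  · obtain ⟨U, hU⟩ := h0
    obtain ⟨h4, h5, h6⟩ := hP' U hU
    obtain ⟨h7, h8⟩ := (hK _).1 ⟨g, hg, rfl⟩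
    exact fx_of_card_nt_le hC h hu hP hU h4 h5 h6 h7 (h8.trans (Nat.mul_le_mul_left w H))

variable [Fintype F] (p : ℕ) [Fact p.Prime] [CharP F p] [hr : Fact r.Prime] (hrp : r ≠ p)
  (hσ : ∀ x, σ (σ x) = x)
include hrp

omit h in
theorem nt_of_ed_dual {W : Type*} [AddCommGroup W] [Module F W] [FiniteDimensional F W]
    {f : End F W} (hf : f ^ r = 1) {g : End F V} (hg : ed g = ed f + (ed f).map (cr σ)) :
    g ^ r = 1 ∧ nt g = nt f + (nt f).map (cr σ) := by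
  obtain ⟨c, h1, -⟩ := ed_eq_nt f
  refine nt_of_ed p hr.out hrp (c := c + c)
    (hC.sb_add_map ((pow_eq_one_iff_nt p hr.out hrp f).1 hf)).1 ?_
  rw [hg, replicate_add]
  nth_rw 1 2 [h1]
  rw [Multiset.map_add, map_replicate, cr_X_sub_one]
  abel

include hσ in
theorem exists_of_fx_TS (hP : ∀ H, HypU B Q m H → RzK σ (IU B Q (perp B H)) r K₂) {g : Isom B Q}
    (hg : g ^ r = 1) (h1 : Fx (TS B Q m) g.1.toLinearMap) : ∃ s₀ s₂, nt g.1.toLinearMap =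
      s₀ + s₀.map (cr σ) + s₂ ∧ card s₀ * orderOf (Fintype.card F : ZMod r) ≤ m ∧ card s₂ ≤ K₂ := by
  obtain ⟨U, h2, h3⟩ := h1
  have h4 := (sub_pow_eq_one_iff g r).1 hg
  obtain ⟨H, hH, x, rfl, h5⟩ := exists_hypU_of_inv h hσ g
    (isSemisimple_of_pow p hrp one_ne_zero (h4.trans (map_one _).symm)) h2 h3
  have h6 : LinearMap.restrict _ h3 ^ r = 1 := LinearMap.ext fun u => Subtype.ext (by
    rw [Module.End.pow_restrict, LinearMap.coe_restrict_apply, h4]; rfl)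
  have h7 := card_nt_le p hr.out hrp h6
  rw [h2.1] at h7
  exact ⟨_, _, by rw [nt_add (ed_glue h hH.1 x), (nt_of_ed_dual hC p hrp h6 h5).2], by omega,
    ((hP H hH _).1 ⟨_, ((glue_pow_eq_one h hH.1).1 hg).2, rfl⟩).2⟩

include hσ hu in
theorem fx_TS_of (hP : ∀ H, HypU B Q m H → RzK σ (IU B Q (perp B H)) r K₂) (h0 : ∃ U, TS B Q m U)
    {g : Isom B Q} (hs : Sb (facs F r) (cr σ) (nt g.1.toLinearMap)) {j : ℕ}
    (h1 : j = 0 ∨ 2 * j + T ≤ card (nt g.1.toLinearMap) + 1)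
    (h2 : j * orderOf (Fintype.card F : ZMod r) ≤ m)
    (h3 : card (nt g.1.toLinearMap) ≤ 2 * j + K₂) : Fx (TS B Q m) g.1.toLinearMap := by
  obtain ⟨U, hU⟩ := h0
  obtain ⟨H, hH, h4, h5⟩ := exists_levi h hσ hU
  obtain ⟨s₀, s₂, h6, h7, h8, rfl⟩ := hC.hyp j hs h1
  obtain ⟨f, hf, rfl⟩ := exists_nt (V := U) p hr.out hrp h7 (hU.1 ▸ h2)
  obtain ⟨x, h9, h10⟩ := h5 (LinearEquiv.ofInjectiveEndo f ((End.isUnit_iff f).1
    (IsUnit.of_pow_eq_one hf hr.out.ne_zero)).1)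
  obtain ⟨h11, h12⟩ := nt_of_ed_dual hC p hrp hf h10
  obtain ⟨y, hy, rfl⟩ := (hP H hH _).2 ⟨h8, by rw [h6] at h3; simp at h3; omega⟩
  refine Fx.of_isConj ⟨U, hU, fun u hu => ?_⟩ inv_TS (hu (glue h hH.1 (x, y)) _
    ((glue_pow_eq_one h hH.1).2 ⟨(sub_pow_eq_one_iff x r).2 h11, hy⟩)
    ((sim_iff_nt rfl).2 ((nt_add (ed_glue h hH.1 (x, y))).trans (by rw [h12, h6]))))
  exact (glue_left h hH.1 (x, y) ⟨u, h4 hu⟩).symm ▸ h9 ⟨u, h4 hu⟩ hu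

include hσ hu in
theorem forall_fx_TS_iff (hK : RzK σ (Isom B Q) r (w * K)) (h0 : ∃ U, TS B Q m U)
    (hP : ∀ H, HypU B Q m H → RzK σ (IU B Q (perp B H)) r (w * K₂)) (hlt : K₂ < K) :
    (∀ g : Isom B Q, g ^ r = 1 → g ≠ 1 → Fx (TS B Q m) g.1.toLinearMap) ↔
      (w = 2 ∧ K ≤ m / orderOf (Fintype.card F : ZMod r) + K₂) ∨
      (w = 1 ∧ T ≤ K₂ ∧ K ≤ K₂ + 2 * (m / orderOf (Fintype.card F : ZMod r))) := by
  have := hC.w_pos
  have hi := orderOf_card_pos (F := F) p hr.out hrp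
  refine Iff.trans (b := ∀ k, 1 ≤ k → k ≤ K → ∃ j, (j = 0 ∨ 2 * j + T ≤ w * k + 1) ∧
    j ≤ m / orderOf (Fintype.card F : ZMod r) ∧ w * k ≤ 2 * j + w * K₂)
    ⟨fun H k h1 h2 => ?_, fun H g hg _ => ?_⟩ ?_
  · obtain ⟨s, h3, h4, h5⟩ := hC.sharp k
    obtain ⟨g, hg, rfl⟩ := (hK s).2 ⟨h3, h4 ▸ Nat.mul_le_mul_left w h2⟩
    obtain ⟨s₀, s₂, h6, h7, h8⟩ := exists_of_fx_TS hC h p hrp hσ hP hg (H g hg (by
      rintro rfl
      rw [show (1 : Isom B Q).1.toLinearMap = 1 from rfl, nt_one, card_zero, eq_comm,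
        Nat.mul_eq_zero] at h4
      omega))
    refine ⟨_, h4 ▸ h5 s₀ s₂ h6, (Nat.le_div_iff_mul_le hi).2 h7, ?_⟩
    rw [← h4, h6]; simp; omega
  · obtain ⟨h7, h8⟩ := (hK _).1 ⟨g, hg, rfl⟩
    obtain ⟨k, hk⟩ := hC.dvd h7
    rcases k.eq_zero_or_pos with rfl | h1
    · exact fx_TS_of hC h hu p hrp hσ hP h0 h7 (.inl rfl) (by simp) (by omega)
    obtain ⟨j, h2, h3, h4⟩ := H k h1 (Nat.le_of_mul_le_mul_left (hk ▸ h8) this)
    exact fx_TS_of hC h hu p hrp hσ hP h0 h7 (hk ▸ h2) ((Nat.le_div_iff_mul_le hi).1 h3) (hk ▸ h4)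
  · have hT := hC.T_pos
    rcases hC.cs with ⟨rfl, rfl, -⟩ | ⟨rfl, -, -⟩
    · rw [forall_hyp_iff_two]; omega
    · rw [forall_hyp_iff_one hT hlt]; omega

end CF.Cls
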