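/-
Counting multisets of (eigenvalue, block size) pairs by generating functions.
-/
import Cfsg.Agent.Cls.Orb2

set_option autoImplicit false

namespace CF.Cls

open Finset PowerSeries

section
variable {A : Type*} {J J' : Multiset (A × ℕ)}

/-- The eigenvalues belonging to blocks of size `i`. -/
def pt (i : ℕ) (J : Multiset (A × ℕ)) : Multiset A := (J.filter (·.2 = i)).map Prod.fst

@[simp] theorem pt_add (i : ℕ) (J J' : Multiset (A × ℕ)) : pt i (J + J') = pt i J + pt i J' := by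
  simp [pt]

@[simp] theorem pt_zero (i : ℕ) : pt i (0 : Multiset (A × ℕ)) = 0 := rfl

theorem pt_map (i j : ℕ) (S : Multiset A) : pt i (S.map (·, j)) = if j = i then S else 0 := by
  split_ifs with h <;> simp [pt, Multiset.filter_map, h]

theorem mem_pt {i : ℕ} {x : A} : x ∈ pt i J ↔ (x, i) ∈ J := by simp [pt]

theorem map_pt (i : ℕ) (J : Multiset (A × ℕ)) : (pt i J).map (·, i) = J.filter (·.2 = i) := by
  rw [pt, Multiset.map_map]
  refine .trans (Multiset.map_congr rfl fun x hx => ?_) (Multiset.map_id _)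
  exact Prod.ext rfl (Eq.symm (Multiset.mem_filter.1 hx).2)

theorem pt_filter_ne (i j : ℕ) (J : Multiset (A × ℕ)) :
    pt i (J.filter (¬ ·.2 = j)) = if j = i then 0 else pt i J := by
  split_ifs with h
  · simp [pt, Multiset.filter_filter, h]
  · rw [pt, pt, Multiset.filter_filter]
    exact congrArg _ (Multiset.filter_congr fun x _ => ⟨fun h => h.1, fun h' => ⟨h', by omega⟩⟩)

theorem count_pt [DecidableEq A] (i : ℕ) (x : A) (J : Multiset (A × ℕ)) :
    (pt i J).count x = J.count (x, i) := by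
  rw [← Multiset.count_map_eq_count' (·, i) _ (Prod.mk_left_injective i), map_pt,
    Multiset.count_filter_of_pos (by rfl)]

theorem ext_pt (h : ∀ i, pt i J = pt i J') : J = J' := by
  classical
  exact Multiset.ext.2 fun x => by rw [← count_pt, ← count_pt, h]

theorem pt_sum (I : Finset ℕ) (S : ℕ → Multiset A) (i : ℕ) :
    pt i (∑ j ∈ I, (S j).map (·, j)) = if i ∈ I then S i else 0 := by
  induction I using Finset.induction_on with
  | empty => simp
  | insert j I hj ih =>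
    rw [sum_insert hj, pt_add, ih, pt_map]
    by_cases h : j = i
    · simp [← h, hj]
    · simp [h, Ne.symm h]

theorem pt_eq_zero {i : ℕ} : pt i J = 0 ↔ ∀ x ∈ J, x.2 ≠ i := by simp [pt, Multiset.filter_eq_nil]

theorem eq_sum_pt {I : Finset ℕ} (h : ∀ x ∈ J, x.2 ∈ I) : J = ∑ j ∈ I, (pt j J).map (·, j) :=
  ext_pt fun i => by
    rw [pt_sum]
    split_ifs with hi
    · rfl
    · exact pt_eq_zero.2 fun x hx e => hi (e ▸ h x hx)

theorem dm_map (S : Multiset A) (i : ℕ) : dm (S.map (·, i)) = i * S.card := by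
  simp [dm, mul_comm]

theorem dm_sum (I : Finset ℕ) (S : ℕ → Multiset A) :
    dm (∑ j ∈ I, (S j).map (·, j)) = ∑ j ∈ I, j * (S j).card := by
  induction I using Finset.induction_on with
  | empty => simp
  | insert j I hj ih => rw [sum_insert hj, sum_insert hj, dm_add, ih, dm_map]

theorem sum_le_coeff (w : ℕ → Multiset A → ℕ) (f : ℕ → ℕ⟦X⟧) (I : Finset ℕ)
    (hf : ∀ i ∈ I, ∀ (m : ℕ) (t : Finset (Multiset A)), (∀ S ∈ t, i * S.card = m) →
      ∑ S ∈ t, w i S ≤ coeff m (f i)) (n : ℕ) (s : Finset (Multiset (A × ℕ)))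
    (hs : ∀ J ∈ s, (∀ x ∈ J, x.2 ∈ I) ∧ dm J = n) :
    ∑ J ∈ s, ∏ i ∈ I, w i (pt i J) ≤ coeff n (∏ i ∈ I, f i) := by
  classical
  induction I using Finset.induction_on generalizing n s with
  | empty =>
    rcases s.eq_empty_or_nonempty with rfl | ⟨J, hJ⟩
    · simp
    have h : ∀ J ∈ s, J = 0 := fun J hJ => Multiset.eq_zero_of_forall_notMem fun x hx => by
      simpa using (hs J hJ).1 x hx
    obtain rfl : n = 0 := by rw [← (hs J hJ).2, h J hJ, dm_zero]
    simpa using card_le_one.2 fun a ha b hb => (h a ha).trans (h b hb).symm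
  | insert j I hj ih =>
    let φ := fun J : Multiset (A × ℕ) => (pt j J, J.filter (¬ ·.2 = j))
    have h1 : ∀ J, (φ J).1.map (·, j) + (φ J).2 = J := fun J => by
      simp only [φ, map_pt, Multiset.filter_add_not]
    rw [prod_insert hj, coeff_mul, ← sum_fiberwise_of_maps_to (t := antidiagonal n)
      (g := fun J => (j * (φ J).1.card, dm (φ J).2)) fun J hJ => by
        rw [HasAntidiagonal.mem_antidiagonal, ← dm_map, ← dm_add, h1, (hs J hJ).2]]
    refine sum_le_sum fun p _ => ?_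
    set s' := s.filter fun J => (j * (φ J).1.card, dm (φ J).2) = p
    refine le_trans ?_ (Nat.mul_le_mul
      (hf j (mem_insert_self _ _) p.1 (s'.image fun J => (φ J).1) (by
        simp only [s', mem_image, mem_filter]; rintro _ ⟨J, ⟨-, rfl⟩, rfl⟩; rfl))
      (ih (fun i hi => hf i (mem_insert_of_mem hi)) p.2 (s'.image fun J => (φ J).2) (by
        simp only [s', mem_image, mem_filter]
        rintro _ ⟨J, ⟨hJ, rfl⟩, rfl⟩
        exact ⟨fun x hx => (mem_insert.1 ((hs J hJ).1 x (Multiset.mem_filter.1 hx).1)).resolve_left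
          (Multiset.mem_filter.1 hx).2, rfl⟩)))
    rw [sum_mul_sum, ← sum_product']
    refine le_trans (le_of_eq ?_) (sum_le_sum_of_subset (s := s'.image φ) fun x hx => ?_)
    · rw [sum_image fun J _ J' _ h => by rw [← h1 J, h, h1]]
      refine sum_congr rfl fun J _ => ?_
      rw [prod_insert hj]
      exact congrArg _ (prod_congr rfl fun i hi => by
        simp only [φ, pt_filter_ne, if_neg (show j ≠ i from fun h => hj (h ▸ hi))])
    · obtain ⟨J, hJ, rfl⟩ := mem_image.1 hx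
      exact mem_product.2 ⟨mem_image_of_mem _ hJ, mem_image_of_mem _ hJ⟩

end

/-- Truncated evaluation of a power series. -/
noncomputable def evl (x : ℝ) (n : ℕ) (f : ℕ⟦X⟧) : ℝ := ∑ m ∈ range (n + 1), (coeff m f : ℕ) * x ^ m

theorem evl_nonneg {x : ℝ} (hx : 0 ≤ x) (n : ℕ) (f : ℕ⟦X⟧) : 0 ≤ evl x n f :=
  sum_nonneg fun _ _ => by positivity

theorem evl_mul_le {x : ℝ} (hx : 0 ≤ x) (n : ℕ) (f g : ℕ⟦X⟧) :
    evl x n (f * g) ≤ evl x n f * evl x n g := by
  rw [evl, evl, evl, sum_mul_sum, ← sum_product']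
  simp only [coeff_mul, Nat.cast_sum, sum_mul]
  rw [sum_sigma']
  refine le_trans (le_of_eq ?_) (sum_le_sum_of_subset_of_nonneg
    (s := ((range (n + 1)).sigma fun m => antidiagonal m).image fun p => p.2) (fun p hp => ?_)
    fun _ _ _ => by positivity)
  · rw [sum_image fun p hp p' hp' h => ?_]
    · refine sum_congr rfl fun p hp => ?_
      rw [← HasAntidiagonal.mem_antidiagonal.1 (mem_sigma.1 hp).2]
      push_cast; ring
    · have h1 := HasAntidiagonal.mem_antidiagonal.1 (mem_sigma.1 hp).2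
      have h2 := HasAntidiagonal.mem_antidiagonal.1 (mem_sigma.1 hp').2
      exact Sigma.ext (by rw [← h1, ← h2, h]) (heq_of_eq h)
  · obtain ⟨r, hr, rfl⟩ := mem_image.1 hp
    have h1 := HasAntidiagonal.mem_antidiagonal.1 (mem_sigma.1 hr).2
    have h2 := mem_range.1 (mem_sigma.1 hr).1
    simp only [mem_product, mem_range]; omega

theorem evl_prod_le {x : ℝ} (hx : 0 ≤ x) (n : ℕ) (f : ℕ → ℕ⟦X⟧) (b : ℕ → ℝ) (I : Finset ℕ)
    (h : ∀ i ∈ I, evl x n (f i) ≤ b i) : evl x n (∏ i ∈ I, f i) ≤ ∏ i ∈ I, b i := by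
  induction I using Finset.induction_on with
  | empty => simp [evl, coeff_one, sum_range_succ']
  | insert j I hj ih =>
    rw [prod_insert hj, prod_insert hj]
    exact (evl_mul_le hx n _ _).trans (mul_le_mul (h j (mem_insert_self _ _))
      (ih fun i hi => h i (mem_insert_of_mem hi)) (evl_nonneg hx _ _)
      ((evl_nonneg hx _ _).trans (h j (mem_insert_self _ _))))

theorem coeff_mul_le {x y α : ℝ} (hx : 0 ≤ x) (hxy : x * y = 1) (n : ℕ) {f : ℕ⟦X⟧} (g : ℕ⟦X⟧)
    (h : ∀ m, (coeff m f : ℕ) ≤ α * y ^ m) : (coeff n (f * g) : ℕ) ≤ α * y ^ n * evl x n g := by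
  rw [mul_comm f, coeff_mul, Nat.cast_sum, evl, mul_sum,
    Nat.sum_antidiagonal_eq_sum_range_succ_mk]
  refine sum_le_sum fun m hm => ?_
  obtain ⟨k, rfl⟩ := Nat.exists_eq_add_of_le (Nat.lt_succ_iff.1 (mem_range.1 hm))
  rw [Nat.add_sub_cancel_left, Nat.cast_mul]
  refine (mul_le_mul_of_nonneg_left (h k) (Nat.cast_nonneg _)).trans (le_of_eq ?_)
  have : x ^ m * y ^ m = 1 := by rw [← mul_pow, hxy, one_pow]
  rw [pow_add]
  linear_combination (-α * y ^ k * (coeff m g : ℕ)) * this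

/-- The series `∑ a d X ^ (i d)`. -/
noncomputable def sp (i : ℕ) (a : ℕ → ℕ) : ℕ⟦X⟧ := mk fun m => if i ∣ m then a (m / i) else 0

theorem sum_le_sp {A : Type*} {i : ℕ} (hi : 0 < i) {a : ℕ → ℕ} {w : Multiset A → ℕ}
    (h : ∀ (d : ℕ) (t : Finset (Multiset A)), (∀ S ∈ t, S.card = d) → ∑ S ∈ t, w S ≤ a d)
    (m : ℕ) (t : Finset (Multiset A)) (ht : ∀ S ∈ t, i * S.card = m) :
    ∑ S ∈ t, w S ≤ coeff m (sp i a) := by
  rcases t.eq_empty_or_nonempty with rfl | ⟨S, hS⟩
  · simp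
  rw [sp, coeff_mk, if_pos ⟨_, (ht S hS).symm⟩]
  exact h _ t fun T hT => by rw [← ht T hT, Nat.mul_div_cancel_left _ hi]

theorem evl_sp_le {x b : ℝ} (hx : 0 ≤ x) {i : ℕ} (hi : 0 < i) (n : ℕ) {a : ℕ → ℕ}
    (h : ∀ N, ∑ d ∈ range N, (a d : ℝ) * (x ^ i) ^ d ≤ b) : evl x n (sp i a) ≤ b := by
  refine le_trans ?_ (h (n + 1))
  simp only [evl, sp, coeff_mk, Nat.cast_ite, Nat.cast_zero, ite_mul, zero_mul, ← sum_filter]
  refine le_trans (le_of_eq ?_) (sum_le_sum_of_subset_of_nonneg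
    (s := ((range (n + 1)).filter (i ∣ ·)).image (· / i)) (fun p hp => ?_) fun _ _ _ => by positivity)
  · rw [sum_image fun p hp p' hp' h => ?_]
    · refine sum_congr rfl fun p hp => ?_
      rw [← pow_mul, Nat.mul_div_cancel' (mem_filter.1 hp).2]
    · rw [← Nat.mul_div_cancel' (mem_filter.1 hp).2, ← Nat.mul_div_cancel' (mem_filter.1 hp').2]
      exact congrArg _ h
  · obtain ⟨r, hr, rfl⟩ := mem_image.1 hp
    exact mem_range.2 ((Nat.div_le_self _ _).trans_lt (mem_range.1 (mem_filter.1 hr).1))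

end CF.Cls
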