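/-
Counting stable multisets of eigenvalues with given product.
-/
import Cfsg.Agent.Cls.KN1
import Cfsg.Agent.Cls.Rep
import Cfsg.Agent.Cls.Fix

set_option autoImplicit false

namespace CF.Cls

open Polynomial Module CF.Geom

section
variable {A : Type*} [CommGroup A] {Q : ℤ} {J : Multiset (A × ℕ)} {S : Multiset A}

/-- Stability of a multiset of eigenvalues. -/
def St1 (Q : ℤ) (S : Multiset A) : Prop := S.map (· ^ Q) = S

theorem St1.st (h : St1 Q S) (i : ℕ) : St Q (S.map (·, i)) := by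
  unfold St
  conv_rhs => rw [← h]
  rw [Multiset.map_map, Multiset.map_map]; rfl

theorem St.pt (h : St Q J) (i : ℕ) : St1 Q (pt i J) := by
  unfold St1
  conv_rhs => rw [← h]
  simp [Cls.pt, Multiset.filter_map]

theorem St1.prod_zpow (h : St1 Q S) : S.prod ^ Q = S.prod := by
  conv_rhs => rw [← h]
  exact (map_multiset_prod (zpowGroupHom Q) S)

theorem St1.adm (h : St1 Q S) : Adm Q S.card (S.map (·, 1)) :=
  ⟨by simp, by rw [dm_map, one_mul], h.st 1⟩

theorem dt_map (S : Multiset A) (i : ℕ) : dt (S.map (·, i)) = S.prod ^ i := by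
  simp [dt, Multiset.prod_map_pow]

end

variable {F : Type*} [Field F] [Finite F] {K : Type*} [Field K] [Algebra F K] [IsAlgClosed K]
  [Algebra.IsAlgebraic F K] (p : ℕ) [hp : Fact p.Prime] [CharP F p]

omit [IsAlgClosed K] in
theorem prod_X_sub_C_inj {S S' : Multiset Kˣ}
    (h : (S.map fun x : Kˣ => X - C (x : K)).prod = (S'.map fun x : Kˣ => X - C (x : K)).prod) :
    S = S' := by
  have h1 : ∀ S : Multiset Kˣ, (S.map fun x : Kˣ => X - C (x : K)).prod.roots = S.map Units.val :=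
    fun S => by rw [← roots_multiset_prod_X_sub_C (S.map Units.val), Multiset.map_map]; rfl
  exact Multiset.map_injective Units.val_injective (by rw [← h1, ← h1, h])

omit [IsAlgClosed K] in
theorem coeff_zero_prod_X_sub_C (S : Multiset Kˣ) :
    (S.map fun x : Kˣ => X - C (x : K)).prod.coeff 0 = (-1) ^ S.card * ((S.prod : Kˣ) : K) := by
  induction S using Multiset.induction_on with
  | empty => simp
  | cons x S ih => simp [ih]; ring

include p in
theorem exists_poly {S : Multiset Kˣ} (h : St1 (Nat.card F) S) : ∃ χ : F[X], χ.Monic ∧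
    χ.natDegree = S.card ∧ χ.map (algebraMap F K) = (S.map fun x : Kˣ => X - C (x : K)).prod ∧
    ∀ (σ : F →+* F) (k : ℕ), (∀ x, σ x = x ^ p ^ k) → (∀ x, σ (σ x) = x) →
      St1 (-((p ^ k : ℕ) : ℤ)) S → cr σ χ = χ := by
  obtain ⟨f, hf, he⟩ := exists_ev (F := F) (V := Fin S.card → F) p (J := S.map (·, 1)) (by simpa using h.adm)
  refine ⟨f.charpoly, f.charpoly_monic, by simp [f.charpoly_natDegree], ?_, fun σ k h1 h2 h3 => ?_⟩
  · rw [charpoly_map_ev hf, he, Multiset.map_map]; simp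
  · rw [charpoly_eq_ed, map_multiset_prod,
      (map_cr_iff_st (K := K) p h1 h2 (ed_spec hf)).2 (he ▸ h3.st 1 :)]

omit [Finite F] [IsAlgClosed K] [Algebra.IsAlgebraic F K] in
/-- Counting via polynomials. -/
theorem card_le_of_poly (s : Finset (Multiset Kˣ)) (R : F[X] → Prop) [Finite {χ // R χ}]
    (h : ∀ S ∈ s, ∃ χ, R χ ∧ χ.map (algebraMap F K) = (S.map fun x : Kˣ => X - C (x : K)).prod) :
    s.card ≤ Nat.card {χ // R χ} := by
  choose χ h1 h2 using h
  rw [← Nat.card_eq_finsetCard s]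
  refine Nat.card_le_card_of_injective (fun S : s => (⟨χ S.1 S.2, h1 _ _⟩ : {χ // R χ}))
    fun S S' e => Subtype.ext (prod_X_sub_C_inj ?_)
  rw [← h2 S.1 S.2, ← h2 S'.1 S'.2, show χ S.1 S.2 = χ S'.1 S'.2 from congrArg Subtype.val e]

omit [IsAlgClosed K] [Algebra.IsAlgebraic F K] in
theorem finite_monic (n : ℕ) (R : F[X] → Prop) :
    Finite {χ : F[X] // (χ.Monic ∧ χ.natDegree = n) ∧ R χ} := by
  refine Finite.of_injective (fun χ (i : Fin n) => χ.1.coeff i) fun a b e => Subtype.ext ?_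
  ext i
  rcases lt_trichotomy i n with h | rfl | h
  · exact congrFun e ⟨i, h⟩
  · have h1 := a.2.1.1.coeff_natDegree
    have h2 := b.2.1.1.coeff_natDegree
    rw [a.2.1.2] at h1
    rw [b.2.1.2] at h2
    rw [h1, h2]
  · rw [coeff_eq_zero_of_natDegree_lt (a.2.1.2.trans_lt h),
      coeff_eq_zero_of_natDegree_lt (b.2.1.2.trans_lt h)]

include p in
theorem cnt_gl (d : ℕ) (c : Kˣ) (s : Finset (Multiset Kˣ))
    (hs : ∀ S ∈ s, St1 (Nat.card F) S ∧ S.card = d + 1 ∧ S.prod = c) : s.card ≤ Nat.card F ^ d := by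
  have := finite_monic (F := F) (d + 1) (fun χ => algebraMap F K (χ.coeff 0) = (-1) ^ (d + 1) * c)
  refine (card_le_of_poly s _ fun S hS => ?_).trans
    ((card_monic_zero d (fun a : F => algebraMap F K a = (-1) ^ (d + 1) * c)).trans_le ?_)
  · obtain ⟨h1, h2, h3⟩ := hs S hS
    obtain ⟨χ, a1, a2, a3, -⟩ := exists_poly p h1
    exact ⟨χ, ⟨⟨a1, a2.trans h2⟩, by rw [← coeff_map, a3, coeff_zero_prod_X_sub_C, h2, h3]⟩, a3⟩
  · refine (Nat.mul_le_mul_right _ (Finite.card_le_one_iff_subsingleton.2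
      ⟨fun a b => Subtype.ext ((algebraMap F K).injective (a.2.trans b.2.symm))⟩)).trans (by simp)

omit [IsAlgClosed K] [Algebra.IsAlgebraic F K] in
theorem card_cr_le {σ : F →+* F} (d N : ℕ) {ε : F} (hε : σ ε * ε = 1)
    (hN : Nat.card {c : Fin d → F // (fun i => ε * σ (c i.rev)) = c} ≤ N) :
    Nat.card {χ : F[X] // (χ.Monic ∧ χ.natDegree = d + 1) ∧ χ.coeff 0 = ε ∧ cr σ χ = χ} ≤ N := by
  refine le_trans ?_ hN
  rw [← card_fun_zero_succ d ε (fun c => (fun i => ε * σ (c i.rev)) = c), ← card_monic (d + 1)]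
  have := finite_monic (F := F) (d + 1) (fun χ => (fun i : Fin (d + 1) => χ.coeff i) 0 = ε ∧
    (fun i : Fin d => ε * σ (χ.coeff i.rev.succ)) = fun i : Fin d => χ.coeff i.succ)
  refine Nat.card_le_card_of_injective (Subtype.map id fun χ ⟨h1, h2, h3⟩ => ⟨h1, h2, ?_⟩)
    (Subtype.map_injective _ Function.injective_id)
  have hε0 : ε ≠ 0 := right_ne_zero_of_mul_eq_one hε
  funext i
  have h5 := (cr_eq_iff_coeff (h2.trans_ne hε0)).1 h3 (i + 1) (by omega)
  rw [h1.2, h2] at h5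
  simp only [Fin.val_succ, Fin.val_rev, id]
  rw [show d - (i + 1) + 1 = d + 1 - (i + 1) by omega, h5, ← mul_assoc, mul_comm ε, hε, one_mul]

include p in
theorem cnt_gu {q : ℕ} (hF : Nat.card F = q ^ 2) (d : ℕ) (c : Kˣ) (s : Finset (Multiset Kˣ))
    (hs : ∀ S ∈ s, St1 (-(q : ℤ)) S ∧ S.card = d + 1 ∧ S.prod = c) : s.card ≤ q ^ d := by
  have := Fintype.ofFinite F
  obtain ⟨σ, hσ, hσ1, hσ2⟩ := exists_conj (F := F) (q := q) (by rw [← hF, Nat.card_eq_fintype_card])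
  obtain ⟨k, rfl⟩ := exists_pow_of_card_sq p hF
  rcases s.eq_empty_or_nonempty with rfl | ⟨S₀, h₀⟩
  · simp
  have key : ∀ S ∈ s, ∃ χ : F[X], (χ.Monic ∧ χ.natDegree = d + 1) ∧ cr σ χ = χ ∧
      algebraMap F K (χ.coeff 0) = (-1) ^ (d + 1) * c ∧
      χ.map (algebraMap F K) = (S.map fun x : Kˣ => X - C (x : K)).prod := fun S hS => by
    obtain ⟨h1, h2, h3⟩ := hs S hS
    have h4 : St1 (Nat.card F) S := by
      rw [St1, hF]
      conv_rhs => rw [← h1, ← h1]
      simp [← zpow_mul, sq]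
    obtain ⟨χ, a1, a2, a3, a4⟩ := exists_poly p h4
    exact ⟨χ, ⟨a1, a2.trans h2⟩, a4 σ _ hσ hσ2 h1,
      by rw [← coeff_map, a3, coeff_zero_prod_X_sub_C, h2, h3], a3⟩
  obtain ⟨χ₀, b1, b2, b3, -⟩ := key S₀ h₀
  have h0 : χ₀.coeff 0 ≠ 0 := fun h => by simpa [h] using b3
  have hε : σ (χ₀.coeff 0) * χ₀.coeff 0 = 1 := by
    have := (cr_eq_iff_coeff h0).1 b2 0 (Nat.zero_le _)
    rw [← this, Nat.sub_zero, b1.1.coeff_natDegree, map_one]
  set ε := χ₀.coeff 0
  have := finite_monic (F := F) (d + 1) (fun χ => χ.coeff 0 = ε ∧ cr σ χ = χ)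
  refine (card_le_of_poly s _ fun S hS => ?_).trans (card_cr_le d _ hε ?_)
  · obtain ⟨χ, a1, a2, a3, a4⟩ := key S hS
    exact ⟨χ, ⟨a1, (algebraMap F K).injective (a3.trans b3.symm), a2⟩, a4⟩
  have h1 := card_fix_sq hσ1 hσ2 (fun (c : Fin d → F) i => ε * σ (c i.rev))
    (fun x y => by ext i; simp [mul_add]) (fun c x => by ext i; simp [mul_left_comm])
    (fun x => by ext i; simp [hσ2, ← mul_assoc, mul_comm ε (σ ε), hε])
  rw [Nat.card_fun, hF, Nat.card_fin, ← pow_mul, mul_comm, pow_mul] at h1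
  exact ((pow_left_inj₀ (Nat.zero_le _) (Nat.zero_le _) two_ne_zero).1 h1).le

include p in
theorem cnt_pal (k : ℕ) (s : Finset (Multiset Kˣ))
    (hs : ∀ S ∈ s, St1 (Nat.card F) S ∧ St1 (-1) S ∧ S.card = 2 * k ∧ S.prod = 1) :
    s.card ≤ Nat.card F ^ k := by
  rcases k with _ | k
  · refine Finset.card_le_one.2 fun a ha b hb => ?_
    rw [Multiset.card_eq_zero.1 (hs a ha).2.2.1, Multiset.card_eq_zero.1 (hs b hb).2.2.1]
  have := finite_monic (F := F) (2 * k + 1 + 1)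
    (fun χ => χ.coeff 0 = 1 ∧ cr (RingHom.id F) χ = χ)
  refine (card_le_of_poly s _ fun S hS => ?_).trans (card_cr_le (2 * k + 1) _ (ε := 1)
    (σ := RingHom.id F) (by simp) ?_)
  · obtain ⟨h1, h2, h3, h4⟩ := hs S hS
    obtain ⟨χ, a1, a2, a3, a4⟩ := exists_poly p h1
    refine ⟨χ, ⟨⟨a1, a2.trans h3⟩, (algebraMap F K).injective ?_,
      a4 _ 0 (by simp) (by simp) (by simpa using h2)⟩, a3⟩
    rw [← coeff_map, a3, coeff_zero_prod_X_sub_C, h3, h4]; simp
  rw [← Nat.card_fin (k + 1), ← Nat.card_fun]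
  refine Nat.card_le_card_of_injective (fun c (i : Fin (k + 1)) => c.1 ⟨i, by omega⟩)
    fun a b e => Subtype.ext (funext fun i => ?_)
  by_cases h : (i : ℕ) ≤ k
  · exact congrFun e ⟨i, by omega⟩
  · rw [← congrFun a.2 i, ← congrFun b.2 i]
    exact congrArg (fun x => 1 * x) (congrFun e ⟨i.rev, by rw [Fin.val_rev]; omega⟩)

end CF.Cls
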