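/-
Counting admissible multisets with given determinant: reduction to sums over partitions.
-/
import Cfsg.Agent.Cls.KN2

set_option autoImplicit false

namespace CF.Cls

open Finset PowerSeries

/-- The number of stable multisets of cardinality `d`. -/
def aw (q t : ℕ) : ℕ → ℕ
  | 0 => 1
  | d + 1 => t * q ^ d

/-- Weight of a partition. -/
def Wt (a : ℕ → ℕ) (μ : Multiset ℕ) : ℕ := ∏ i ∈ μ.toFinset, a (μ.count i)

/-- The gcd of `t` and the parts. -/
def gg (t : ℕ) (μ : Multiset ℕ) : ℕ := Nat.gcd t μ.gcd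

/-- Total weight of the partitions of `n`. -/
def cN (a : ℕ → ℕ) (n : ℕ) : ℕ := ∑ μ : n.Partition, Wt a μ.parts

theorem gg_pos {t : ℕ} (ht : 0 < t) (μ : Multiset ℕ) : 0 < gg t μ := Nat.gcd_pos_of_pos_left _ ht

theorem dvd_gg {t d : ℕ} {μ : Multiset ℕ} : d ∣ gg t μ ↔ d ∣ t ∧ ∀ i ∈ μ, d ∣ i := by
  rw [gg, Nat.dvd_gcd_iff, Multiset.dvd_gcd]

theorem gg_congr (t : ℕ) {μ ν : Multiset ℕ} (h : ∀ i, i ∈ μ ↔ i ∈ ν) : gg t μ = gg t ν :=
  eq_of_forall_dvd' fun d => by simp only [dvd_gg, h]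

theorem index_le_gg {T : Type*} [CommGroup T] [Finite T] [IsCyclic T] (H : Subgroup T)
    {μ : Multiset ℕ} (h : ∀ i ∈ μ, ∀ z : T, z ^ i ∈ H) : H.index ≤ gg (Nat.card T) μ := by
  refine Nat.le_of_dvd (gg_pos Nat.card_pos _) (dvd_gg.2 ⟨H.index_dvd_card, fun i hi => ?_⟩)
  have : IsCyclic (T ⧸ H) := isCyclic_of_surjective _ (QuotientGroup.mk'_surjective H)
  rw [Subgroup.index, ← IsCyclic.exponent_eq_card, Monoid.exponent_dvd_iff_forall_pow_eq_one]
  intro g
  obtain ⟨z, rfl⟩ := QuotientGroup.mk_surjective g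
  rw [← QuotientGroup.mk_pow, QuotientGroup.eq_one_iff]
  exact h i hi z

theorem cN_le {a : ℕ → ℕ} (ha : a 0 = 1) {n N : ℕ} (h : n ≤ N) :
    cN a n ≤ coeff n (∏ i ∈ Icc 1 N, sp i a) := by
  classical
  have hi : Function.Injective fun μ : n.Partition => μ.parts.map fun i => ((), i) :=
    fun μ ν e => Nat.Partition.ext (Multiset.map_injective (Prod.mk_right_injective ()) e)
  refine le_trans (le_of_eq ?_) (sum_le_coeff (fun _ S => a S.card) _ _
    (fun i hi => sum_le_sp (mem_Icc.1 hi).1 fun d t ht => ?_) n (univ.map ⟨_, hi⟩) ?_)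
  · rw [sum_map]
    refine sum_congr rfl fun μ _ => ?_
    have h1 : ∀ i, (pt i (μ.parts.map fun i => ((), i))).card = μ.parts.count i := fun i => by
      simp [pt, Multiset.filter_map, Multiset.count_eq_card_filter_eq, eq_comm]
    simp only [Function.Embedding.coeFn_mk, h1]
    refine prod_subset (fun i hi => ?_) fun i _ hi => ?_
    · rw [Multiset.mem_toFinset] at hi
      exact mem_Icc.2 ⟨μ.parts_pos hi, (μ.parts_sum ▸ Multiset.le_sum_of_mem hi :).trans h⟩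
    · rw [Multiset.count_eq_zero.2 (by simpa using hi), ha]
  · have h1 : t ⊆ {Multiset.replicate d ()} := fun S hS =>
      mem_singleton.2 (Multiset.eq_replicate.2 ⟨ht S hS, fun _ _ => rfl⟩)
    simpa using sum_le_sum_of_subset (f := fun S : Multiset Unit => a S.card) h1
  · simp only [mem_map, mem_univ, true_and, Function.Embedding.coeFn_mk]
    rintro _ ⟨μ, rfl⟩
    refine ⟨fun x hx => ?_, by simpa [dm] using μ.parts_sum⟩
    obtain ⟨i, hi, rfl⟩ := Multiset.mem_map.1 hx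
    exact mem_Icc.2 ⟨μ.parts_pos hi, (μ.parts_sum ▸ Multiset.le_sum_of_mem hi :).trans h⟩

theorem Wt_map_mul (a : ℕ → ℕ) {d : ℕ} (hd : 0 < d) (μ : Multiset ℕ) :
    Wt a (μ.map (d * ·)) = Wt a μ := by
  have hi : Function.Injective (d * ·) := mul_right_injective₀ hd.ne'
  rw [Wt, Wt, Multiset.toFinset_map, prod_image hi.injOn]
  exact prod_congr rfl fun i _ => by rw [Multiset.count_map_eq_count' _ _ hi]

theorem sum_dvd_le (a : ℕ → ℕ) {n d : ℕ} (hd : 0 < d) (s : Finset n.Partition)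
    (hs : ∀ μ ∈ s, ∀ i ∈ μ.parts, d ∣ i) : ∑ μ ∈ s, Wt a μ.parts ≤ cN a (n / d) := by
  classical
  have h1 : s.image (·.parts) ⊆ univ.image fun ν : (n / d).Partition => ν.parts.map (d * ·) := by
    intro x hx
    obtain ⟨μ, hμ, rfl⟩ := mem_image.1 hx
    have h2 : (μ.parts.map (· / d)).map (d * ·) = μ.parts := by
      rw [Multiset.map_map]
      exact (Multiset.map_congr rfl fun i hi => Nat.mul_div_cancel' (hs μ hμ i hi)).trans
        (Multiset.map_id _)
    refine mem_image.2 ⟨⟨μ.parts.map (· / d), fun {i} hi => ?_, ?_⟩, mem_univ _, h2⟩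
    · obtain ⟨j, hj, rfl⟩ := Multiset.mem_map.1 hi
      exact Nat.div_pos (Nat.le_of_dvd (μ.parts_pos hj) (hs μ hμ j hj)) hd
    · refine (Nat.div_eq_of_eq_mul_right hd ?_).symm
      rw [← Multiset.sum_map_mul_left]
      rw [Multiset.map_map] at h2
      exact μ.parts_sum.symm.trans (congrArg _ h2.symm)
  rw [← sum_image (f := Wt a) fun μ _ ν _ e => Nat.Partition.ext e]
  refine (sum_le_sum_of_subset h1).trans ((sum_image_le_of_nonneg fun _ _ => Nat.zero_le _).trans_eq ?_)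
  exact sum_congr rfl fun ν _ => Wt_map_mul a hd _

theorem sum_gg_sq (a : ℕ → ℕ) {t n : ℕ} (ht : 0 < t) (hn : 0 < n) :
    ∑ μ : n.Partition, gg t μ.parts ^ 2 * Wt a μ.parts ≤
      cN a n + ∑ d ∈ n.divisors with 1 < d ∧ d ∣ t, (d ^ 2 - 1) * cN a (n / d) := by
  have h1 : ∀ μ : n.Partition, gg t μ.parts ^ 2 * Wt a μ.parts = Wt a μ.parts +
      ∑ d ∈ n.divisors with 1 < d ∧ d ∣ t,
        if gg t μ.parts = d then (d ^ 2 - 1) * Wt a μ.parts else 0 := fun μ => by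
    have h2 := gg_pos ht μ.parts
    have h3 := dvd_gg.1 (dvd_refl (gg t μ.parts))
    rw [sum_ite_eq]
    split_ifs with h
    · rw [← one_add_mul, Nat.add_sub_cancel' (Nat.one_le_pow _ _ h2)]
    · have : gg t μ.parts = 1 := by
        by_contra h4
        exact h (mem_filter.2 ⟨Nat.mem_divisors.2 ⟨(Multiset.dvd_sum h3.2).trans μ.parts_sum.dvd, hn.ne'⟩,
          by omega, h3.1⟩)
      simp [this]
  simp only [h1, sum_add_distrib]
  rw [sum_comm]
  refine Nat.add_le_add_left (sum_le_sum fun d hd => ?_) _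
  rw [← sum_filter, ← mul_sum]
  refine Nat.mul_le_mul_left _ (sum_dvd_le a (by simp at hd; omega) _ fun μ hμ => ?_)
  exact (dvd_gg.1 (mem_filter.1 hμ).2.symm.dvd).2

variable {A : Type*} {J : Multiset (A × ℕ)}

theorem card_pt (i : ℕ) (J : Multiset (A × ℕ)) : (pt i J).card = (J.map Prod.snd).count i := by
  simp [pt, Multiset.count_map, eq_comm]

open scoped _root_.Classical in
theorem card_le_prod (s : Finset (Multiset (A × ℕ))) (I : Finset ℕ) (N : ℕ → ℕ)
    (h1 : ∀ J ∈ s, ∀ x ∈ J, x.2 ∈ I) (h2 : ∀ i ∈ I, (s.image (pt i)).card ≤ N i) :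
    s.card ≤ ∏ i ∈ I, N i := by
  refine le_trans ?_ (prod_le_prod' h2)
  rw [← card_pi]
  refine card_le_card_of_injOn (fun J i _ => pt i J)
    (fun J hJ => mem_pi.2 fun i _ => mem_image_of_mem _ hJ) fun J hJ J' hJ' e => ?_
  rw [eq_sum_pt (h1 J hJ), eq_sum_pt (h1 J' hJ')]
  exact sum_congr rfl fun i hi => by rw [show pt i J = pt i J' from congrFun (congrFun e i) hi]

variable [CommGroup A] {Q : ℤ} {q t : ℕ}

variable (A) in
/-- The fixed points of `x ↦ x ^ Q`. -/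
def Tq (Q : ℤ) : Subgroup A := (zpowGroupHom Q).eqLocus (MonoidHom.id A)

theorem mem_Tq {z : A} : z ∈ Tq A Q ↔ z ^ Q = z := Iff.rfl

variable (A) in
/-- The counting hypotheses. -/
structure Ct (Q : ℤ) (q t : ℕ) : Prop where
  fin : Finite (Tq A Q)
  cyc : IsCyclic (Tq A Q)
  card : Nat.card (Tq A Q) = t
  cnt : ∀ (d : ℕ) (c : A) (s : Finset (Multiset A)),
    (∀ S ∈ s, St1 Q S ∧ S.card = d + 1 ∧ S.prod = c) → s.card ≤ q ^ d

theorem Ct.pos (h : Ct A Q q t) : 0 < t := by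
  have := h.fin
  exact h.card ▸ Nat.card_pos

theorem dt_sum (I : Finset ℕ) (S : ℕ → Multiset A) :
    dt (∑ j ∈ I, (S j).map (·, j)) = ∏ j ∈ I, (S j).prod ^ j := by
  induction I using Finset.induction_on with
  | empty => simp
  | insert j I hj ih => rw [sum_insert hj, prod_insert hj, dt_add, ih, dt_map]

theorem Ct.card_le_aw (h : Ct A Q q t) (d : ℕ) (s : Finset (Multiset A))
    (hs : ∀ S ∈ s, St1 Q S ∧ S.card = d) : s.card ≤ aw q t d := by
  classical
  rcases d with _ | d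
  · exact card_le_one.2 fun a ha b hb => by
      rw [Multiset.card_eq_zero.1 (hs a ha).2, Multiset.card_eq_zero.1 (hs b hb).2]
  have := h.fin
  have := Fintype.ofFinite (Tq A Q)
  refine (card_le_mul_card_image_of_maps_to (f := Multiset.prod)
    (t := univ.image (Tq A Q).subtype) (fun S hS => ?_) (q ^ d) fun c _ => ?_).trans ?_
  · exact mem_image.2 ⟨⟨_, (hs S hS).1.prod_zpow⟩, mem_univ _, rfl⟩
  · exact h.cnt d c _ fun S hS => ⟨(hs S (mem_filter.1 hS).1).1, (hs S (mem_filter.1 hS).1).2,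
      (mem_filter.1 hS).2⟩
  · rw [aw, mul_comm t, ← h.card, Nat.card_eq_fintype_card]
    exact Nat.mul_le_mul_left _ card_image_le

theorem Ct.card_le_coeff (h : Ct A Q q t) {n : ℕ} (s : Finset (Multiset (A × ℕ)))
    (hs : ∀ J ∈ s, Adm Q n J) : s.card ≤ coeff n (∏ i ∈ Icc 1 n, sp i (aw q t)) := by
  classical
  refine le_trans (le_of_eq ?_) (sum_le_coeff (fun _ S => if St1 Q S then 1 else 0) _ _
    (fun i hi => sum_le_sp (mem_Icc.1 hi).1 fun d t ht => ?_) n s fun J hJ => ⟨fun x hx => ?_, ?_⟩)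
  · rw [card_eq_sum_ones]
    exact sum_congr rfl fun J hJ => (prod_eq_one fun i _ => if_pos ((hs J hJ).st.pt i)).symm
  · rw [← card_filter]
    exact h.card_le_aw d _ fun S hS => ⟨(mem_filter.1 hS).2, ht S (mem_filter.1 hS).1⟩
  · exact mem_Icc.2 ⟨(hs J hJ).pos x hx, (le_dm hx).trans_eq (hs J hJ).dim⟩
  · exact (hs J hJ).dim

theorem Ct.fiber (h : Ct A Q q t) (μ : Multiset ℕ) (c : A) (s : Finset (Multiset (A × ℕ)))
    (hs : ∀ J ∈ s, St Q J ∧ J.map Prod.snd = μ ∧ dt J = c) :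
    t * s.card ≤ gg t μ * Wt (aw q t) μ := by
  classical
  have := h.fin
  have := h.cyc
  have := Fintype.ofFinite (Tq A Q)
  rcases s.eq_empty_or_nonempty with rfl | ⟨J₀, h₀⟩
  · simp
  set I := μ.toFinset
  have hI : ∀ J ∈ s, ∀ x ∈ J, x.2 ∈ I := fun J hJ x hx =>
    Multiset.mem_toFinset.2 ((hs J hJ).2.1 ▸ Multiset.mem_map_of_mem _ hx)
  let Φ : (I → Tq A Q) →* Tq A Q :=
    ∏ i : I, (powMonoidHom (i : ℕ)).comp (Pi.evalMonoidHom (fun _ => Tq A Q) i)
  have hΦ : ∀ γ, Φ γ = ∏ i : I, γ i ^ (i : ℕ) := fun γ => by simp [Φ]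
  let γ : s → I → Tq A Q := fun J i => ⟨_, ((hs J.1 J.2).1.pt i).prod_zpow⟩
  have hγ : ∀ J, (Φ (γ J) : A) = c := fun J => by
    rw [← (hs J.1 J.2).2.2, eq_sum_pt (hI J.1 J.2), dt_sum, hΦ, ← prod_coe_sort I]
    simp [γ]
  have h1 : s.card ≤ (∏ i ∈ I, q ^ (μ.count i - 1)) * Nat.card Φ.ker := by
    refine (card_le_mul_card_image_of_maps_to (f := fun J (i : I) => (pt i J).prod)
      (t := univ.image fun (x : Φ.ker) i => ((γ ⟨J₀, h₀⟩ i * x.1 i : Tq A Q) : A))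
      (fun J hJ => ?_) _ fun b _ => ?_).trans (Nat.mul_le_mul_left _ ?_)
    · refine mem_image.2 ⟨⟨(γ ⟨J₀, h₀⟩)⁻¹ * γ ⟨J, hJ⟩, ?_⟩, mem_univ _, by ext i; simp [γ]⟩
      rw [MonoidHom.mem_ker, map_mul, map_inv, inv_mul_eq_one]
      exact Subtype.ext ((hγ _).trans (hγ _).symm)
    · refine card_le_prod _ I _ (fun J hJ => hI J (mem_filter.1 hJ).1) fun i hi => ?_
      refine h.cnt _ (b ⟨i, hi⟩) _ fun S hS => ?_
      obtain ⟨J, hJ, rfl⟩ := mem_image.1 hS
      obtain ⟨hJ, e⟩ := mem_filter.1 hJ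
      refine ⟨(hs J hJ).1.pt i, ?_, congrFun e ⟨i, hi⟩⟩
      rw [card_pt, (hs J hJ).2.1, Nat.sub_add_cancel]
      exact Multiset.one_le_count_iff_mem.2 (Multiset.mem_toFinset.1 hi)
    · rw [Nat.card_eq_fintype_card]; exact card_image_le
  have h2 : Φ.range.index ≤ gg t μ := h.card ▸ index_le_gg _ fun i hi z =>
    ⟨Pi.mulSingle ⟨i, Multiset.mem_toFinset.2 hi⟩ z, by
      rw [hΦ, Fintype.prod_eq_single ⟨i, Multiset.mem_toFinset.2 hi⟩ fun j hj => by simp [hj]]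
      simp⟩
  have h3 : t * Nat.card Φ.ker = Φ.range.index * t ^ I.card := by
    have h4 := Φ.ker.card_mul_index
    rw [Subgroup.index_ker, Nat.card_fun, h.card, Nat.card_eq_finsetCard] at h4
    rw [← h4, ← h.card, ← Φ.range.index_mul_card]; ring
  have h4 : Wt (aw q t) μ = t ^ I.card * ∏ i ∈ I, q ^ (μ.count i - 1) := by
    rw [← prod_const, ← prod_mul_distrib]
    refine prod_congr rfl fun i hi => ?_
    obtain ⟨k, hk⟩ := Nat.exists_eq_add_one_of_ne_zero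
      (Multiset.count_ne_zero.2 (Multiset.mem_toFinset.1 hi))
    rw [hk]; rfl
  calc _ ≤ t * ((∏ i ∈ I, q ^ (μ.count i - 1)) * Nat.card Φ.ker) := Nat.mul_le_mul_left _ h1
    _ = Φ.range.index * Wt (aw q t) μ := by rw [h4, mul_left_comm, h3]; ring
    _ ≤ _ := Nat.mul_le_mul_right _ h2

/-- The basic bound. -/
theorem Ct.sum_gg (h : Ct A Q q t) {n : ℕ} (hn : 0 < n) (c : A) (s : Finset (Multiset (A × ℕ)))
    (hs : ∀ J ∈ s, Adm Q n J ∧ dt J = c) : t * ∑ J ∈ s, gg t (J.map Prod.snd) ≤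
      cN (aw q t) n + ∑ d ∈ n.divisors with 1 < d ∧ d ∣ t, (d ^ 2 - 1) * cN (aw q t) (n / d) := by
  classical
  refine le_trans ?_ (sum_gg_sq _ h.pos hn)
  rw [← sum_fiberwise_of_maps_to (g := Multiset.map Prod.snd)
    (t := univ.image fun μ : n.Partition => μ.parts) fun J hJ => mem_image.2
      ⟨⟨J.map Prod.snd, fun {i} hi => ?_, (hs J hJ).1.dim⟩, mem_univ _, rfl⟩,
    sum_image fun μ _ ν _ e => Nat.Partition.ext e, mul_sum]
  · refine sum_le_sum fun μ _ => ?_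
    rw [sum_congr rfl fun J hJ => by rw [(mem_filter.1 hJ).2], sum_const, smul_eq_mul,
      ← mul_assoc, sq, mul_assoc (gg _ _), mul_comm (gg _ _)]
    exact Nat.mul_le_mul_right _ (h.fiber _ c _ fun J hJ => ⟨(hs J (mem_filter.1 hJ).1).1.st,
      (mem_filter.1 hJ).2, (hs J (mem_filter.1 hJ).1).2⟩)
  · obtain ⟨x, hx, rfl⟩ := Multiset.mem_map.1 hi
    exact (hs J hJ).1.pos x hx

end CF.Cls
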