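/-
Numerical bounds for the class numbers of linear and unitary groups.
-/
import Cfsg.Agent.Cls.KN3

set_option autoImplicit false

namespace CF.Cls

open Finset PowerSeries

theorem sp_aw (t : ℕ) {i : ℕ} (hi : 0 < i) :
    sp i (aw (t + 1) t) + X ^ i = 1 + C (t + 1) * (X ^ i * sp i (aw (t + 1) t)) := by
  ext m
  rw [map_add, map_add, coeff_C_mul]
  simp only [coeff_X_pow_mul', coeff_X_pow, coeff_one, sp, coeff_mk]
  by_cases h : i ∣ m
  · obtain ⟨k, rfl⟩ := h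
    rcases k with _ | _ | k
    · simp [aw, hi.ne, hi.ne']
    · simp [aw, hi.ne', Nat.div_self hi]
    · have h1 : i * (k + 1 + 1) - i = i * (k + 1) := by rw [mul_add _ _ 1]; omega
      have h2 : i * (k + 1 + 1) ≠ i := by nlinarith
      have h3 : i ≤ i * (k + 1 + 1) := by nlinarith
      simp [h1, h2, h3, hi.ne', aw, Nat.mul_div_cancel_left _ hi]
      ring
  · have h1 : m ≠ i := fun e => h (e ▸ dvd_rfl)
    have h2 : m ≠ 0 := fun e => h (e ▸ dvd_zero _)
    have h3 : i ≤ m → ¬ i ∣ m - i := fun h3 h4 => h ((Nat.dvd_sub_iff_left h3 dvd_rfl).1 h4)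
    by_cases h4 : i ≤ m <;> simp [h, h1, h2, h3, h4]

theorem exists_tele (t N : ℕ) : ∃ R : ℕ⟦X⟧, (0 < N → 0 < coeff N R) ∧
    (1 - C (t + 1 : ℤ) * X) * map (Nat.castRingHom ℤ) (∏ i ∈ Icc 1 N, sp i (aw (t + 1) t) + R) =
      1 - C (t + 1 : ℤ) * X ^ (N + 1) := by
  induction N with
  | zero => exact ⟨0, by simp, by simp⟩
  | succ N ih =>
    obtain ⟨R, -, h⟩ := ih
    refine ⟨sp (N + 1) (aw (t + 1) t) * R + X ^ (N + 1), fun _ => by simp, ?_⟩
    have h1 := congrArg (map (Nat.castRingHom ℤ)) (sp_aw t N.succ_pos)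
    rw [map_add, map_add, map_mul, map_C, eq_natCast] at h1
    rw [prod_Icc_succ_top (by omega)]
    simp only [map_add, map_mul, map_pow, map_X, map_one, map_natCast, Nat.cast_add,
      Nat.cast_one, Nat.succ_eq_add_one] at h h1 ⊢
    linear_combination (map (Nat.castRingHom ℤ) (sp (N + 1) (aw (t + 1) t))) * h + h1

theorem coeff_gl_lt (t : ℕ) {n : ℕ} (hn : 0 < n) :
    coeff n (∏ i ∈ Icc 1 n, sp i (aw (t + 1) t)) < (t + 1) ^ n := by
  obtain ⟨R, h1, h2⟩ := exists_tele t n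
  have h3 : ∀ m ≤ n, coeff m (map (Nat.castRingHom ℤ) (∏ i ∈ Icc 1 n, sp i (aw (t + 1) t) + R)) =
      (t + 1) ^ m := by
    generalize map (Nat.castRingHom ℤ) (∏ i ∈ Icc 1 n, sp i (aw (t + 1) t) + R) = G at h2
    intro m hm
    induction m with
    | zero => simpa using congrArg (coeff 0) h2
    | succ m ih =>
      have h4 := congrArg (coeff (m + 1)) h2
      rw [sub_mul, one_mul, mul_assoc, map_sub, map_sub, coeff_C_mul, coeff_C_mul, coeff_succ_X_mul,
        ih (by omega), coeff_X_pow, if_neg (by omega), coeff_one, if_neg (by omega)] at h4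
      linear_combination h4
  have h4 := h3 n le_rfl
  rw [coeff_map, map_add] at h4
  have h5 := h1 hn
  zify at h5 ⊢
  simp only [eq_natCast, Nat.cast_add] at h4
  linarith

theorem cN_gl (t : ℕ) {n : ℕ} (hn : 0 < n) : cN (aw (t + 1) t) n < (t + 1) ^ n :=
  (cN_le rfl le_rfl).trans_lt (coeff_gl_lt t hn)

theorem cN_one {a : ℕ → ℕ} (ha : a 0 = 1) : cN a 1 ≤ a 1 := by
  simpa [sp] using cN_le ha (le_refl 1)

theorem cN_three {a : ℕ → ℕ} (ha : a 0 = 1) : cN a 3 ≤ a 3 + a 1 * a 1 + a 1 := by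
  refine (cN_le ha (le_refl 3)).trans_eq ?_
  rw [show Icc 1 3 = {1, 2, 3} from rfl]
  simp [coeff_mul, Nat.antidiagonal_succ, sp, ha]
  ring

/-- The error term. -/
def EE (q t n : ℕ) : ℕ := ∑ d ∈ n.divisors with 1 < d ∧ d ∣ t, (d ^ 2 - 1) * q ^ (n / d)

theorem EE_le {q t : ℕ} (hq : 0 < q) (ht : 0 < t) (n : ℕ) : EE q t n ≤ t ^ 3 * q ^ (n / 2) := by
  refine (sum_le_card_nsmul _ _ (t ^ 2 * q ^ (n / 2)) fun d hd => ?_).trans ?_
  · obtain ⟨-, h1, h2⟩ := mem_filter.1 hd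
    exact Nat.mul_le_mul ((Nat.sub_le _ _).trans (Nat.pow_le_pow_left (Nat.le_of_dvd ht h2) 2))
      (Nat.pow_le_pow_right hq (Nat.div_le_div_left h1 two_pos))
  · rw [smul_eq_mul, ← mul_assoc]
    refine Nat.mul_le_mul_right _ ?_
    rw [pow_succ' t 2]
    refine Nat.mul_le_mul_right _ ((card_le_card (t := Icc 1 t) fun d hd => ?_).trans (by simp))
    obtain ⟨-, h1, h2⟩ := mem_filter.1 hd
    exact mem_Icc.2 ⟨h1.le, Nat.le_of_dvd ht h2⟩

theorem EE_le' (q t n : ℕ) : EE q t n ≤ ∑ d ∈ n.divisors, (d ^ 2 - 1) * q ^ (n / d) :=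
  sum_le_sum_of_subset (filter_subset _ _)

theorem EE_le_pow {q t : ℕ} (hq : 3 ≤ q) (ht : 0 < t) (ht' : t ≤ q + 1) (n : ℕ) :
    EE q t n ≤ q ^ n := by
  rcases le_or_gt 7 n with h | h
  · refine (EE_le (by omega) ht n).trans (le_trans ?_ (Nat.pow_le_pow_right (by omega)
      (show 4 + n / 2 ≤ n by omega)))
    rw [pow_add]
    refine Nat.mul_le_mul_right _ ((Nat.pow_le_pow_left ht' 3).trans ?_)
    obtain ⟨r, rfl⟩ := Nat.exists_eq_add_of_le hq
    ring_nf; omega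
  refine (EE_le' q t n).trans ?_
  obtain ⟨r, rfl⟩ := Nat.exists_eq_add_of_le hq
  interval_cases n
  · simp
  · simp
  · rw [show Nat.divisors 2 = {1, 2} from rfl]; simp; ring_nf; omega
  · rw [show Nat.divisors 3 = {1, 3} from rfl]; simp; ring_nf; omega
  · rw [show Nat.divisors 4 = {1, 2, 4} from rfl]; simp; ring_nf; omega
  · rw [show Nat.divisors 5 = {1, 5} from rfl]; simp; ring_nf; omega
  · rw [show Nat.divisors 6 = {1, 2, 3, 6} from rfl]; simp; ring_nf; omega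

theorem EE_one (q n : ℕ) : EE q 1 n = 0 :=
  sum_eq_zero fun d hd => by
    obtain ⟨-, h1, h2⟩ := mem_filter.1 hd
    exact absurd (Nat.dvd_one.1 h2) h1.ne'

theorem EE_gl {t n : ℕ} (ht : 2 ≤ t) (hn : 5 ≤ n) : EE (t + 1) t n ≤ (t + 1) ^ (n - 1) := by
  rcases le_or_gt 7 n with h | h
  · refine (EE_le (by omega) (by omega) n).trans (le_trans ?_ (Nat.pow_le_pow_right (by omega)
      (show 3 + n / 2 ≤ n - 1 by omega)))
    rw [pow_add]
    exact Nat.mul_le_mul_right _ (Nat.pow_le_pow_left (by omega) 3)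
  rcases ht.eq_or_lt with rfl | ht
  · interval_cases n <;> decide
  refine (EE_le' _ t n).trans ?_
  obtain ⟨r, rfl⟩ := Nat.exists_eq_add_of_lt ht
  interval_cases n
  · rw [show Nat.divisors 5 = {1, 5} from rfl]; simp; ring_nf; omega
  · rw [show Nat.divisors 6 = {1, 2, 3, 6} from rfl]; simp; ring_nf; omega

theorem sum_le_EE {a : ℕ → ℕ} {q α β : ℕ} (t n : ℕ) (h : ∀ m, 0 < m → β * cN a m ≤ α * q ^ m) :
    β * ∑ d ∈ n.divisors with 1 < d ∧ d ∣ t, (d ^ 2 - 1) * cN a (n / d) ≤ α * EE q t n := by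
  rw [EE, mul_sum, mul_sum]
  refine sum_le_sum fun d hd => ?_
  obtain ⟨h0, h1, -⟩ := mem_filter.1 hd
  rw [mul_left_comm, mul_left_comm α]
  exact Nat.mul_le_mul_left _ (h _ (Nat.div_pos (Nat.divisor_le h0) (by omega)))

/-- The bound of `Ct.sum_gg`. -/
def BB (q t n : ℕ) : ℕ :=
  cN (aw q t) n + ∑ d ∈ n.divisors with 1 < d ∧ d ∣ t, (d ^ 2 - 1) * cN (aw q t) (n / d)

theorem BB_one (q t : ℕ) : BB q t 1 ≤ t := by
  simpa [BB, aw, sum_filter] using cN_one (a := aw q t) rfl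

theorem BB_two (t : ℕ) : BB (t + 1) t 2 ≤ t * (t + 5) ∧ BB 2 1 2 ≤ 3 := by
  have h1 := cN_gl t two_pos
  have h2 := cN_gl t one_pos
  have h3 := cN_gl 1 two_pos
  simp only [BB, sum_filter, show Nat.divisors 2 = {1, 2} from rfl]
  constructor
  · simp; split_ifs <;> nlinarith
  · simp at h3 ⊢; omega

theorem BB_gl {t n : ℕ} (ht : 0 < t) (hn : 3 ≤ n) :
    BB (t + 1) t n ≤ t * ((t + 1) ^ (n - 1) + 3 * (t + 1) ^ (n - 2)) := by
  have h1 := cN_gl t one_pos
  have h2 := cN_gl t two_pos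
  rcases le_or_gt 5 n with h | h
  · have h3 := cN_gl t (show 0 < n by omega)
    have h4 := sum_le_EE (α := 1) (β := 1) t n fun m hm => by simpa using (cN_gl t hm).le
    have h5 : EE (t + 1) t n + 3 * (t + 1) ^ (n - 2) ≤ 2 * (t + 1) ^ (n - 1) := by
      obtain ⟨m, rfl⟩ := Nat.exists_eq_add_of_le' (show 2 ≤ n by omega)
      rcases (show 1 ≤ t from ht).eq_or_lt with rfl | h6
      · simp [EE_one, pow_succ]; omega
      · have := EE_gl h6 h
        simp only [Nat.add_succ_sub_one, pow_succ, Nat.add_sub_cancel] at this ⊢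
        nlinarith [Nat.zero_le ((t + 1) ^ m)]
    obtain ⟨m, rfl⟩ := Nat.exists_eq_add_of_le' (show 2 ≤ n by omega)
    simp only [BB, Nat.add_succ_sub_one, pow_succ, Nat.add_sub_cancel] at h3 h4 h5 ⊢
    nlinarith
  interval_cases n
  · have h3 := cN_three (a := aw (t + 1) t) rfl
    simp only [BB, sum_filter, show Nat.divisors 3 = {1, 3} from rfl]
    simp [aw] at h3 ⊢
    split_ifs with h4
    · have := Nat.le_of_dvd ht h4
      nlinarith
    · nlinarith
  · have h3 := cN_gl t four_pos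
    simp only [BB, sum_filter, show Nat.divisors 4 = {1, 2, 4} from rfl]
    simp
    split_ifs with h4 h5 h5
    · obtain ⟨r, rfl⟩ := Nat.exists_eq_add_of_le (Nat.le_of_dvd ht h5)
      ring_nf at h1 h2 h3 ⊢; omega
    · obtain ⟨r, rfl⟩ := Nat.exists_eq_add_of_le (Nat.le_of_dvd ht h4)
      ring_nf at h1 h2 h3 ⊢; omega
    · omega
    · obtain ⟨r, rfl⟩ := Nat.exists_eq_add_of_le (show 1 ≤ t from ht)
      ring_nf at h1 h2 h3 ⊢; omega

theorem prod_le_of_inv (b : ℕ → ℝ) {x c M : ℝ} (N₀ : ℕ) (hx : 0 ≤ x) (hc : 0 ≤ c)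
    (h1 : ∀ i, 1 ≤ b i) (h2 : ∀ i, N₀ ≤ i → b i * (1 + c * x ^ (i + 1)) ≤ 1 + c * x ^ i)
    (h3 : (∏ i ∈ range N₀, b i) * (1 + c * x ^ N₀) ≤ M) (N : ℕ) : ∏ i ∈ range N, b i ≤ M := by
  have h0 : ∀ N, 0 ≤ ∏ i ∈ range N, b i := fun N => prod_nonneg fun i _ => zero_le_one.trans (h1 i)
  have h4 : ∀ k, (∏ i ∈ range (N₀ + k), b i) * (1 + c * x ^ (N₀ + k)) ≤ M := fun k => by
    induction k with
    | zero => exact h3
    | succ k ih =>
      rw [← add_assoc, prod_range_succ, mul_assoc]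
      exact (mul_le_mul_of_nonneg_left (h2 _ (by omega)) (h0 _)).trans ih
  have h5 : Monotone fun N => ∏ i ∈ range N, b i := monotone_nat_of_le_succ fun n => by
    rw [prod_range_succ]; exact le_mul_of_one_le_right (h0 n) (h1 n)
  exact (h5 (Nat.le_add_left N N₀)).trans
    ((le_mul_of_one_le_right (h0 _) (le_add_of_nonneg_right (by positivity))).trans (h4 N))

theorem sum_aw_le (q t : ℕ) {y : ℝ} (hy : 0 ≤ y) (h : q * y < 1) (N : ℕ) :
    ∑ d ∈ range N, (aw q t d : ℝ) * y ^ d ≤ 1 + t * y / (1 - q * y) := by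
  have h1 : 0 < 1 - q * y := by linarith
  rcases N with _ | N
  · simp; positivity
  rw [sum_range_succ', add_comm]
  simp only [aw, Nat.cast_one, pow_zero, mul_one, add_le_add_iff_left, Nat.cast_mul, Nat.cast_pow]
  rw [le_div_iff₀ h1, sum_congr rfl fun d _ => show (t : ℝ) * q ^ d * y ^ (d + 1) =
    t * y * (q * y) ^ d by ring, ← mul_sum, mul_assoc (t * y : ℝ), geom_sum_mul_neg]
  exact mul_le_of_le_one_right (by positivity) (sub_le_self _ (by positivity))

theorem cN_gu_le {q : ℕ} (hq : 2 ≤ q) (n : ℕ) : (cN (aw q (q + 1)) n : ℝ) ≤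
    (∏ i ∈ range (n + 1), (1 + (q⁻¹ : ℝ) ^ (i + 1)) / (1 - (q⁻¹ : ℝ) ^ (i + 1))) * q ^ n := by
  have hq' : (2 : ℝ) ≤ q := by exact_mod_cast hq
  set x : ℝ := (q : ℝ)⁻¹ with hx
  have hx0 : 0 < x := by positivity
  have hxq : x * q = 1 := inv_mul_cancel₀ (by positivity)
  have hx1 : ∀ i, x ^ (i + 1) < 1 := fun i => pow_lt_one₀ hx0.le (by nlinarith) (by omega)
  have h1 := cN_le (a := aw q (q + 1)) rfl (Nat.le_succ n)
  rw [← insert_Icc_succ_left_eq_Icc (by simp), prod_insert (by simp)] at h1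
  have h2 := coeff_mul_le (α := 1 + x) hx0.le hxq n (f := sp 1 (aw q (q + 1)))
    (∏ i ∈ Icc (Order.succ 1) n.succ, sp i (aw q (q + 1))) fun m => by
      rcases m with _ | m
      · simp [sp, aw, hx0.le]
      · simp only [sp, aw, coeff_mk, one_dvd, if_true, Nat.div_one]
        push_cast
        exact le_of_eq (by linear_combination (-(q : ℝ) ^ m) * hxq)
  have h3 := evl_prod_le hx0.le n (fun i => sp i (aw q (q + 1)))
    (fun i => (1 + x ^ i) / (1 - x ^ (i - 1))) (Icc (Order.succ 1) n.succ) fun i hi => by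
      obtain ⟨j, rfl⟩ := Nat.exists_eq_add_of_le' (mem_Icc.1 hi).1
      have h4 : q * x ^ (j + 2) = x ^ (j + 1) := by linear_combination x ^ (j + 1) * hxq
      refine evl_sp_le hx0.le (by simp) n fun N => (sum_aw_le q (q + 1) (by positivity)
        (h4.trans_lt (hx1 j)) N).trans_eq ?_
      have := (sub_pos.2 (hx1 j)).ne'
      change 1 + _ * x ^ (j + 2) / (1 - q * x ^ (j + 2)) = (1 + x ^ (j + 2)) / (1 - x ^ (j + 1))
      rw [h4]; field_simp; push_cast; linear_combination h4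
  refine ((Nat.cast_le.2 h1).trans h2).trans ?_
  rw [mul_right_comm]
  refine mul_le_mul_of_nonneg_right ((mul_le_mul_of_nonneg_left h3 (by positivity)).trans ?_)
    (by positivity)
  rw [show Icc (Order.succ 1) n.succ = Ico 2 (2 + n) from by ext; simp; omega, prod_Ico_eq_prod_range,
    prod_div_distrib, prod_div_distrib, prod_range_succ', prod_range_succ, ← mul_div_assoc]
  simp only [Nat.add_sub_cancel_left, add_comm 2, zero_add, pow_one, Nat.add_succ_sub_one]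
  have h5 : 0 < ∏ i ∈ range n, (1 - x ^ (i + 1)) := prod_pos fun i _ => sub_pos.2 (hx1 i)
  rw [mul_comm]
  exact div_le_div_of_nonneg_left (by positivity) (mul_pos h5 (sub_pos.2 (hx1 n)))
    (mul_le_of_le_one_right h5.le (sub_le_self _ (by positivity)))

theorem one_le_bb {x : ℝ} (h0 : 0 ≤ x) (h1 : x < 1) (i : ℕ) :
    1 ≤ (1 + x ^ (i + 1)) / (1 - x ^ (i + 1)) := by
  have := pow_lt_one₀ h0 h1 (Nat.add_one_ne_zero i)
  have := pow_nonneg h0 (i + 1)
  rw [one_le_div₀ (by linarith)]; linarith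

theorem cN_gu_two (n : ℕ) : 100 * cN (aw 2 (2 + 1)) n ≤ 826 * 2 ^ n := by
  have h1 := cN_gu_le le_rfl n
  have h2 := prod_le_of_inv (fun i => (1 + (2⁻¹ : ℝ) ^ (i + 1)) / (1 - (2⁻¹ : ℝ) ^ (i + 1)))
    (x := 2⁻¹) (c := 3) (M := 8.26) 12 (by norm_num) (by norm_num)
    (one_le_bb (by norm_num) (by norm_num)) (fun i hi => ?_)
    (by simp only [prod_range_succ]; norm_num) (n + 1)
  · have h3 : (0 : ℝ) ≤ 2 ^ n := by positivity
    push_cast at h1
    have : (100 * cN (aw 2 (2 + 1)) n : ℝ) ≤ 826 * 2 ^ n := by nlinarith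
    exact_mod_cast this
  · have h3 : (2⁻¹ : ℝ) ^ i ≤ 2⁻¹ ^ 12 := pow_le_pow_of_le_one (by norm_num) (by norm_num) hi
    have h4 : (0 : ℝ) ≤ 2⁻¹ ^ i := by positivity
    rw [pow_succ]
    generalize (2⁻¹ : ℝ) ^ i = y at h3 h4
    rw [div_mul_eq_mul_div, div_le_iff₀ (by norm_num at h3 ⊢; linarith)]
    norm_num at h3 ⊢; nlinarith

theorem cN_gu_three {q : ℕ} (hq : 3 ≤ q) (n : ℕ) : 10 * cN (aw q (q + 1)) n ≤ 28 * q ^ n := by
  have h1 := cN_gu_le (show 2 ≤ q by omega) n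
  have h2 := prod_le_of_inv (fun i => (1 + (3⁻¹ : ℝ) ^ (i + 1)) / (1 - (3⁻¹ : ℝ) ^ (i + 1)))
    (x := 3⁻¹) (c := 2) (M := 2.8) 6 (by norm_num) (by norm_num)
    (one_le_bb (by norm_num) (by norm_num)) (fun i hi => ?_)
    (by simp only [prod_range_succ]; norm_num) (n + 1)
  · have h3 : (0 : ℝ) ≤ q ^ n := by positivity
    have h4 : (q⁻¹ : ℝ) ≤ 3⁻¹ := inv_anti₀ (by norm_num) (by exact_mod_cast hq)
    have h5 : (∏ i ∈ range (n + 1), (1 + (q⁻¹ : ℝ) ^ (i + 1)) / (1 - (q⁻¹ : ℝ) ^ (i + 1))) ≤ 2.8 := by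
      refine le_trans (prod_le_prod (fun i _ => zero_le_one.trans
        (one_le_bb (by positivity) (by linarith) i)) fun i _ => ?_) h2
      have h6 := pow_le_pow_left₀ (by positivity) h4 (i + 1)
      exact div_le_div₀ (by positivity) (by linarith)
        (sub_pos.2 (pow_lt_one₀ (by norm_num) (by norm_num) i.succ_ne_zero)) (by linarith)
    have : (10 * cN (aw q (q + 1)) n : ℝ) ≤ 28 * q ^ n := by nlinarith
    exact_mod_cast this
  · have h3 : (3⁻¹ : ℝ) ^ i ≤ 3⁻¹ ^ 6 := pow_le_pow_of_le_one (by norm_num) (by norm_num) hi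
    have h4 : (0 : ℝ) ≤ 3⁻¹ ^ i := by positivity
    rw [pow_succ]
    generalize (3⁻¹ : ℝ) ^ i = y at h3 h4
    rw [div_mul_eq_mul_div, div_le_iff₀ (by norm_num at h3 ⊢; linarith)]
    norm_num at h3 ⊢; nlinarith

theorem BB_gu {q n : ℕ} (hq : 2 ≤ q) (hn : 0 < n) :
    100 * BB q (q + 1) n ≤ (q + 1) * (826 * q ^ (n - 1)) := by
  obtain ⟨n, rfl⟩ := Nat.exists_eq_add_one_of_ne_zero hn.ne'
  rw [BB, Nat.add_sub_cancel]
  rcases hq.eq_or_lt with rfl | hq
  · have h1 := cN_gu_two (n + 1)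
    have h2 : (n + 1).divisors.filter (fun d => 1 < d ∧ d ∣ 2 + 1) ⊆
        ({3} : Finset ℕ).filter (· ∣ n + 1) := fun d hd => by
      obtain ⟨h0, h1, h2⟩ := mem_filter.1 hd
      obtain rfl := ((Nat.dvd_prime Nat.prime_three).1 h2).resolve_left h1.ne'
      simpa using Nat.dvd_of_mem_divisors h0
    have h3 := sum_le_sum_of_subset (f := fun d => (d ^ 2 - 1) * cN (aw 2 (2 + 1)) ((n + 1) / d)) h2
    rw [filter_singleton] at h3
    rw [pow_succ] at h1
    split_ifs at h3 with h4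
    · obtain ⟨m, hm⟩ := h4
      rw [sum_singleton, hm, Nat.mul_div_cancel_left _ three_pos, ← hm] at h3
      rcases m with _ | _ | m
      · omega
      · have := cN_one (a := aw 2 (2 + 1)) rfl
        obtain rfl : n = 2 := by omega
        simp only [aw, zero_add] at this h3 ⊢
        omega
      · have h5 := cN_gu_two (m + 1 + 1)
        have h6 : 2 ^ (m + 1 + 1 + 3) ≤ 2 ^ n := Nat.pow_le_pow_right two_pos (by omega)
        rw [pow_add] at h6
        omega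
    · rw [sum_empty] at h3
      omega
  · have h1 := cN_gu_three hq (n + 1)
    have h2 := sum_le_EE (q + 1) (n + 1) fun m _ => cN_gu_three hq m
    have h3 := EE_le_pow hq q.succ_pos le_rfl (n + 1)
    rw [pow_succ] at h1 h3
    nlinarith [Nat.zero_le (q ^ n)]

end CF.Cls
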