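/-
Class numbers of special linear and unitary groups: the group side.
-/
import Cfsg.Agent.Cls.KN4
import Cfsg.Agent.Cls.Ev2

set_option autoImplicit false

namespace CF.Cls

open Polynomial Module CF.Geom Finset

theorem card_le_sum {α β : Type*} [Finite α] (P : α → Prop) (R : α → β → Prop) (s : Finset β)
    (N : β → ℕ) (h1 : ∀ a, P a → ∃ b ∈ s, R a b) (h2 : ∀ b ∈ s, Nat.card {a // R a b} ≤ N b) :
    Nat.card {a // P a} ≤ ∑ b ∈ s, N b := by
  classical
  have := Fintype.ofFinite α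
  rw [Nat.card_eq_fintype_card, Fintype.card_subtype]
  refine (card_le_card (t := s.biUnion fun b => univ.filter (R · b)) fun a ha => ?_).trans
    (card_biUnion_le.trans (sum_le_sum fun b hb => ?_))
  · simpa using h1 a (mem_filter.1 ha).2
  · rw [← Fintype.card_subtype, ← Nat.card_eq_fintype_card]; exact h2 b hb

theorem det_aeval_matrix {K : Type*} [Field K] [IsAlgClosed K] {ι κ : Type*} [Fintype ι]
    [DecidableEq ι] [Fintype κ] [DecidableEq κ] {A : Matrix ι ι K} {B : Matrix κ κ K} {e : ℕ}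
    (h : A.charpoly = B.charpoly ^ e) (P : K[X]) : (aeval A P).det = (aeval B P).det ^ e := by
  have hc : Fintype.card ι = e * Fintype.card κ := by
    rw [← A.charpoly_natDegree_eq_dim, h, B.charpoly_monic.natDegree_pow,
      B.charpoly_natDegree_eq_dim]
  have h1 : ∀ c : K, (aeval A (C c)).det = (aeval B (C c)).det ^ e := fun c => by
    simp [Algebra.algebraMap_eq_smul_one, hc, ← pow_mul, mul_comm]
  have h2 : ∀ c : K, (aeval A (C c - X)).det = (aeval B (C c - X)).det ^ e := fun c => by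
    have := congrArg (eval c) h
    rw [eval_pow, Matrix.eval_charpoly, Matrix.eval_charpoly] at this
    rw [map_sub, map_sub, aeval_C, aeval_C, aeval_X, aeval_X]
    exact this
  rw [(IsAlgClosed.splits P).eq_prod_roots, map_mul, map_mul, Matrix.det_mul, Matrix.det_mul,
    mul_pow, h1]
  congr 1
  induction P.roots using Multiset.induction_on with
  | empty => simp
  | cons r s ih =>
    rw [Multiset.map_cons, Multiset.prod_cons, show X - C r = C (-1) * (C r - X) by simp]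
    simp only [map_mul, Matrix.det_mul, mul_pow, h1, h2, ih]

variable {F : Type*} [Field F] {V W : Type*} [AddCommGroup V] [Module F V] [FiniteDimensional F V]
  [AddCommGroup W] [Module F W] [FiniteDimensional F W]

theorem map_det_aeval {K : Type*} [Field K] (φ : F →+* K) (k : End F V) (P : F[X]) :
    φ (LinearMap.det (aeval k P)) =
      (aeval ((LinearMap.toMatrix (finBasis F V) (finBasis F V) k).map φ) (P.map φ)).det := by
  rw [← LinearMap.det_toMatrix (finBasis F V), RingHom.map_det]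
  congr 1
  exact (congrArg φ.mapMatrix (aeval_algHom_apply
    (LinearMap.toMatrixAlgEquiv (finBasis F V)) k P).symm).trans
    (map_aeval_eq_aeval_map (by ext; simp [Matrix.algebraMap_matrix_apply, apply_ite φ]) P _)

theorem det_aeval_pow {f : End F V} {g : End F W} {e : ℕ} (h : f.charpoly = g.charpoly ^ e)
    (P : F[X]) : LinearMap.det (aeval f P) = LinearMap.det (aeval g P) ^ e := by
  let φ := algebraMap F (AlgebraicClosure F)
  refine φ.injective ?_
  rw [map_pow, map_det_aeval, map_det_aeval]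
  refine det_aeval_matrix ?_ _
  rw [Matrix.charpoly_map, Matrix.charpoly_map, LinearMap.charpoly_toMatrix,
    LinearMap.charpoly_toMatrix, h, Polynomial.map_pow]

theorem pow_mem_detC_cyc [Finite F] {π : F[X]} (h1 : π.Monic) (h2 : Irreducible π) (e : ℕ)
    (c : Fˣ) : c ^ e ∈ detC (cyc (π ^ e)) := by
  have := fd_adjoinRoot h1.ne_zero
  have := fd_adjoinRoot (h1.pow e).ne_zero
  obtain ⟨g, hg, rfl⟩ := (detC_cyc_irreducible h2).ge (Subgroup.mem_top c)
  obtain ⟨x, hx⟩ := (unitsEquivCG π).surjective ⟨g, hg⟩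
  obtain ⟨P, hP⟩ := AdjoinRoot.mk_surjective (x : AdjoinRoot π)
  have h3 : aeval (cyc π) P = g.toLinearMap := by
    ext1 y
    rw [aeval_cyc, hP, ← unitsEquivCG_apply, hx]; rfl
  have h4 := det_aeval_pow (f := cyc (π ^ e)) (g := cyc π) (e := e)
    (by rw [charpoly_cyc h1, charpoly_cyc (h1.pow e)]) P
  rw [h3, ← LinearEquiv.coe_det] at h4
  have h5 : IsUnit (aeval (cyc (π ^ e)) P) :=
    (LinearMap.isUnit_iff_isUnit_det _).2 (h4 ▸ (Units.isUnit _).pow e)
  refine ⟨LinearMap.GeneralLinearGroup.toLinearEquiv h5.unit, mem_CG.2 fun v => ?_, Units.ext ?_⟩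
  · change aeval (cyc (π ^ e)) P _ = cyc _ (aeval (cyc (π ^ e)) P v)
    rw [aeval_cyc, aeval_cyc, cyc_apply, cyc_apply, mul_left_comm]
  · rw [Units.val_pow_eq_pow_val, ← h4]; exact LinearEquiv.coe_det _

theorem sim_cyc_mul {a b : F[X]} (h : IsCoprime a b) :
    Sim (cyc (a * b)) ((cyc a).prodMap (cyc b) : End F (_ × _)) := by
  have h1 : ∀ p : F[X], aeval ((cyc a).prodMap (cyc b) : End F (_ × _)) p (1, 1) =
      (AdjoinRoot.mk a p, AdjoinRoot.mk b p) := fun p => by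
    have h1 := aeval_intertwine (f := ((cyc a).prodMap (cyc b) : End F (_ × _))) (g := cyc a)
      (LinearMap.fst F _ _) (fun _ => rfl) p (1, 1)
    have h2 := aeval_intertwine (f := ((cyc a).prodMap (cyc b) : End F (_ × _))) (g := cyc b)
      (LinearMap.snd F _ _) (fun _ => rfl) p (1, 1)
    rw [aeval_cyc] at h1 h2
    exact Prod.ext (h1.trans (mul_one _)) (h2.trans (mul_one _))
  refine sim_cyc_of_cyclic _ (1, 1) _ (fun p => ?_) fun ⟨x, y⟩ => ?_
  · rw [h1, Prod.mk_eq_zero, AdjoinRoot.mk_eq_zero, AdjoinRoot.mk_eq_zero]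
    exact ⟨fun h' => h.mul_dvd h'.1 h'.2, fun h' => ⟨(dvd_mul_right _ _).trans h',
      (dvd_mul_left _ _).trans h'⟩⟩
  · obtain ⟨x, rfl⟩ := AdjoinRoot.mk_surjective x
    obtain ⟨y, rfl⟩ := AdjoinRoot.mk_surjective y
    obtain ⟨u, v, h⟩ := h
    refine ⟨x * (v * b) + y * (u * a), (h1 _).trans (Prod.ext ?_ ?_)⟩ <;>
      refine AdjoinRoot.mk_eq_mk.2 ?_
    · exact ⟨(y - x) * u, by linear_combination x * h⟩
    · exact ⟨(x - y) * v, by linear_combination y * h⟩

variable [Finite F] {K : Type*} [Field K] [Algebra F K] [IsAlgClosed K]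

theorem exists_pow_mem_ed {f : End F V} (hf : IsUnit f) {i : ℕ} (hi : i ∈ (ev K f).map Prod.snd) :
    ∃ π : F[X], π.Monic ∧ Irreducible π ∧ π.coeff 0 ≠ 0 ∧ 0 < i ∧ π ^ i ∈ ed f := by
  obtain ⟨x, hx, rfl⟩ := Multiset.mem_map.1 hi
  obtain ⟨a, ha, hx⟩ := Multiset.mem_bind.1 hx
  obtain ⟨π, e, h1, h2, h3, h4, rfl⟩ := (ed_spec hf a ha).1.exists_eq (ed_spec hf a ha).2
  rw [evP_pow h2 h3 h4] at hx
  obtain ⟨y, -, rfl⟩ := Multiset.mem_map.1 hx
  exact ⟨π, h1, h2, h3, h4, ha⟩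

theorem pow_mem_detC_ev {f : End F V} (hf : IsUnit f) {i : ℕ} (hi : i ∈ (ev K f).map Prod.snd)
    (c : Fˣ) : c ^ i ∈ detC f := by
  obtain ⟨π, h1, h2, -, -, h3⟩ := exists_pow_mem_ed hf hi
  exact detC_cyc_le h3 (pow_mem_detC_cyc h1 h2 i c)

theorem EH.detU_ev {σ : F →+* F} {B : V →ₛₗ[σ] V →ₗ[F] F} (h : EH σ 1 B) (hσ : σ ≠ RingHom.id F)
    {f : End F V} (hf : Pres B f) {i : ℕ} (hi : i ∈ (ev K f).map Prod.snd) {l : F}
    (hl : σ l * l = 1) : DetU B f (l ^ i) := by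
  classical
  obtain ⟨π, h1, h2, h0, hi0, h3⟩ := exists_pow_mem_ed (h.pres_isUnit hf) hi
  obtain ⟨δ, rfl⟩ := exists_hilbert90 hσ h.invol hl
  rw [show ((δ : F) * (σ δ)⁻¹) ^ i = (δ ^ i : Fˣ) * (σ (δ ^ i : Fˣ))⁻¹ by simp [mul_pow]]
  have h4 := ed_isPP f _ h3
  have := fd_adjoinRoot h4.ne_zero
  have h5 : ed (cyc (π ^ i)) = {π ^ i} := (hasED_cyc _).ed_eq (by simpa using h4)
  by_cases hc : cr σ π = π
  · exact h.detU_of_le hσ hf (a := π ^ i) (by rw [h5]; simpa using h3) (by rw [h5]; simp [hc])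
      (pow_mem_detC_cyc h1 h2 i δ)
  have h6 : cr σ π ^ i ∈ ed f := by
    rw [← h.ed_pres hf, ← map_pow]; exact Multiset.mem_map_of_mem _ h3
  have h7 := ed_isPP f _ h6
  have h8 := irreducible_cr h.invol h1 h0 h2
  have h9 : ¬ π ∣ cr σ π ^ i := fun h9 => hc (eq_of_pow_eq h1 h2 (monic_cr h0) h8 h9).symm
  have := fd_adjoinRoot h7.ne_zero
  have := fd_adjoinRoot (h4.monic.mul h7.monic).ne_zero
  have h10 : ed (cyc (π ^ i * cr σ π ^ i)) = {π ^ i, cr σ π ^ i} := by
    rw [sim_iff_ed.1 (sim_cyc_mul (h2.coprime_iff_not_dvd.2 h9).pow_left), ed_prodMap, h5,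
      (hasED_cyc _).ed_eq (by simpa using h7)]
    rfl
  refine h.detU_of_le hσ hf (a := π ^ i * cr σ π ^ i) ?_ ?_
    (detC_cyc_le (by simp [h10]) (pow_mem_detC_cyc h1 h2 i δ))
  · rw [h10, Multiset.le_iff_subset (by
      simpa using fun e : π ^ i = cr σ π ^ i => h9 (e ▸ dvd_pow_self π hi0.ne'))]
    intro a ha
    simp only [Multiset.insert_eq_cons, Multiset.mem_cons, Multiset.mem_singleton] at ha
    rcases ha with rfl | rfl
    exacts [h3, h6]
  · rw [h10]; simp [cr_cr h.invol h1 h0]; exact Multiset.cons_swap _ _ 0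

omit [IsAlgClosed K] in
theorem tq_spec {p : ℕ} (hT : TA Kˣ p) {Q : ℤ} (hQ : PQ p Q) : Finite (Tq Kˣ Q) ∧
    IsCyclic (Tq Kˣ Q) ∧ Nat.card (Tq Kˣ Q) = (Q - 1).natAbs := by
  have h0 : NeZero (Q - 1).natAbs :=
    ⟨by simpa using hQ.pow_sub_one_ne hT.prime one_pos⟩
  have h1 : Tq Kˣ Q = rootsOfUnity (Q - 1).natAbs K := by
    ext z
    rw [mem_Tq, zpow_eq_iff, mem_rootsOfUnity, ← orderOf_dvd_iff_pow_eq_one, Int.natCast_dvd]
  obtain ⟨x, hx, -⟩ := hT.exists_dvd hQ (m := (Q - 1).natAbs) one_pos (by simp)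
  rw [h1]
  refine ⟨inferInstance, inferInstance, IsPrimitiveRoot.card_rootsOfUnity' (ζ := x) ?_⟩
  rw [← hx]; exact IsPrimitiveRoot.orderOf x

variable [Algebra.IsAlgebraic F K] (p : ℕ) [hp : Fact p.Prime] [CharP F p]

include p in
theorem ct_gl : Ct Kˣ (Nat.card F) (Nat.card F) (Nat.card F - 1) := by
  have := (RingHom.charP_iff_charP (algebraMap F K) p).1 ‹_›
  obtain ⟨h1, h2, h3⟩ := tq_spec (ta_units (F := F) (K := K) p) (pq_card (F := F) p)
  have := Nat.card_pos (α := F)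
  exact ⟨h1, h2, by omega, cnt_gl p⟩

include p in
theorem ct_gu {q : ℕ} (hF : Nat.card F = q ^ 2) : Ct Kˣ (-(q : ℤ)) q (q + 1) := by
  have := (RingHom.charP_iff_charP (algebraMap F K) p).1 ‹_›
  obtain ⟨h1, h2, h3⟩ := tq_spec (ta_units (F := F) (K := K) p) (pq_neg p hF)
  exact ⟨h1, h2, by omega, cnt_gu p hF⟩

omit [Algebra.IsAlgebraic F K] in
theorem card_fiber_SL {n : ℕ} (hn : 0 < n) (J : Multiset (Kˣ × ℕ)) :
    Nat.card {C : ConjClasses (Matrix.SpecialLinearGroup (Fin n) F) // ∃ g, ConjClasses.mk g = C ∧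
      ev K (toE Matrix.SpecialLinearGroup.coeMonoidHom g) = J} ≤
      gg (Nat.card F - 1) (J.map Prod.snd) := by
  have : Nonempty (Fin n) := ⟨⟨0, hn⟩⟩
  have hu : ∀ g : Matrix.SpecialLinearGroup (Fin n) F,
      IsUnit (toE Matrix.SpecialLinearGroup.coeMonoidHom g) := fun g => (Group.isUnit g).map _
  by_cases h : ∃ x : Matrix.SpecialLinearGroup (Fin n) F,
      ev K (toE Matrix.SpecialLinearGroup.coeMonoidHom x) = J
  swap
  · rw [Nat.card_eq_zero.2 (.inl ⟨fun ⟨_, g, _, hg⟩ => h ⟨g, hg⟩⟩)]; exact Nat.zero_le _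
  obtain ⟨x, rfl⟩ := h
  rw [card_classes_ker Matrix.GeneralLinearGroup.det Matrix.GeneralLinearGroup.det_surjective
    Matrix.SpecialLinearGroup.toGL Matrix.SpecialLinearGroup.toGL_injective
    (CF.Classical.toGL_range_eq_ker_det F) x _ (fun u => ?_), map_det_centralizer,
    ← Nat.card_units]
  · exact index_le_gg _ fun i hi c => pow_mem_detC_ev (hu x) hi c
  · rw [isConj_GL_iff_sim, eq_comm]; exact (sim_iff_ev (hu x) (hu u)).symm

omit [Algebra.IsAlgebraic F K] in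
theorem card_fiber_SU {n q : ℕ} (hn : 0 < n) (hF : Nat.card F = q ^ 2) (J : Multiset (Kˣ × ℕ)) :
    Nat.card {C : ConjClasses (Cfsg.SU n F q) // ∃ g, ConjClasses.mk g = C ∧
      ev K (toE (Matrix.SpecialLinearGroup.coeMonoidHom.comp (Cfsg.SU n F q).subtype) g) = J} ≤
      gg (q + 1) (J.map Prod.snd) := by
  have := Fintype.ofFinite F
  rw [Nat.card_eq_fintype_card] at hF
  obtain ⟨σ, hσ, hσ1, hσ2⟩ := exists_conj hF
  have h := eh_hermSesq hσ2 (Fin n)
  have : Nonempty (Fin n) := ⟨⟨0, hn⟩⟩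
  have hu : ∀ g : Cfsg.SU n F q, IsUnit (toE (Matrix.SpecialLinearGroup.coeMonoidHom.comp
      (Cfsg.SU n F q).subtype) g) := fun g => (Group.isUnit g).map _
  by_cases h : ∃ x : Cfsg.SU n F q,
      ev K (toE (Matrix.SpecialLinearGroup.coeMonoidHom.comp (Cfsg.SU n F q).subtype) x) = J
  swap
  · rw [Nat.card_eq_zero.2 (.inl ⟨fun ⟨_, g, _, hg⟩ => h ⟨g, hg⟩⟩)]; exact Nat.zero_le _
  obtain ⟨x, rfl⟩ := h
  rw [card_classes_ker (udet h.nondegenerate) (udet_surjective (h.isHerm hσ1) _) (suToUG n hσ)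
    (suToUG_injective n hσ) ((suToUG_range n hσ).trans (ker_udet _).symm) x _ (fun u => ?_),
    ← card_normOne hF hσ]
  · exact index_le_gg _ fun i hi c => (h.mem_map_udet _ _).2
      (h.detU_ev hσ1 (pres_SU hσ x) hi c.2)
  · rw [isConj_suToUG_iff hσ hσ1 hσ2, isConj_iff_sim, eq_comm]
    exact (sim_iff_ev (hu x) (hu u)).symm

omit [Finite F] [IsAlgClosed K] [Algebra.IsAlgebraic F K] in
/-- Classes whose invariants satisfy a condition. -/
theorem card_le_sum_gg {G β : Type*} [Group G] [Finite G] (inv : G → β) (P : β → Prop) (N : β → ℕ)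
    (h : ∀ J, Nat.card {C : ConjClasses G // ∃ g, ConjClasses.mk g = C ∧ inv g = J} ≤ N J) :
    ∃ s : Finset β, (∀ J ∈ s, P J ∧ ∃ g, inv g = J) ∧
      Nat.card {C : ConjClasses G // ∃ g, ConjClasses.mk g = C ∧ P (inv g)} ≤ ∑ J ∈ s, N J := by
  classical
  have := Fintype.ofFinite G
  refine ⟨(univ.image inv).filter P, fun J hJ => ⟨(mem_filter.1 hJ).2, by
    simpa using (mem_filter.1 hJ).1⟩, card_le_sum _ _ _ _ ?_ fun J _ => h J⟩
  rintro _ ⟨g, rfl, hg⟩
  exact ⟨inv g, by simp [hg], g, rfl, rfl⟩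

theorem card_conj_eq (G : Type*) [Group G] : Nat.card (ConjClasses G) =
    Nat.card {C : ConjClasses G // ∃ g, ConjClasses.mk g = C ∧ True} :=
  Nat.card_congr (Equiv.subtypeUnivEquiv fun C => by simpa using C.exists_rep).symm

include p in
theorem card_SL_le {n : ℕ} (hn : 0 < n) : (Nat.card F - 1) *
    Nat.card (ConjClasses (Matrix.SpecialLinearGroup (Fin n) F)) ≤
      BB (Nat.card F) (Nat.card F - 1) n := by
  obtain ⟨s, h1, h2⟩ := card_le_sum_gg _ (fun _ => True) _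
    (card_fiber_SL (F := F) (K := AlgebraicClosure F) hn)
  rw [card_conj_eq]
  refine (Nat.mul_le_mul_left _ h2).trans ((ct_gl p).sum_gg hn 1 s fun J hJ => ?_)
  obtain ⟨-, g, rfl⟩ := h1 J hJ
  have h := (Group.isUnit g).map (toE Matrix.SpecialLinearGroup.coeMonoidHom)
  exact ⟨by simpa using adm_ev' (K := AlgebraicClosure F) p h, (dt_eq_one_iff p h).2 (by
    rw [toE_eq, LinearMap.det_toLin']; exact g.2)⟩

include p in
theorem card_SU_le {n q : ℕ} (hn : 0 < n) (hF : Nat.card F = q ^ 2) :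
    (q + 1) * Nat.card (ConjClasses (Cfsg.SU n F q)) ≤ BB q (q + 1) n := by
  obtain ⟨s, h1, h2⟩ := card_le_sum_gg _ (fun _ => True) _
    (card_fiber_SU (F := F) (K := AlgebraicClosure F) hn hF)
  rw [card_conj_eq]
  refine (Nat.mul_le_mul_left _ h2).trans ((ct_gu p hF).sum_gg hn 1 s fun J hJ => ?_)
  obtain ⟨-, g, rfl⟩ := h1 J hJ
  have := Fintype.ofFinite F
  obtain ⟨σ, hσ, hσ1, hσ2⟩ := exists_conj (F := F) (q := q) (by rw [← hF, Nat.card_eq_fintype_card])
  have h := adm_ev_pres (K := AlgebraicClosure F) p hF hσ (eh_hermSesq hσ2 (Fin n)) (pres_SU hσ g)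
  rw [finrank_fin_fun] at h
  exact ⟨h, (dt_eq_one_iff p ((Group.isUnit g).map _)).2 (by
      rw [toE_eq, LinearMap.det_toLin']; exact g.1.2)⟩

end CF.Cls
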