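/-
Isometries of symmetric or alternating forms: bundled triples and free unipotent pieces.
-/
import Cfsg.Agent.Cls.KN5
import Cfsg.Agent.Cls.CentUnip
import Cfsg.Agent.Cls.RS2

set_option autoImplicit false

namespace CF.Cls

open Polynomial Module CF.Geom

universe u

/-- A space with a nondegenerate `ε`-symmetric form and an isometry. -/
structure Tri (F : Type u) [Field F] (ε : F) : Type (u + 1) where
  V : Type u
  [i1 : AddCommGroup V]
  [i2 : Module F V]
  [i3 : FiniteDimensional F V]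
  B : LinearMap.BilinForm F V
  f : End F V
  eh : EH (RingHom.id F) ε B
  pres : Pres B f

attribute [instance] Tri.i1 Tri.i2 Tri.i3

variable {F : Type u} [Field F] {ε : F}

theorem Pres.pow {V : Type*} [AddCommGroup V] [Module F V] {B : LinearMap.BilinForm F V}
    {f : End F V} (h : Pres B f) (k : ℕ) : Pres B (f ^ k) := by
  induction k with
  | zero => exact fun _ _ => rfl
  | succ k ih => exact fun u v => by rw [pow_succ', End.mul_apply, End.mul_apply, h, ih]

theorem Pres.sub_one_pow {V : Type*} [AddCommGroup V] [Module F V] {B : LinearMap.BilinForm F V}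
    {f : End F V} (h : Pres B f) (k : ℕ) (u v : V) :
    B (((f - 1) ^ k) u) ((f ^ k) v) = (-1) ^ k * B u (((f - 1) ^ k) v) := by
  induction k generalizing u v with
  | zero => simp
  | succ k ih =>
    have h1 : ∀ u v, B ((f - 1) u) (f v) = - B u ((f - 1) v) := fun u v => by simp [h u v]
    have h2 : (f - 1) ^ k * f = f * (f - 1) ^ k :=
      (((Commute.refl f).sub_left (Commute.one_left f)).pow_left k)
    rw [pow_succ, pow_succ, End.mul_apply, End.mul_apply, ih, ← End.mul_apply ((f - 1) ^ k), h2,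
      End.mul_apply, h1, ← End.mul_apply, ← pow_succ', pow_succ (-1 : F), pow_succ]
    ring

namespace Tri

/-- Isomorphism of triples. -/
def Iso (T T' : Tri F ε) : Prop :=
  ∃ Z : T.V ≃ₗ[F] T'.V, (∀ u v, T'.B (Z u) (Z v) = T.B u v) ∧ ∀ v, Z (T.f v) = T'.f (Z v)

/-- Orthogonal sum. -/
abbrev add (T T' : Tri F ε) : Tri F ε :=
  ⟨T.V × T'.V, osum T.B T'.B, T.f.prodMap T'.f, T.eh.osum T'.eh, T.pres.prodMap T'.pres⟩

/-- Negative. -/
abbrev neg (T : Tri F ε) : Tri F ε :=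
  ⟨T.V, T.B, -T.f, T.eh, fun u v => by simpa using T.pres u v⟩

/-- The zero space. -/
abbrev zero (F : Type u) [Field F] (ε : F) : Tri F ε :=
  ⟨PUnit, 0, 1, ⟨fun _ => rfl, fun _ _ => rfl, by simp⟩, fun _ _ => rfl⟩

/-- Iterated orthogonal sum. -/
def big (W : ℕ → Tri F ε) : ℕ → Tri F ε
  | 0 => zero F ε
  | m + 1 => (W m).add (big W m)

/-- The discriminant. -/
noncomputable def ds (T : Tri F ε) : ℤˣ := sqSign (gram T.B (finBasis F T.V)).det

/-- The top form. -/
def tf (T : Tri F ε) (m : ℕ) : LinearMap.BilinForm F T.V :=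
  T.B.compl₂ ((T.f - 1) ^ m : End F T.V)

variable {T T' T'' S S' : Tri F ε}

theorem tf_apply (m : ℕ) (u v : T.V) : T.tf m u v = T.B u (((T.f - 1) ^ m) v) := rfl

theorem unit (T : Tri F ε) : IsUnit T.f := T.eh.pres_isUnit T.pres

theorem Iso.refl (T : Tri F ε) : Iso T T := ⟨.refl F _, fun _ _ => rfl, fun _ => rfl⟩

theorem Iso.symm (h : Iso T T') : Iso T' T := by
  obtain ⟨Z, h1, h2⟩ := h
  exact ⟨Z.symm, fun u v => by simp [← h1], fun v => Z.injective (by simp [h2])⟩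

theorem Iso.trans (h : Iso T T') (h' : Iso T' T'') : Iso T T'' := by
  obtain ⟨Z, h1, h2⟩ := h
  obtain ⟨Y, h3, h4⟩ := h'
  exact ⟨Z.trans Y, fun u v => by simp [h1, h3], fun v => by simp [h2, h4]⟩

theorem Iso.add (h : Iso T T') (h' : Iso S S') : Iso (T.add S) (T'.add S') := by
  obtain ⟨Z, h1, h2⟩ := h
  obtain ⟨Y, h3, h4⟩ := h'
  exact ⟨Z.prodCongr Y, fun u v => congrArg₂ (· + ·) (h1 _ _) (h3 _ _),
    fun v => Prod.ext (h2 _) (h4 _)⟩

theorem Iso.neg (h : Iso T T') : Iso T.neg T'.neg := by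
  obtain ⟨Z, h1, h2⟩ := h
  exact ⟨Z, h1, fun v => (map_neg Z _).trans (congrArg Neg.neg (h2 v))⟩

theorem iso_neg_neg (T : Tri F ε) : Iso T T.neg.neg :=
  ⟨.refl F _, fun _ _ => rfl, fun _ => (neg_neg _).symm⟩

theorem iso_neg_add (T S : Tri F ε) : Iso (T.add S).neg (T.neg.add S.neg) :=
  ⟨.refl F _, fun _ _ => rfl, fun _ => rfl⟩

theorem iso_comm (T S : Tri F ε) : Iso (T.add S) (S.add T) :=
  ⟨.prodComm F _ _, fun _ _ => add_comm _ _, fun _ => rfl⟩

theorem iso_assoc (T S U : Tri F ε) : Iso ((T.add S).add U) (T.add (S.add U)) :=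
  ⟨.prodAssoc F _ _ _, fun _ _ => (add_assoc _ _ _).symm, fun _ => rfl⟩

theorem iso_left_comm (T S U : Tri F ε) : Iso (T.add (S.add U)) (S.add (T.add U)) :=
  (iso_assoc _ _ _).symm.trans (((iso_comm _ _).add (.refl _)).trans (iso_assoc _ _ _))

theorem iso_zero [Subsingleton T.V] : Iso T (zero F ε) :=
  ⟨LinearEquiv.ofSubsingleton _ _, fun u v => by rw [Subsingleton.elim u 0]; simp,
    fun _ => rfl⟩

theorem Iso.big {W W' : ℕ → Tri F ε} {m : ℕ} (h : ∀ j < m, Iso (W j) (W' j)) :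
    Iso (big W m) (big W' m) := by
  induction m with
  | zero => exact .refl _
  | succ m ih => exact (h m m.lt_succ_self).add (ih fun j hj => h j (by omega))

theorem exists_big (W : ℕ → Tri F ε) {m j : ℕ} (h : j < m) :
    ∃ S, Iso (big W m) ((W j).add S) := by
  induction m with
  | zero => omega
  | succ m ih =>
    rcases (Nat.lt_succ_iff.1 h).eq_or_lt with rfl | h
    · exact ⟨_, .refl _⟩
    · obtain ⟨S, hS⟩ := ih h
      exact ⟨_, ((Iso.refl _).add hS).trans (iso_left_comm _ _ _)⟩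

theorem Iso.sim (h : Iso T T') : Sim T.f T'.f := h.imp fun _ h => h.2

theorem ds_eq (T : Tri F ε) {ι : Type*} [Fintype ι] [DecidableEq ι] (b : Basis ι F T.V) :
    T.ds = sqSign (gram T.B b).det := by
  obtain ⟨t, ht, h⟩ := exists_det_gram_eq T.B b (Module.finBasis F T.V)
  rw [ds, h, sqSign_sq_mul ht]

theorem Iso.ds_eq (h : Iso T T') : T.ds = T'.ds := by
  obtain ⟨Z, h1, -⟩ := h
  rw [T'.ds_eq ((finBasis F T.V).map Z), ds]
  congr 2
  ext i j
  simp [h1]

theorem ds_add [Finite F] (T S : Tri F ε) : (T.add S).ds = T.ds * S.ds := by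
  rw [ds_eq _ ((Module.finBasis F T.V).prod (Module.finBasis F S.V)), ds, ds,
    ← sqSign_mul _ _ (det_gram_ne_zero T.eh.nondegenerate _)
      (det_gram_ne_zero S.eh.nondegenerate _), ← Matrix.det_fromBlocks_zero₂₁ _ 0]
  congr 2
  ext (i | i) (j | j) <;> simp

theorem ds_of_subsingleton [Subsingleton T.V] : T.ds = 1 := by
  rw [ds_eq _ (Basis.empty (ι := Empty) _), Matrix.det_isEmpty, sqSign_one]

theorem ds_big [Finite F] (W : ℕ → Tri F ε) (m : ℕ) :
    (big W m).ds = ∏ j ∈ Finset.range m, (W j).ds := by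
  induction m with
  | zero => exact ds_of_subsingleton (T := zero F ε)
  | succ m ih => rw [big, ds_add, ih, Finset.prod_range_succ_comm]

theorem exists_split (T : Tri F ε) {M : Type u} [AddCommGroup M] [Module F M]
    [FiniteDimensional F M] (φ : M →ₗ[F] T.V) {g : End F M} (hφ : ∀ x, φ (g x) = T.f (φ x))
    (h : ∀ x, (∀ y, T.B (φ x) (φ y) = 0) → x = 0) :
    ∃ (S : Tri F ε) (ψ : S.V →ₗ[F] T.V), Function.Injective ψ ∧ (∀ x, ψ (S.f x) = T.f (ψ x)) ∧
      (∀ x y, T.B (φ x) (ψ y) = 0) ∧ Iso T (add ⟨M, pull T.B φ, g, T.eh.pull φ h,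
        fun u v => by rw [pull_apply, hφ, hφ, T.pres, pull_apply]⟩ S) := by
  have h0 : Function.Injective φ :=
    (injective_iff_map_eq_zero φ).2 fun x hx => h x fun y => by simp [hx]
  set U := perp T.B (LinearMap.range φ)
  have h1 : ∀ x, ∀ y ∈ U, φ x + y = 0 → x = 0 := fun x y hy e => h x fun z => T.eh.refl (by
    rw [eq_neg_of_add_eq_zero_left e, map_neg, hy _ ⟨z, rfl⟩, neg_zero])
  let E : (M × U) →ₗ[F] T.V := φ.coprod U.subtype
  have h2 : Function.Injective E := (injective_iff_map_eq_zero E).2 fun x hx => by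
    have h3 := h1 x.1 x.2 x.2.2 hx
    exact Prod.ext h3 (Subtype.ext (by simpa [E, h3] using hx))
  have h3 : finrank F (M × U) = finrank F T.V := by
    rw [finrank_prod, ← LinearMap.finrank_range_of_inj h0]
    exact finrank_perp_add T.eh.surj T.B T.eh.nondeg _
  have h4 := (LinearMap.injective_iff_surjective_of_finrank_eq_finrank h3).1 h2
  have h5 : Function.Surjective g := LinearMap.injective_iff_surjective.1
    fun x y e => h0 (T.eh.pres_injective T.pres (by rw [← hφ, ← hφ, e]))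
  have h6 : ∀ y ∈ U, T.f y ∈ U := by
    rintro y hy _ ⟨x, rfl⟩
    obtain ⟨x, rfl⟩ := h5 x
    rw [hφ, T.pres]; exact hy _ ⟨x, rfl⟩
  refine ⟨⟨U, pull T.B U.subtype, T.f.restrict h6, T.eh.pull _ fun y hy => Subtype.ext
    (T.eh.nondeg _ fun v => ?_), fun u v => T.pres _ _⟩, U.subtype, U.injective_subtype,
    fun _ => rfl, fun x y => y.2 _ ⟨x, rfl⟩, Iso.symm ⟨.ofBijective E ⟨h2, h4⟩, fun u v => ?_,
      fun v => ?_⟩⟩
  · obtain ⟨⟨x, z⟩, rfl⟩ := h4 v
    change T.B y (φ x + z) = 0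
    rw [map_add, T.eh.refl (y.2 _ ⟨x, rfl⟩), zero_add]; exact hy z
  · change T.B (φ u.1 + u.2) (φ v.1 + v.2) = T.B (φ u.1) (φ v.1) + T.B u.2 v.2
    have a1 : T.B (φ u.1) v.2 = 0 := v.2.2 _ ⟨u.1, rfl⟩
    have a2 : T.B u.2 (φ v.1) = 0 := T.eh.refl (u.2.2 _ ⟨v.1, rfl⟩)
    simp [a1, a2]
  · change φ (g v.1) + T.f v.2 = T.f (φ v.1 + v.2)
    rw [hφ, map_add]

theorem exists_fitting (T : Tri F ε) : ∃ T₁ T₂, Iso T (add T₁ T₂) ∧ IsNilpotent (T₁.f - 1) ∧
    ∀ v, T₂.f v = v → v = 0 := by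
  obtain ⟨n, h1, h2⟩ := ((T.f - 1).eventually_isCompl_ker_pow_range_pow.and
    (Filter.eventually_gt_atTop 0)).exists
  set U := LinearMap.ker ((T.f - 1) ^ n)
  have h3 : ∀ y ∈ U, T.f y ∈ U := fun y hy => by
    rw [LinearMap.mem_ker, ← End.mul_apply,
      ((Commute.refl T.f).sub_left (Commute.one_left _)).pow_left n, End.mul_apply, hy, map_zero]
  have h4 : ∀ x : U, (∀ y : U, T.B x y = 0) → x = 0 := fun x hx => Subtype.ext
    (T.eh.pres_injective (T.pres.pow n) ((T.eh.nondeg' _ fun v => by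
      obtain ⟨a, ha, _, ⟨b, rfl⟩, rfl⟩ := Submodule.mem_sup.1 (h1.sup_eq_top.ge (Submodule.mem_top
        (x := v)))
      obtain ⟨a, rfl⟩ := ((End.isUnit_iff _).1 (T.unit.pow n)).2 a
      have h5 : a ∈ U := T.eh.pres_injective (T.pres.pow n) (by
        rw [← End.mul_apply, ((Commute.refl T.f).sub_right (Commute.one_right _)).pow_pow,
          End.mul_apply, ha, map_zero])
      rw [map_add, LinearMap.add_apply, T.pres.sub_one_pow, x.2, T.pres.pow,
        T.eh.refl (hx ⟨a, h5⟩)]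
      simp).trans (map_zero _).symm))
  obtain ⟨S, ψ, a1, a2, a3, a4⟩ := T.exists_split U.subtype (g := T.f.restrict h3) (fun _ => rfl) h4
  refine ⟨_, S, a4, ⟨n, LinearMap.ext fun x => Subtype.ext ?_⟩, fun v hv => a1 ?_⟩
  · exact (pow_intertwine (f := T.f.restrict h3 - 1) (g := T.f - 1) U.subtype (fun _ => rfl)
      n x).trans x.2
  · have h5 : ψ v ∈ U := by
      obtain ⟨n, rfl⟩ := Nat.exists_eq_add_of_lt h2
      rw [LinearMap.mem_ker, pow_succ, End.mul_apply, show (T.f - 1) (ψ v) = 0 by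
        simp [← a2, hv], map_zero]
    exact (congrArg Subtype.val (h4 ⟨_, h5⟩ fun y => T.eh.refl (a3 y v))).trans (map_zero ψ).symm

end Tri

end CF.Cls
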