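/-
Elements of prime order of projective classical groups: reductions and counting.
-/
import Cfsg.Agent.Cls.El2
import Cfsg.Agent.Cls.RT
import Cfsg.Agent.Cls.RS2
import Cfsg.Agent.Cls.KO1
import Cfsg.Agent.Geom.Families
import Cfsg.Prelude.Def_GeometricClasses

set_option autoImplicit false

namespace CF.Cls

open Polynomial Module CF.Geom CF.Classical QuadraticMap

section Wrap

variable {F V : Type*} [Field F] [AddCommGroup V] [Module F V]

/-- All elements of `G` of projective order `r` have the property `R`. -/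
def Elu (G : Subgroup (V ≃ₗ[F] V)) (r : ℕ) (R : End F V → Prop) : Prop :=
  ∀ g ∈ G, (∃ z : F, g.toLinearMap ^ r = algebraMap F _ z) →
    (∀ z : F, g.toLinearMap ≠ algebraMap F _ z) → R g.toLinearMap

/-- The group `Ω(Q)`. -/
def Om (Q : QuadraticForm F V) : Subgroup (V ≃ₗ[F] V) := (commutator (OG Q)).map (OG Q).subtype

theorem mem_Om {Q : QuadraticForm F V} {g : OG Q} : g.1 ∈ Om Q ↔ g ∈ commutator (OG Q) :=
  Subgroup.mem_map_iff_mem (f := (OG Q).subtype) Subtype.val_injective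

theorem Om_le (Q : QuadraticForm F V) : Om Q ≤ OG Q := Subgroup.map_subtype_le _

variable {ι : Type} [Fintype ι] [DecidableEq ι] {r : ℕ}

theorem elu_mat {H : Type*} [Group H] (ρ : H →* Matrix ι ι F) (S : H → Prop)
    {G : Subgroup ((ι → F) ≃ₗ[F] (ι → F))} (h : ∀ e, e ∈ G ↔ ∃ x, S x ∧ toLE ρ x = e)
    (R : End F (ι → F) → Prop) :
    (∀ x, S x → (∃ z : F, ρ (x ^ r) = z • (1 : Matrix ι ι F)) →
      (∀ z : F, ρ x ≠ z • (1 : Matrix ι ι F)) → R (Matrix.toLin' (ρ x))) ↔ Elu G r R := by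
  have h1 : ∀ x, (toLE ρ x).toLinearMap = Matrix.toLin' (ρ x) := fun x => rfl
  have h2 : ∀ x, (toLE ρ x).toLinearMap ^ r = Matrix.toLin' (ρ (x ^ r)) := fun x => by
    rw [h1, map_pow ρ, Matrix.toLin'_pow]
  simp only [Elu, h, Ne, ← toLin'_eq_algebraMap, ← h2]
  simp only [← h1]
  exact ⟨by rintro H _ ⟨x, hx, rfl⟩; exact H x hx, fun H x hx => H _ ⟨x, hx, rfl⟩⟩

theorem elu_sp (d : ℕ) (R : End F (Fin d ⊕ Fin d → F) → Prop) :
    (∀ x : Matrix.symplecticGroup (Fin d) F,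
      (∃ z : F, (x ^ r).1 = z • 1) → (∀ z : F, x.1 ≠ z • 1) → R (Matrix.toLin' x.1)) ↔
      Elu (SpG (sympBilin d F)) r R := by
  rw [← elu_mat (Cfsg.spToMat d F) (fun _ => True) fun e => ⟨fun h =>
    ⟨(spEquiv d F).symm ⟨e, h⟩, trivial, LinearEquiv.ext (spEquiv_symm_mulVec d _)⟩,
    by rintro ⟨x, -, rfl⟩; exact (spEquiv d F x).2⟩]
  exact forall_congr' fun x => (true_imp_iff).symm

theorem elu_GL {H : Subgroup (GL ι F)} {G : Subgroup ((ι → F) ≃ₗ[F] (ι → F))}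
    (h : ∀ x, x ∈ H ↔ glEquiv ι F x ∈ G) (R : End F (ι → F) → Prop) :
    (∀ x : GL ι F, x ∈ H → (∃ z : F, ((x ^ r : GL ι F) : Matrix ι ι F) = z • 1) →
      (∀ z : F, (x : Matrix ι ι F) ≠ z • 1) → R (Matrix.toLin' (x : Matrix ι ι F))) ↔
      Elu G r R :=
  elu_mat (Units.coeHom _) (· ∈ H) (fun e => ⟨fun he => ⟨(glEquiv ι F).symm e,
    (h _).2 (by simpa using he), LinearEquiv.ext (glEquiv_symm_mulVec e)⟩,
    by rintro ⟨x, hx, rfl⟩; exact (h x).1 hx⟩) R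

theorem mem_omegaGL (Q : QuadraticForm F (ι → F)) (x : GL ι F) :
    x ∈ Cfsg.Geo.omegaGL Q ↔ glEquiv ι F x ∈ Om Q :=
  ⟨by rintro ⟨y, hy, rfl⟩; exact mem_Om.2 ((mem_Omega_iff Q y).1 hy), fun h =>
    ⟨⟨x, mem_isometryGroup.2 (mem_OG.1 (Om_le Q h))⟩, (mem_Omega_iff Q _).2 (mem_Om.1 h), rfl⟩⟩

theorem sq_eq_one_of_scalar [Nontrivial V] {B : LinearMap.BilinForm F V} {Q : V → F}
    (h : IsWittPair (RingHom.id F) B Q) {g : V ≃ₗ[F] V} (hg : g ∈ Isom B Q) {k : ℕ} {z : F}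
    (hz : g.toLinearMap ^ k = algebraMap F _ z) : z = 1 ∨ z = -1 := by
  obtain ⟨v, hv⟩ := exists_ne (0 : V)
  obtain ⟨w, hw⟩ := not_forall.1 (mt (h.nondeg v) hv)
  have := Pres.pow (B := B) (f := g.toLinearMap) hg.1 k v w
  rw [hz] at this
  exact mul_self_eq_one_iff.1 (mul_right_cancel₀ hw (by simpa [mul_assoc] using this))

theorem elu_om_odd [Finite F] {Q : QuadraticForm F (ι → F)} (hQ : (polarBilin Q).Nondegenerate)
    (ho : Odd (Fintype.card ι)) (hr : r.Prime) (R : End F (ι → F) → Prop) :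
    (∀ x : GL ι F, x ∈ Cfsg.Geo.omegaGL Q → orderOf x = r →
      R (Matrix.toLin' (x : Matrix ι ι F))) ↔ Elu (Om Q) r R := by
  have := Fact.mk hr
  have h1 : Odd (finrank F (ι → F)) := by simpa using ho
  have h2 := two_ne_zero_of_odd_finrank hQ h1
  have : Nontrivial (ι → F) := finrank_pos_iff.1 h1.pos
  have h3 : ∀ x : GL ι F, x ∈ Cfsg.Geo.omegaGL Q →
      ((∃ z : F, (x : Matrix ι ι F) = z • 1) ↔ x = 1) := fun x hx => by
    refine ⟨fun ⟨z, hz⟩ => Units.ext ?_, by rintro rfl; exact ⟨1, by simp⟩⟩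
    rw [mem_omegaGL] at hx
    have h4 := ((mem_commutator_iff_sn h2 hQ ⟨_, Om_le Q hx⟩).1 (mem_Om.1 hx)).1
    rw [det_glEquiv, hz, Matrix.det_smul, Matrix.det_one, mul_one] at h4
    rcases sq_eq_one_of_scalar (isWittPair_quad Q hQ) (Om_le Q hx) (k := 1) (z := z)
      ((pow_one _).trans ((toLin'_eq_algebraMap _ _).2 hz)) with rfl | rfl
    · simpa using hz
    · exact absurd (by rw [ho.neg_one_pow] at h4; linear_combination -h4) h2
  rw [← elu_GL (mem_omegaGL Q)]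
  refine forall₂_congr fun x hx => ?_
  rw [h3 _ (pow_mem hx r), ← not_exists, h3 x hx, ← and_imp, orderOf_eq_prime_iff]

theorem elu_iff_odd [Nontrivial V] {B : LinearMap.BilinForm F V} {Q : V → F}
    (h : IsWittPair (RingHom.id F) B Q) (hQ : ∀ v, Q (-v) = Q v) {G : Subgroup (V ≃ₗ[F] V)}
    (h1 : G ≤ Isom B Q) (h2 : ∀ g : Isom B Q, g ^ r = 1 → g.1 ∈ G) (hr : Odd r)
    {R : End F V → Prop} (hR : ∀ f, R (-f) → R f) :
    Elu G r R ↔ ∀ g : Isom B Q, g ^ r = 1 → g ≠ 1 → R g.1.toLinearMap := by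
  refine ⟨fun H g hg h3 => H _ (h2 g hg) ⟨1, by simpa using (sub_pow_eq_one_iff g r).1 hg⟩
    fun z hz => h3 ?_, fun H g hg ⟨z, hz⟩ h3 => ?_⟩
  · have h4 := (sub_pow_eq_one_iff g r).1 hg
    rw [← pow_one g, sub_pow_eq_one_iff, pow_one]
    rcases sq_eq_one_of_scalar h g.2 ((pow_one _).trans hz) with rfl | rfl
    · simpa using hz
    · rwa [hz, ← map_pow, hr.neg_one_pow, ← hz] at h4
  rcases sq_eq_one_of_scalar h (h1 hg) hz with rfl | rfl
  · exact H ⟨g, h1 hg⟩ ((sub_pow_eq_one_iff _ r).2 (by simpa using hz)) fun h4 =>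
      h3 1 (by rw [show g = 1 from congrArg Subtype.val h4]; simp; rfl)
  · refine hR _ (H ⟨g.trans (LinearEquiv.neg F), fun u v => by simpa using (h1 hg).1 u v,
      fun v => (hQ _).trans ((h1 hg).2 v)⟩ ((sub_pow_eq_one_iff _ r).2 ?_) fun h4 => h3 (-1) ?_)
    · change (-g.toLinearMap) ^ r = 1
      rw [hr.neg_pow, hz]; simp
    · exact LinearMap.ext fun v => by
        simpa [neg_eq_iff_eq_neg] using congrArg (fun x : Isom B Q => x.1 v) h4

theorem Fx.of_neg {P : Submodule F V → Prop} (f : End F V) (h : Fx P (-f)) : Fx P f := by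
  simpa using h.smul (-1)

theorem mem_Om_of_odd [FiniteDimensional F V] {Q : QuadraticForm F V}
    (hQ : (polarBilin Q).Nondegenerate) (h4 : finrank F V ≠ 4) (hr : Odd r) (g : OG Q)
    (hg : g ^ r = 1) : g.1 ∈ Om Q := by
  obtain ⟨k, rfl⟩ := hr
  have := pow_mem (Geom.sq_mem_commutator (reflSub_eq_top hQ (.inr h4)) g) (k + 1)
  rwa [← pow_two, ← pow_mul, show 2 * (k + 1) = 2 * k + 1 + 1 by ring, pow_succ, hg, one_mul,
    ← mem_Om] at this

theorem elu_om_iff [FiniteDimensional F V] {Q : QuadraticForm F V}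
    (hQ : (polarBilin Q).Nondegenerate) (h4 : 4 < finrank F V) (hr : Odd r)
    {R : End F V → Prop} (hR : ∀ f, R (-f) → R f) :
    Elu (Om Q) r R ↔ ∀ g : OG Q, g ^ r = 1 → g ≠ 1 → R g.1.toLinearMap :=
  have : Nontrivial V := finrank_pos_iff.1 (by omega : 0 < finrank F V)
  elu_iff_odd (isWittPair_quad Q hQ) Q.map_neg (Om_le Q) (mem_Om_of_odd hQ h4.ne' hr) hr hR

theorem elu_sp_iff [Nontrivial V] {B : LinearMap.BilinForm F V} (hB : B.Nondegenerate)
    (hA : B.IsAlt) (hr : Odd r) {R : End F V → Prop} (hR : ∀ f, R (-f) → R f) :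
    Elu (SpG B) r R ↔ ∀ g : SpG B, g ^ r = 1 → g ≠ 1 → R g.1.toLinearMap :=
  elu_iff_odd (isWittPair_alt B hB hA) (fun _ => rfl) le_rfl (fun g _ => g.2) hr hR

end Wrap

section Val

variable {r : ℕ} {a : ℕ → ℕ} {c n n' : ℕ}

/-- The valuation of a product. -/
noncomputable def vs (r : ℕ) (a : ℕ → ℕ) (n : ℕ) : ℕ := ∑ j ∈ Finset.range n, padicValNat r (a j)

theorem vs_mono (h : n ≤ n') : vs r a n ≤ vs r a n' :=
  Finset.sum_le_sum_of_subset (Finset.range_mono h)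

theorem vs_eq (h : ∀ j, r ∣ a j → c ∣ j + 1) (n : ℕ) : vs r a n = vs r a (c * (n / c)) :=
  (Finset.sum_subset (Finset.range_mono (Nat.mul_div_le n c)) fun j h1 h2 => by
    refine padicValNat.eq_zero_of_not_dvd fun h3 => h2 ?_
    obtain ⟨k, hk⟩ := h j h3
    have h4 : 0 < c := Nat.pos_of_ne_zero (by rintro rfl; omega)
    rw [Finset.mem_range] at h1 ⊢
    have := Nat.mul_le_mul_left c ((Nat.le_div_iff_mul_le h4).2 (by rw [mul_comm]; omega : k * c ≤ n))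
    omega).symm

theorem val_prod [Fact r.Prime] (h : ∀ j, a j ≠ 0) (n : ℕ) :
    padicValNat r (∏ j ∈ Finset.range n, a j) = vs r a n := by
  induction n with
  | zero => simp [vs]
  | succ n ih =>
    rw [Finset.prod_range_succ, padicValNat.mul (Finset.prod_ne_zero_iff.2 fun j _ => h j) (h n),
      ih, vs, vs, Finset.sum_range_succ]

theorem lt_of_val [Fact r.Prime] {N N' ω K K' : ℕ} (h0 : N ≠ 0) (h1 : r ∣ ω) (h2 : ω * N' ∣ N)
    (h3 : padicValNat r N = vs r a (c * K)) (h4 : padicValNat r N' = vs r a (c * K')) : K' < K := by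
  obtain ⟨k, rfl⟩ := h2
  simp only [mul_ne_zero_iff] at h0
  rw [padicValNat.mul (mul_ne_zero h0.1.1 h0.1.2) h0.2, padicValNat.mul h0.1.1 h0.1.2, h4] at h3
  have := one_le_padicValNat_of_dvd h0.1.1 h1
  by_contra h5
  have := vs_mono (r := r) (a := a) (Nat.mul_le_mul_left c (not_lt.1 h5))
  omega

theorem carry {c μ τ n : ℕ} (h : c * μ + τ ≤ n) (hτ : τ < 2 * c) :
    ((n - (c * μ + τ)) / c + μ = n / c ∧ (n - (c * μ + τ)) % c + τ = n % c) ∨
    ((n - (c * μ + τ)) / c + μ + 1 = n / c ∧ (n - (c * μ + τ)) % c + τ = n % c + c) ∨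
    ((n - (c * μ + τ)) / c + μ + 2 = n / c ∧ (n - (c * μ + τ)) % c + τ = n % c + 2 * c) := by
  have hc : 0 < c := by omega
  obtain ⟨x, rfl⟩ := Nat.exists_eq_add_of_le h
  rw [Nat.add_sub_cancel_left]
  have h1 := Nat.div_add_mod x c
  have h2 := Nat.mod_lt x hc
  have h3 : ∀ b y, y < c → x % c + τ = y + b * c → x / c + μ + b = (c * μ + τ + x) / c ∧
      x % c + τ = (c * μ + τ + x) % c + b * c := fun b y hy h => by
    rw [show c * μ + τ + x = y + c * (x / c + μ + b) by rw [mul_add, mul_add, mul_comm c b]; omega,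
      Nat.add_mul_div_left _ _ hc, Nat.add_mul_mod_self_left, Nat.div_eq_of_lt hy,
      Nat.mod_eq_of_lt hy]
    omega
  by_cases h4 : x % c + τ < c
  · exact .inl (by simpa using h3 0 _ h4 (by omega))
  by_cases h5 : x % c + τ < 2 * c
  · exact .inr (.inl (by simpa using h3 1 (x % c + τ - c) (by omega) (by omega)))
  · exact .inr (.inr (h3 2 (x % c + τ - 2 * c) (by omega) (by omega)))

end Val

section Main

variable {F V : Type*} [Field F] [Fintype F] [AddCommGroup V] [Module F V] [FiniteDimensional F V]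
  {σ : F →+* F} {B : V →ₛₗ[σ] V →ₗ[F] F} {Q : V → F}

/-- The data of elements of order `r` together with the `r`-part of the group order. -/
def RK (σ : F →+* F) (G : Subgroup (V ≃ₗ[F] V)) (r w : ℕ) (a : ℕ → ℕ) (c K : ℕ) : Prop :=
  RzK σ G r (w * K) ∧ padicValNat r (Nat.card G) = vs r a (c * K)

theorem card_sub_ne_zero (G : Subgroup (V ≃ₗ[F] V)) : Nat.card G ≠ 0 := by
  have : Finite V := Module.finite_of_finite F
  have : Finite (V ≃ₗ[F] V) := DFunLike.finite _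
  exact Nat.card_pos.ne'

variable {P : Submodule F V → Prop} {r w T c K K₁ K₂ m : ℕ} {a : ℕ → ℕ} [hr : Fact r.Prime]
  (hC : CB (facs F r) (cr σ) w T) (h : IsWittPair σ B Q) (hu : UQ (Isom B Q) r)
  (hK : RK σ (Isom B Q) r w a c K)
include hC h hu hK

theorem nd_main (hP : Inv B Q P) (h0 : ∃ U, P U)
    (hP' : ∀ U, P U → Disjoint U (perp B U) ∧ RK σ (IU B Q U) r w a c K₁ ∧
      RK σ (IU B Q (perp B U)) r w a c K₂)
    (ho : ∀ U W, P U → P W → ∃ g ∈ Isom B Q, U.map (g : V →ₗ[F] V) = W)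
    (hd : r ∣ Nat.card {W // P W}) : K₁ < K ∧ K₂ < K ∧
      ((∀ g : Isom B Q, g ^ r = 1 → g ≠ 1 → Fx P g.1.toLinearMap) ↔ K ≤ K₁ + K₂) := by
  obtain ⟨U, hU⟩ := h0
  obtain ⟨h1, h2, h3⟩ := hP' U hU
  have h4 := card_eq_mul_nondeg h h1 (P := P) fun W =>
    ⟨ho U W hU, fun ⟨g, hg, e⟩ => e ▸ hP g hg U hU⟩
  exact ⟨lt_of_val (card_sub_ne_zero _) hd ⟨_, h4.trans (mul_assoc _ _ _).symm⟩ hK.2 h2.2,
    lt_of_val (card_sub_ne_zero _) hd ⟨_, h4.trans (by rw [mul_right_comm, mul_assoc])⟩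
      hK.2 h3.2, forall_fx_iff hC h hu hK.1 hP ⟨U, hU⟩ fun U hU =>
      ⟨(hP' U hU).1, (hP' U hU).2.1.1, (hP' U hU).2.2.1⟩⟩

theorem ts_main (p : ℕ) [Fact p.Prime] [CharP F p] (hrp : r ≠ p) (hσ : ∀ x, σ (σ x) = x)
    (h0 : ∃ U, TS B Q m U) (hP : ∀ H, HypU B Q m H → RK σ (IU B Q (perp B H)) r w a c K₂)
    (hd : r ∣ Nat.card {W // TS B Q m W}) : K₂ < K ∧
    ((∀ g : Isom B Q, g ^ r = 1 → g ≠ 1 → Fx (TS B Q m) g.1.toLinearMap) ↔
      (w = 2 ∧ K ≤ m / orderOf (Fintype.card F : ZMod r) + K₂) ∨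
      (w = 1 ∧ T ≤ K₂ ∧ K ≤ K₂ + 2 * (m / orderOf (Fintype.card F : ZMod r)))) := by
  obtain ⟨U, hU⟩ := h0
  obtain ⟨H, hH, -⟩ := exists_levi h hσ hU
  have := lt_of_val (card_sub_ne_zero _) hd (card_TS_dvd h hH) hK.2 (hP H hH).2
  exact ⟨this, forall_fx_TS_iff hC h hu p hrp hσ hK.1 ⟨U, hU⟩ (fun H hH => (hP H hH).1) this⟩

end Main

end CF.Cls
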