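/-
Orbits of non-degenerate and totally singular subspaces of symplectic and quadratic spaces.
-/
import Cfsg.Agent.Cls.El3
import Cfsg.Agent.Cls.Inv2O

set_option autoImplicit false

namespace CF.Cls

open Polynomial Module CF.Geom CF.Classical QuadraticMap

universe u

variable {F : Type u} {V W : Type*} [Field F] [AddCommGroup V] [Module F V] [AddCommGroup W]
  [Module F W] {m k : ℕ}

section Gen

variable {σ : F →+* F} {B : V →ₛₗ[σ] V →ₗ[F] F} {Q : V → F} {U : Submodule F V}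

/-- Non-degenerate subspaces of dimension `m`. -/
def ND (B : V →ₛₗ[σ] V →ₗ[F] F) (m : ℕ) (U : Submodule F V) : Prop :=
  finrank F U = m ∧ Disjoint U (perp B U)

theorem inv_ND : Inv B Q (ND B m) := fun c hc U hU =>
  ⟨(LinearEquiv.finrank_map_eq c U).trans hU.1, disjoint_map_perp hc hU.2⟩

theorem disjoint_perp_iff (h : IsWittPair σ B Q) :
    Disjoint U (perp B U) ↔ ∀ u ∈ U, u ≠ 0 → ∃ v ∈ U, B u v ≠ 0 := by
  rw [Submodule.disjoint_def]
  refine forall₂_congr fun u _ => ?_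
  rw [← not_imp_not, mem_perp]
  simp [h.refl_iff (x := u)]

theorem le_perp_iff : U ≤ perp B U ↔ ∀ u ∈ U, ∀ v ∈ U, B u v = 0 :=
  ⟨fun h u hu _ hv => mem_perp.1 (h hv) u hu, fun h v hv => mem_perp.2 fun u hu => h u hu v hv⟩

theorem TS.exists_le [FiniteDimensional F V] (h : TS B Q m U) (hk : k ≤ m) :
    ∃ W ≤ U, TS B Q k W :=
  let ⟨W, h1, h2⟩ := exists_le_finrank_eq U (h.1 ▸ hk : k ≤ finrank F U)
  ⟨W, h1, h2, fun u hu => h.2.1 u (h1 hu), h1.trans (h.2.2.trans (perp_anti h1))⟩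

theorem ts_span [FiniteDimensional F V] (h : IsWittPair σ B Q) {e f : Fin m → V}
    (hf : HypFrame B Q e f) : TS B Q m (Submodule.span F (Set.range e)) :=
  ⟨by simpa using finrank_span_eq_card (hf.linearIndependent_left h),
    fun _ hx => h.singular_of_mem_span hf.qe hf.ee hx, IsWittPair.span_le_perp_span hf.ee⟩

theorem ND.finrank_perp [FiniteDimensional F V] (h : IsWittPair σ B Q) (hU : ND B m U) :
    finrank F (perp B U) = finrank F V - m := by
  have := h.finrank_perp U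
  rw [hU.1] at this; omega

theorem ND.perp [FiniteDimensional F V] (h : IsWittPair σ B Q) (hU : ND B m U) :
    ND B (finrank F V - m) (perp B U) := ⟨hU.finrank_perp h, h.disjoint_perp_perp hU.2⟩

theorem HypU.nd (h : HypU B Q m U) : ND B (2 * m) U := ⟨h.2.1, h.1⟩

end Gen

section Alt

variable [FiniteDimensional F V] {B : LinearMap.BilinForm F V} (hB : B.Nondegenerate) (hA : B.IsAlt)
  {U U' : Submodule F V}

omit [FiniteDimensional F V] in
theorem ts_alt_iff : TS B (fun _ => 0) m U ↔ finrank F U = m ∧ ∀ u ∈ U, ∀ v ∈ U, B u v = 0 := by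
  simp [TS, le_perp_iff]

include hB hA

omit [FiniteDimensional F V] in
theorem ND.alt (h : ND B m U) : LinearMap.BilinForm.Nondegenerate (B.domRestrict₁₂ U U) ∧
    LinearMap.BilinForm.IsAlt (B.domRestrict₁₂ U U) :=
  ⟨((isWittPair_alt B hB hA).restrict h.2).nondegenerate, fun x => hA x.1⟩

theorem exists_TS_alt (hm : 2 * m ≤ finrank F V) : ∃ U, TS B (fun _ => 0) m U := by
  obtain ⟨k, e, f, h1, h2⟩ := exists_symp_frame hB hA
  obtain ⟨U, -, h⟩ := (ts_span (isWittPair_alt B hB hA) h1).exists_le (k := m) (by omega)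
  exact ⟨U, h⟩

theorem exists_ND_alt (hm : 2 * m ≤ finrank F V) : ∃ U, ND B (2 * m) U := by
  obtain ⟨U, hU⟩ := exists_TS_alt hB hA hm
  obtain ⟨H, h, -⟩ := exists_levi (isWittPair_alt B hB hA) (fun _ => rfl) hU
  exact ⟨H, h.nd⟩

theorem orbit_ND_alt (h : ND B m U) (h' : ND B m U') :
    ∃ g ∈ SpG B, U.map (g : V →ₗ[F] V) = U' := by
  obtain ⟨φ, hφ⟩ := exists_equiv_alt (h.alt hB hA).1 (h.alt hB hA).2 (h'.alt hB hA).1
    (h'.alt hB hA).2 (h.1.trans h'.1.symm)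
  obtain ⟨g, h1, h2, -⟩ := (isWittPair_alt B hB hA).exists_isom_map_eq φ hφ fun _ => rfl
  exact ⟨g, h1, h2⟩

end Alt

variable {Q : QuadraticForm F V} {Q' : QuadraticForm F W} {U U' : Submodule F V} {b : Prop}
  {t : ℤˣ}

/-- The restriction of a quadratic form. -/
abbrev qr (Q : QuadraticForm F V) (U : Submodule F V) : QuadraticForm F U := Q.comp U.subtype

/-- Non-degenerate subspaces of given type. -/
def NT (Q : QuadraticForm F V) (m : ℕ) (b : Prop) (U : Submodule F V) : Prop :=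
  ND (polarBilin Q) m U ∧ (IsPlus (qr Q U) ↔ b)

/-- Non-degenerate subspaces of given discriminant. -/
def NS [FiniteDimensional F V] (Q : QuadraticForm F V) (m : ℕ) (t : ℤˣ) (U : Submodule F V) : Prop :=
  ND (polarBilin Q) m U ∧ ds (qr Q U) = t

theorem IU_eq (Q : QuadraticForm F V) (U : Submodule F V) : IU (polarBilin Q) Q U = OG (qr Q U) :=
  isom_restrict_eq_OG Q U

theorem ND.nd (h : ND (polarBilin Q) m U) : (polarBilin (qr Q U)).Nondegenerate :=
  nondegenerate_comp_subtype h.2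

theorem ts_quad_iff : TS (polarBilin Q) Q m U ↔ finrank F U = m ∧ ∀ u ∈ U, Q u = 0 := by
  simp only [TS, map_zero, and_congr_right_iff, and_iff_left_iff_imp, le_perp_iff]
  exact fun _ h u hu v hv => by simp [polar, h u hu, h v hv, h _ (U.add_mem hu hv)]

theorem isPlus_qr : IsPlus (qr Q U) ↔
    ∃ W ≤ U, (∀ u ∈ W, Q u = 0) ∧ 2 * finrank F W = finrank F U :=
  ⟨fun ⟨W, h1, h2⟩ => ⟨W.map U.subtype, U.map_subtype_le W, by
    rintro _ ⟨u, hu, rfl⟩; exact h2 u hu, by rw [Submodule.finrank_map_subtype_eq, h1]⟩,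
  fun ⟨W, h1, h2, h3⟩ => ⟨W.comap U.subtype, by
    rw [(Submodule.comapSubtypeEquivOfLe h1).finrank_eq, h3], fun u hu => h2 u hu⟩⟩

theorem inv_NT : Inv (polarBilin Q) Q (NT Q m b) := fun c hc U hU =>
  ⟨inv_ND c hc U hU.1, (isPlus_iff_of_equiv (Q := qr Q U) (c.submoduleMap U) one_ne_zero
    fun v => (hc.2 v).trans (one_mul _).symm).symm.trans hU.2⟩

theorem isPlus_even (h : IsPlus Q) : Even (finrank F V) :=
  let ⟨_, h1, _⟩ := h; h1 ▸ even_two_mul _

theorem exists_range (hQ' : (polarBilin Q').Nondegenerate) (φ : W →ₗ[F] V)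
    (hφ : ∀ w, Q (φ w) = Q' w) : ∃ U, ND (polarBilin Q) (finrank F W) U ∧
      ∃ e : W ≃ₗ[F] U, ∀ w, qr Q U (e w) = 1 * Q' w := by
  have h1 : ∀ x y, polar Q (φ x) (φ y) = polar Q' x y := fun x y => by
    simp only [polar, ← map_add φ, hφ]
  have h2 : Function.Injective φ := (injective_iff_map_eq_zero _).2 fun x hx =>
    hQ'.1 x fun y => by simp [← h1, hx]
  refine ⟨_, ⟨LinearMap.finrank_range_of_inj h2, Submodule.disjoint_def.2 ?_⟩,
    LinearEquiv.ofInjective φ h2, fun w => by simpa using hφ w⟩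
  rintro _ ⟨x, rfl⟩ hx
  rw [hQ'.2 x fun y => (h1 y x).symm.trans (mem_perp.1 hx _ ⟨y, rfl⟩), map_zero]

variable [FiniteDimensional F V] [FiniteDimensional F W] (hQ : (polarBilin Q).Nondegenerate)

theorem HypU.isPlus (h : HypU (polarBilin Q) Q m U) : IsPlus (qr Q U) :=
  let ⟨W, h1, h2⟩ := h.2.2
  isPlus_qr.2 ⟨W, h1, (ts_quad_iff.1 h2).2, by rw [h2.1, h.2.1]⟩

include hQ

theorem orbit_quad (φ : U ≃ₗ[F] U') (hφ : ∀ x, qr Q U' (φ x) = qr Q U x) :
    ∃ g ∈ OG Q, U.map (g : V →ₗ[F] V) = U' := by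
  obtain ⟨g, h1, h2, -⟩ := (isWittPair_quad Q hQ).exists_isom_map_eq φ (fun x y => by
    simpa [polar] using polar_equiv (Q := qr Q U) (Q' := qr Q U') (c := 1) φ
      (by simpa using hφ) x y) hφ
  exact ⟨g, h1, h2⟩

theorem exists_equiv_perp (h : ND (polarBilin Q) m U) :
    ∃ E : (U × perp (polarBilin Q) U) ≃ₗ[F] V, ∀ x,
      Q (E x) = 1 * (qr Q U).prod (qr Q (perp (polarBilin Q) U)) x :=
  let ⟨_, _, _, _, E, _, _, _, h⟩ := exists_split_of hQ 1 h.2 fun _ h => h; ⟨E, h⟩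

variable [Finite F]

theorem not_isPlus_prod_aux (hQ' : (polarBilin Q').Nondegenerate) (h1 : Even (finrank F V))
    (h2 : Even (finrank F W)) (h : ¬ IsPlus Q') :
    ∃ k, ¬ (IsPlus (Q.prod (qPlus k F)) ↔ IsPlus (Q.prod Q')) :=
  let ⟨k, hk⟩ := h2
  ⟨k, not_isPlus_prod_iff hQ (qPlus_nondegenerate k) hQ' (isPlus_qPlus k) h (by simp [hk]) h1⟩

theorem not_isPlus_prod (hQ' : (polarBilin Q').Nondegenerate) (h1 : Even (finrank F V))
    (h : IsPlus Q') (h' : ¬ IsPlus Q) : ¬ IsPlus (Q.prod Q') := fun h5 => by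
  obtain ⟨k, h6⟩ := not_isPlus_prod_aux hQ' hQ (isPlus_even h) h1 h'
  exact h6 (iff_of_true (isPlus_prod h (isPlus_qPlus k)) (h5.of_equiv (c := 1)
    (LinearEquiv.prodComm F V W) fun v => by simp [add_comm]))

theorem isPlus_prod_iff (hQ' : (polarBilin Q').Nondegenerate) (h1 : Even (finrank F V))
    (h2 : Even (finrank F W)) : IsPlus (Q.prod Q') ↔ (IsPlus Q ↔ IsPlus Q') := by
  by_cases h5 : IsPlus Q' <;> by_cases h6 : IsPlus Q
  · simp [h5, h6, isPlus_prod h6 h5]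
  · simp [h5, h6, not_isPlus_prod hQ hQ' h1 h5 h6]
  · obtain ⟨k, h7⟩ := not_isPlus_prod_aux hQ hQ' h1 h2 h5
    simpa [h5, h6, isPlus_prod h6 (isPlus_qPlus k)] using h7
  · obtain ⟨k, h7⟩ := not_isPlus_prod_aux hQ hQ' h1 h2 h5
    simpa [h5, h6, not_isPlus_prod hQ (qPlus_nondegenerate k) h1 (isPlus_qPlus k) h6] using h7

theorem isPlus_iff_perp (h : ND (polarBilin Q) m U) (h1 : Even m) (h2 : Even (finrank F V)) :
    IsPlus Q ↔ (IsPlus (qr Q U) ↔ IsPlus (qr Q (perp (polarBilin Q) U))) := by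
  obtain ⟨E, hE⟩ := exists_equiv_perp hQ h
  have h3 := h.perp (isWittPair_quad Q hQ)
  rw [← isPlus_iff_of_equiv E one_ne_zero hE, isPlus_prod_iff h.nd h3.nd (h.1 ▸ h1)]
  rw [h3.1, Nat.even_sub (h.1 ▸ U.finrank_le)]
  exact iff_of_true h2 h1

theorem HypU.isPlus_perp (h : HypU (polarBilin Q) Q m U) :
    IsPlus (qr Q (perp (polarBilin Q) U)) ↔ IsPlus Q := by
  by_cases h1 : Even (finrank F V)
  · simp [isPlus_iff_perp hQ h.nd (even_two_mul m) h1, h.isPlus]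
  · refine iff_of_false (fun h2 => h1 ?_) fun h2 => h1 (isPlus_even h2)
    rw [← (isWittPair_quad Q hQ).finrank_perp U, h.2.1]
    exact (even_two_mul m).add (isPlus_even h2)

theorem ds_eq_mul_perp (h : ND (polarBilin Q) m U) :
    ds Q = ds (qr Q U) * ds (qr Q (perp (polarBilin Q) U)) := by
  obtain ⟨E, hE⟩ := exists_equiv_perp hQ h
  have h3 := h.perp (isWittPair_quad Q hQ)
  rw [ds_equiv (nondegenerate_prod h.nd h3.nd) E one_ne_zero hE, ds_prod h.nd h3.nd, sqSign_one,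
    one_pow, one_mul]

omit hQ in
theorem inv_NS : Inv (polarBilin Q) Q (NS Q m t) := fun c hc U hU =>
  ⟨inv_ND c hc U hU.1, by
    rw [ds_equiv (Q := qr Q U) hU.1.nd (c.submoduleMap U) one_ne_zero
      fun v => (hc.2 v).trans (one_mul _).symm, sqSign_one, one_pow, one_mul, hU.2]⟩

theorem exists_equiv_of_ds (h2 : (2 : F) ≠ 0) (hQ' : (polarBilin Q').Nondegenerate)
    (hd : finrank F V = finrank F W) (h : ds Q = ds Q') : ∃ E : V ≃ₗ[F] W, ∀ v, Q' (E v) = Q v := by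
  obtain ⟨E, hE⟩ := exists_equiv_of_isSquare_disc h2 (polarBilin_isSymm Q) hQ (polarBilin_isSymm Q')
    hQ' hd (Module.finBasis F V) (Module.finBasis F W) (by
      rw [← sqSign_eq_one_iff, sqSign_mul _ _ (det_gram_ne_zero hQ _) (det_gram_ne_zero hQ' _),
        ← ds, ← ds, h, Int.units_mul_self])
  exact ⟨E, fun v => quad_eq_of_polar_eq h2 (hE v v)⟩

theorem isPlus_iff_ds (h2 : (2 : F) ≠ 0) (hk : finrank F V = 2 * k) :
    IsPlus Q ↔ ds Q = sqSign (-1 : F) ^ k := by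
  rw [isPlus_iff_isSquare h2 hQ hk (Module.finBasis F V), ← sqSign_eq_one_iff,
    sqSign_mul _ _ (by simp) (det_gram_ne_zero hQ _), ← ds, sqSign_pow (by simp),
    mul_eq_one_iff_inv_eq, Int.units_inv_eq_self, eq_comm]

theorem orbit_NT (hm : Even m) (h : NT Q m b U) (h' : NT Q m b U') :
    ∃ g ∈ OG Q, U.map (g : V →ₗ[F] V) = U' :=
  let ⟨φ, hφ⟩ := exists_equiv_of_isPlus_iff h.1.nd h'.1.nd (h.2.trans h'.2.symm) (h.1.1 ▸ hm)
    (h.1.1.trans h'.1.1.symm)
  orbit_quad hQ φ hφ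

theorem orbit_NS (h2 : (2 : F) ≠ 0) (h : NS Q m t U) (h' : NS Q m t U') :
    ∃ g ∈ OG Q, U.map (g : V →ₗ[F] V) = U' :=
  let ⟨φ, hφ⟩ := exists_equiv_of_ds h.1.nd h2 h'.1.nd (h.1.1.trans h'.1.1.symm)
    (h.2.trans h'.2.symm)
  orbit_quad hQ φ hφ

omit hQ in
theorem exists_model_ds (h2 : (2 : F) ≠ 0) (hk : 0 < k) (t : ℤˣ) :
    ∃ (W : Type u) (_ : AddCommGroup W) (_ : Module F W) (_ : FiniteDimensional F W)
      (Q : QuadraticForm F W), (polarBilin Q).Nondegenerate ∧ finrank F W = k ∧ ds Q = t := by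
  obtain ⟨p, hp⟩ := CharP.exists F
  have := Fact.mk (CharP.char_is_prime F p)
  obtain ⟨k, rfl⟩ := Nat.exists_eq_succ_of_ne_zero hk.ne'
  obtain ⟨W, _, _, _, Q, g, h3, h4, h5, -⟩ := rs_one (K := AlgebraicClosure F) p h2 k t
  exact ⟨W, _, _, inferInstance, Q, h3, by
    simpa [h4, add_comm] using (ia_OG (K := AlgebraicClosure F) p h3 g).dim.symm, h5⟩

omit hQ in
theorem exists_model_type (hk : 0 < k) (b : Prop) :
    ∃ (W : Type u) (_ : AddCommGroup W) (_ : Module F W) (_ : FiniteDimensional F W)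
      (Q : QuadraticForm F W), (polarBilin Q).Nondegenerate ∧ finrank F W = 2 * k ∧
        (IsPlus Q ↔ b) := by
  by_cases hb : b
  · exact ⟨_, _, _, inferInstance, qPlus k F, qPlus_nondegenerate k, by simp [two_mul],
      iff_of_true (isPlus_qPlus k) hb⟩
  · obtain ⟨ζ, hζ⟩ := exists_no_root (F := F)
    exact ⟨_, _, _, inferInstance, qMinus (k - 1) F 1 ζ, qMinus_nondegenerate _
      (aniso_iff_no_root.2 hζ), by simp; omega,
      iff_of_false (not_isPlus_qMinus _ (aniso_iff_no_root.2 hζ)) hb⟩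

theorem exists_NS (h2 : (2 : F) ≠ 0) (h0 : 0 < m) (hm : m < finrank F V) (t : ℤˣ) :
    ∃ U, NS Q m t U := by
  obtain ⟨W₁, _, _, _, Q₁, h3, rfl, rfl⟩ := exists_model_ds h2 h0 t
  obtain ⟨W₂, _, _, _, Q₂, h4, h5, h6⟩ := exists_model_ds h2 (Nat.sub_pos_of_lt hm) (ds Q₁ * ds Q)
  obtain ⟨E, hE⟩ := exists_equiv_of_ds (nondegenerate_prod h3 h4) h2 hQ (by simp; omega)
    (by rw [ds_prod h3 h4, h6, ← mul_assoc, Int.units_mul_self, one_mul])
  obtain ⟨U, h7, e, h8⟩ := exists_range (Q := Q) h3 (E.toLinearMap ∘ₗ LinearMap.inl F W₁ W₂)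
    fun w => by simp [hE]
  exact ⟨U, h7, by rw [ds_equiv h3 e one_ne_zero h8, sqSign_one, one_pow, one_mul]⟩

theorem exists_ND (h2 : (2 : F) ≠ 0) (hm : m ≤ finrank F V) : ∃ U, ND (polarBilin Q) m U := by
  rcases hm.eq_or_lt with rfl | hm
  · exact ⟨⊤, finrank_top F V, (isWittPair_quad Q hQ).perp_top ▸ disjoint_bot_right⟩
  rcases m.eq_zero_or_pos with rfl | h0
  · exact ⟨⊥, finrank_bot F V, disjoint_bot_left⟩
  exact (exists_NS hQ h2 h0 hm 1).imp fun _ h => h.1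

omit hQ in
open scoped _root_.Classical in
theorem nt_iff_ns (h2 : (2 : F) ≠ 0) :
    NT Q (2 * k) b U ↔ NS Q (2 * k) ((if b then 1 else -1) * sqSign (-1 : F) ^ k) U :=
  and_congr_right fun h => by
    rw [isPlus_iff_ds h.nd h2 h.1]
    rcases Int.units_eq_one_or (ds (qr Q U)) with h1 | h1 <;>
      rcases Int.units_eq_one_or (sqSign (-1 : F) ^ k) with h3 | h3 <;> by_cases hb : b <;>
      simp [h1, h3, hb]

theorem exists_NT (h0 : 0 < k) (hm : 2 * k < finrank F V) (b : Prop) : ∃ U, NT Q (2 * k) b U := by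
  rcases Nat.even_or_odd (finrank F V) with ⟨l, hl⟩ | ho
  · obtain ⟨W₁, _, _, _, Q₁, h3, h4, h5⟩ := exists_model_type (F := F) h0 b
    obtain ⟨W₂, _, _, _, Q₂, h6, h7, h8⟩ := exists_model_type (F := F) (k := l - k) (by omega)
      (b ↔ IsPlus Q)
    obtain ⟨E, hE⟩ := exists_equiv_of_isPlus_iff (nondegenerate_prod h3 h6) hQ (by
      rw [isPlus_prod_iff h3 h6 (h4 ▸ even_two_mul _) (h7 ▸ even_two_mul _), h5, h8]; tauto)
      ⟨l, by simp; omega⟩ (by simp; omega)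
    obtain ⟨U, h9, e, h10⟩ := exists_range (Q := Q) h3 (E.toLinearMap ∘ₗ LinearMap.inl F W₁ W₂)
      fun w => by simp [hE]
    exact ⟨U, h4 ▸ h9, (isPlus_iff_of_equiv e one_ne_zero h10).symm.trans h5⟩
  · have h2 := two_ne_zero_of_odd_finrank hQ ho
    simp only [nt_iff_ns h2]
    exact exists_NS hQ h2 (by omega) hm _

theorem exists_TS_quad (hm : 2 * m < finrank F V ∨ (2 * m = finrank F V ∧ IsPlus Q)) :
    ∃ U, TS (polarBilin Q) Q m U := by
  rcases hm with hm | ⟨hm, U, h1, h2⟩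
  · obtain ⟨e, f, h⟩ := exists_qFrame_of_le hQ hm
    exact ⟨_, ts_span (isWittPair_quad Q hQ) h⟩
  · exact ⟨U, ts_quad_iff.2 ⟨by omega, h2⟩⟩

omit [Finite F] in
theorem TS.le_quad (h : TS (polarBilin Q) Q m U) :
    2 * m < finrank F V ∨ (2 * m = finrank F V ∧ IsPlus Q) := by
  have := (isWittPair_quad Q hQ).two_mul_finrank_le h.2.2
  rw [h.1] at this
  exact this.lt_or_eq.imp_right fun h1 => ⟨h1, U, h.1 ▸ h1, (ts_quad_iff.1 h).2⟩

end CF.Cls
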