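import Cfsg.Agent.Coprime.Action

/-! A coprime `p`-group action with `K = C(c) C(d)` on two generating sets is trivial (`p` odd). -/

set_option autoImplicit false

namespace CF.Cls

open Subgroup CF.Coprime

universe u

section comm
variable {K : Type u} [CommGroup K] [Finite K]

/-- fixed points of an automorphism -/
def fixA (σ : MulAut K) : Subgroup K := (σ.toMonoidHom).eqLocus (MonoidHom.id K)

theorem mem_fixA {σ : MulAut K} {k : K} : k ∈ fixA σ ↔ σ k = k := Iff.rfl

theorem card_fix_cube_le (a c t : MulAut K) (h1 : ∀ k, t k = k → k = 1)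
    (h2 : ∀ k, t (t k) = k → k = 1) (hc : c * a = t * a * c) (hta : t * a = a * t)
    (htc : t * c = c * t) : Nat.card (fixA c) ^ 3 ≤ Nat.card K := by
  have hc' : ∀ k, c (a k) = t (a (c k)) := fun k => DFunLike.congr_fun hc k
  have hta' : ∀ k, t (a k) = a (t k) := fun k => DFunLike.congr_fun hta k
  have htc' : ∀ k, t (c k) = c (t k) := fun k => DFunLike.congr_fun htc k
  let f : fixA c × fixA c × fixA c →* K :=
    { toFun := fun v => v.1 * a v.2.1 * a (a v.2.2)
      map_one' := by simp
      map_mul' := fun x y => by simp only [Prod.fst_mul, Prod.snd_mul, Subgroup.coe_mul, map_mul]; ac_rfl }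
  have hf : Function.Injective f := by
    rw [injective_iff_map_eq_one]
    rintro ⟨⟨u, hu⟩, ⟨v, hv⟩, ⟨w, hw⟩⟩ h
    have h0 : u * a v * a (a w) = 1 := h
    rw [mem_fixA] at hu hv hw
    set v1 := a v
    set v2 := a (a w)
    have e1 : c v1 = t v1 := by rw [hc', hv]
    have e2 : c v2 = t (t v2) := by
      simp only [v2]; rw [hc', hc', hw, ← hta']
    have h3 := congrArg c h0
    rw [map_mul, map_mul, hu, e1, e2, map_one] at h3
    have h4 : v1 * t v2 * v2 = 1 := by
      apply h1
      simp only [map_mul]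
      have a1 : v1 * v2 = u⁻¹ := by rw [eq_inv_iff_mul_eq_one, ← h0]; ac_rfl
      have a2 : t v1 * t (t v2) = u⁻¹ := by rw [eq_inv_iff_mul_eq_one, ← h3]; ac_rfl
      calc t v1 * t (t v2) * t v2 = u⁻¹ * t v2 := by rw [a2]
        _ = v1 * t v2 * v2 := by rw [← a1]; ac_rfl
    have h5 := congrArg c h4
    rw [map_mul, map_mul, ← htc', e1, e2, map_one, ← map_mul, ← map_mul,
      MulEquiv.map_eq_one_iff] at h5
    have h6 : v2 = 1 := by
      apply h2
      have : v1 * t v2 * t (t v2) = v1 * t v2 * v2 := by rw [h4, ← h5]; ac_rfl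
      exact mul_left_cancel this
    have h7 : v1 = 1 := by simpa [h6] using h4
    have h8 : u = 1 := by simpa [h6, h7] using h0
    have h9 : v = 1 := by simpa [v1] using h7
    have h10 : w = 1 := by simpa [v2] using h6
    subst h8 h9 h10; rfl
  have := Nat.card_le_card_of_injective f hf
  simpa [Nat.card_prod, pow_succ, mul_assoc] using this

theorem exists_fix_cube_le {A : Type*} [Group A] [Finite A] {p : ℕ} [Fact p.Prime] (hp3 : 3 ≤ p)
    (hA : IsPGroup p A) (φ : A →* MulAut K)
    (hirr : ∀ W : Subgroup K, (∀ a, ∀ w ∈ W, φ a w ∈ W) → W = ⊥ ∨ W = ⊤)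
    (hφ : ¬ ∀ a k, φ a k = k) (C : Set A) (hC : closure C = ⊤) :
    ∃ c ∈ C, Nat.card (fixA (φ c)) ^ 3 ≤ Nat.card K := by
  let R := φ.range
  have hR : IsPGroup p R := hA.of_surjective φ.rangeRestrict φ.rangeRestrict_surjective
  have hcen : ∀ z : R, z ∈ center R → z ≠ 1 → ∀ k, (z : MulAut K) k = k → k = 1 := by
    intro z hz hz1 k hk
    rcases hirr (fixA z) (fun a w hw => by
      rw [mem_fixA] at hw ⊢
      have := congrArg (fun x : R => (x : MulAut K) w) (mem_center_iff.1 hz (φ.rangeRestrict a))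
      simpa [hw] using this.symm) with h | h
    · have : k ∈ fixA (z : MulAut K) := hk
      rwa [h, mem_bot] at this
    · exfalso; apply hz1; ext k
      have : k ∈ fixA (z : MulAut K) := by rw [h]; trivial
      exact this
  have hgen : ∀ H : Subgroup R, (∀ c ∈ C, φ.rangeRestrict c ∈ H) → H = ⊤ := by
    intro H hH
    have : closure C ≤ H.comap φ.rangeRestrict := (closure_le _).2 hH
    rw [hC, top_le_iff] at this
    rw [eq_top_iff]
    intro x _
    obtain ⟨a, rfl⟩ := φ.rangeRestrict_surjective x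
    have h : a ∈ H.comap φ.rangeRestrict := by rw [this]; trivial
    exact h
  by_cases hZ : center R = ⊤
  · have : ∃ c ∈ C, φ.rangeRestrict c ≠ 1 := by
      by_contra! h
      have h2 := hgen ⊥ h
      apply hφ
      intro a k
      have : φ.rangeRestrict a ∈ (⊥ : Subgroup R) := by rw [h2]; trivial
      rw [mem_bot] at this
      exact congrArg (fun x : R => (x : MulAut K) k) this
    obtain ⟨c, hc, h1⟩ := this
    refine ⟨c, hc, ?_⟩
    have : fixA (φ c) = ⊥ := by
      rw [eq_bot_iff]; intro k hk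
      exact hcen _ (by rw [hZ]; trivial) h1 k hk
    rw [this]; simpa using Nat.succ_le_of_lt Nat.card_pos
  · have : Nontrivial (R ⧸ center R) := by
      rw [QuotientGroup.nontrivial_iff]; exact hZ
    have h1 := (hR.to_quotient (center R)).center_nontrivial
    obtain ⟨⟨x, hx⟩, hx1⟩ := exists_ne (1 : center (R ⧸ center R))
    obtain ⟨a, rfl⟩ := QuotientGroup.mk_surjective x
    have ha : a ∉ center R := by
      intro h; apply hx1; ext; exact (QuotientGroup.eq_one_iff a).2 h
    have : ∃ c ∈ C, φ.rangeRestrict c * a ≠ a * φ.rangeRestrict c := by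
      by_contra! h
      have h2 := hgen (centralizer {a}) (fun c hc => by
        rw [mem_centralizer_singleton_iff]; exact h c hc)
      apply ha
      rw [mem_center_iff]; intro g
      have : g ∈ centralizer {a} := by rw [h2]; trivial
      exact mem_centralizer_singleton_iff.1 this
    obtain ⟨c, hc, hca⟩ := this
    set c' := φ.rangeRestrict c with hc'
    let t : R := c' * a * c'⁻¹ * a⁻¹
    have ht : t ∈ center R := by
      rw [← QuotientGroup.eq_one_iff]
      have := mem_center_iff.1 hx (c' : R ⧸ center R)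
      simp only [t, QuotientGroup.mk_mul, QuotientGroup.mk_inv]
      rw [this]; group
    have ht1 : t ≠ 1 := by
      intro h; apply hca
      calc c' * a = t * (a * c') := by simp only [t]; group
        _ = _ := by rw [h, one_mul]
    have ht2 : t * t ≠ 1 := by
      intro h
      obtain ⟨n, hn⟩ := IsPGroup.iff_orderOf.1 hR t
      have h2 : orderOf t ∣ 2 := orderOf_dvd_of_pow_eq_one (by rw [pow_two, h])
      rw [hn] at h2
      rcases n with _ | n
      · exact ht1 (orderOf_eq_one_iff.1 (by simpa using hn))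
      · have := Nat.le_of_dvd two_pos ((dvd_pow_self p (Nat.succ_ne_zero n)).trans h2)
        omega
    refine ⟨c, hc, card_fix_cube_le (a : MulAut K) (φ c) (t : MulAut K) (hcen t ht ht1)
      (fun k hk => hcen (t * t) (mul_mem ht ht) ht2 k hk) ?_ ?_ ?_⟩
    · have : c' * a = t * a * c' := by simp only [t]; group
      exact congrArg Subtype.val this
    · exact congrArg Subtype.val (mem_center_iff.1 ht a).symm
    · exact congrArg Subtype.val (mem_center_iff.1 ht c').symm

end comm

theorem gm_action {A : Type*} [Group A] [Finite A] {p : ℕ} [Fact p.Prime] (hp3 : 3 ≤ p)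
    (hA : IsPGroup p A) (C D : Set A) (hC : closure C = ⊤) (hD : closure D = ⊤) (n : ℕ) :
    ∀ (K : Type u) [Group K] [Finite K] (φ : A →* MulAut K), Nat.card K = n →
      (Nat.card A).Coprime (Nat.card K) →
      (∀ c ∈ C, ∀ d ∈ D, ∀ x, ∃ y z, φ c y = y ∧ φ d z = z ∧ x = y * z) → ∀ a k, φ a k = k := by
  induction n using Nat.strong_induction_on with
  | _ n ih =>
  intro K _ _ φ hn hcop h
  have hsolv : Group.IsSolvable A := by
    have := hA.isNilpotent; infer_instance
  have hsub : ∀ M : Subgroup K, M ≠ ⊤ → (∀ a, ∀ m ∈ M, φ a m ∈ M) → ∀ a, ∀ m ∈ M, φ a m = m := by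
    intro M hM hinv a m hm
    have hlt : Nat.card M < n := by
      rw [← hn]
      exact lt_of_le_of_ne (Nat.card_le_card_of_injective _ M.subtype_injective)
        (fun h => hM (eq_top_of_card_eq M h))
    have := ih _ hlt M (subAct φ M hinv) rfl (hcop.coprime_dvd_right (card_subgroup_dvd_card M))
      (fun c hc d hd x => by
        obtain ⟨y, z, hy, hz, hx⟩ := h c hc d hd x
        let B : Subgroup A :=
          { carrier := {b | y * φ b y⁻¹ ∈ M}
            one_mem' := by simp
            mul_mem' := fun {b b'} hb hb' => by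
              have : y * φ (b * b') y⁻¹ = (y * φ b y⁻¹) * φ b (y * φ b' y⁻¹) := by simp
              simp only [Set.mem_ofPred_eq] at hb hb' ⊢
              rw [this]; exact M.mul_mem hb (hinv _ _ hb')
            inv_mem' := fun {b} hb => by
              have : y * φ b⁻¹ y⁻¹ = (φ b⁻¹ (y * φ b y⁻¹))⁻¹ := by simp
              simp only [Set.mem_ofPred_eq] at hb ⊢
              rw [this]; exact M.inv_mem (hinv _ _ hb) }
        obtain ⟨k, hk, hk2⟩ := act_exists_mul_mem_fixSub φ (B := B) (H := M)
          (fun b _ m hm => hinv b m hm) (coprime_sub hcop B M) (Or.inl inferInstance) y⁻¹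
          (fun b hb => by rw [inv_inv]; exact hb)
        rw [mem_fixSub] at hk2
        have hcB : c ∈ B := by show y * φ c y⁻¹ ∈ M; simp [hy]
        have hdB : d ∈ B := by
          show y * φ d y⁻¹ ∈ M
          have : y * φ d y⁻¹ = x * (φ d x)⁻¹ := by rw [hx]; simp [hz]
          rw [this]; exact M.mul_mem x.2 (M.inv_mem (hinv _ _ x.2))
        refine ⟨⟨k, hk⟩, ⟨k, hk⟩⁻¹ * x, Subtype.ext ?_, Subtype.ext ?_, by simp⟩
        · have := hk2 c hcB
          simpa [hy] using this
        · have h1 := hk2 d hdB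
          have : k⁻¹ * (x : K) = (y⁻¹ * k)⁻¹ * z := by rw [hx]; group
          show φ d (k⁻¹ * x) = k⁻¹ * x
          rw [this, map_mul, map_inv, h1, hz]) a ⟨m, hm⟩
    exact congrArg Subtype.val this
  have hnorm : ∀ M : Subgroup K, M.Normal → M ≠ ⊥ → M ≠ ⊤ → (∀ a, ∀ m ∈ M, φ a m ∈ M) →
      ∀ a k, φ a k = k := by
    intro M hMn hM0 hM hinv
    have hlt : Nat.card (K ⧸ M) < n := by
      rw [← hn, card_eq_card_quotient_mul_card_subgroup M]
      have h1 : 1 < Nat.card M := (one_lt_card_iff_ne_bot M).2 hM0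
      have h2 : 0 < Nat.card (K ⧸ M) := Nat.card_pos
      nlinarith
    have hq := ih _ hlt (K ⧸ M) (quotAct φ M hinv) rfl
      (hcop.coprime_dvd_right (card_quotient_dvd_card M))
      (fun c hc d hd x => by
        obtain ⟨x, rfl⟩ := QuotientGroup.mk_surjective x
        obtain ⟨y, z, hy, hz, hx⟩ := h c hc d hd x
        refine ⟨y, z, ?_, ?_, by rw [hx]; rfl⟩
        · show ((φ c y : K) : K ⧸ M) = y
          rw [hy]
        · show ((φ d z : K) : K ⧸ M) = z
          rw [hz])
    have := act_le_fixSub_of_stable φ (B := ⊤) (H := ⊤) M (coprime_sub hcop ⊤ M)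
      (fun k _ b _ => by
        have : ((φ b k : K) : K ⧸ M) = k := hq b k
        exact QuotientGroup.eq.1 this.symm)
      (fun m hm => (mem_fixSub_top φ).2 (fun a => hsub M hM hinv a m hm))
    exact fun a k => (mem_fixSub_top φ).1 (this (mem_top k)) a
  by_contra hφ
  have hpg : ∃ r : ℕ, r.Prime ∧ r ∣ Nat.card K ∧ IsPGroup r (⊤ : Subgroup K) := by
    by_contra! hne
    apply hφ
    have := le_of_forall_isSylowOf (K := (⊤ : Subgroup K)) (L := fixSub φ ⊤) (fun r hr hrd => by
      have := Fact.mk hr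
      obtain ⟨P, hP, hinv⟩ := act_exists_inv_isSylowOf φ (inv_top φ ⊤) (coprime_sub hcop ⊤ ⊤)
        (Or.inl inferInstance) r
      refine ⟨P, hP, fun m hm => (mem_fixSub_top φ).2 (fun a => hsub P ?_ ((inv_top_iff φ).1 hinv)
        a m hm)⟩
      rintro rfl
      exact hne r hr (by simpa using hrd) hP.isPGroup)
    exact fun a k => (mem_fixSub_top φ).1 (this (mem_top k)) a
  obtain ⟨r, hr, hrd, hrK⟩ := hpg
  have := Fact.mk hr
  have hrK' : IsPGroup r K := hrK.of_equiv topEquiv
  have hnt : Nontrivial K := by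
    rw [← Finite.one_lt_card_iff_nontrivial]
    exact lt_of_lt_of_le hr.one_lt (Nat.le_of_dvd Nat.card_pos hrd)
  have hZ : center K = ⊤ := by
    by_contra hZ
    refine hφ (hnorm (center K) inferInstance ?_ hZ
      ((inv_top_iff φ).1 (inv_of_characteristic φ ⊤ _)))
    exact (nontrivial_iff_ne_bot _).1 hrK'.center_nontrivial
  letI : CommGroup K := { ‹Group K› with
    mul_comm := fun a b => mem_center_iff.1 (show b ∈ center K by rw [hZ]; trivial) a }
  have hirr : ∀ W : Subgroup K, (∀ a, ∀ w ∈ W, φ a w ∈ W) → W = ⊥ ∨ W = ⊤ := by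
    intro W hW
    by_contra! h'
    exact hφ (hnorm W inferInstance h'.1 h'.2 hW)
  obtain ⟨c, hc, h1⟩ := exists_fix_cube_le hp3 hA φ hirr hφ C hC
  obtain ⟨d, hd, h2⟩ := exists_fix_cube_le hp3 hA φ hirr hφ D hD
  have h3 : Nat.card K ≤ Nat.card (fixA (φ c)) * Nat.card (fixA (φ d)) := by
    rw [← Nat.card_prod]
    refine Nat.card_le_card_of_surjective (fun v : fixA (φ c) × fixA (φ d) => (v.1 : K) * v.2) ?_
    intro x
    obtain ⟨y, z, hy, hz, hx⟩ := h c hc d hd x
    exact ⟨(⟨y, hy⟩, ⟨z, hz⟩), hx.symm⟩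
  have h4 : 1 < Nat.card K := Finite.one_lt_card
  have h5 : Nat.card K ^ 3 ≤ Nat.card K * Nat.card K :=
    (Nat.pow_le_pow_left h3 3).trans (by rw [mul_pow]; exact Nat.mul_le_mul h1 h2)
  nlinarith

end CF.Cls
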