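/-
Involutions of classical groups in characteristic two, part 4: matrix groups.
-/
import Cfsg.Agent.Cls.Inv2Om

set_option autoImplicit false

namespace CF.Cls

open Module CF.Geom QuadraticMap

variable {F : Type*} [Field F] {ι : Type} [Fintype ι] [DecidableEq ι] {Q : QuadraticForm F (ι → F)}

theorem isConj_equiv_iff {G H : Type*} [Group G] [Group H] (e : G ≃* H) {x y : G} :
    IsConj (e x) (e y) ↔ IsConj x y :=
  ⟨fun h => by simpa using e.symm.toMonoidHom.map_isConj h, e.toMonoidHom.map_isConj⟩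

theorem sq_map_eq_one {G H : Type*} [Group G] [Group H] (e : G ≃* H) {x : G} (h : x ^ 2 = 1) :
    e x ^ 2 = 1 := by rw [← map_pow, h, map_one]

theorem RU_oEquiv (x : Cfsg.isometryGroup F Q) :
    RU (oEquiv Q x).1 = LinearMap.range (Matrix.toLin' (((x : GL ι F) : Matrix ι ι F) - 1)) :=
  (finrank_RU_toLin fun _ => rfl).1

theorem finrank_RU_oEquiv (x : Cfsg.isometryGroup F Q) :
    finrank F (RU (oEquiv Q x).1) = (((x : GL ι F) : Matrix ι ι F) - 1).rank :=
  (finrank_RU_toLin fun _ => rfl).2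

theorem finrank_RU_spEquiv {m : ℕ} (x : Matrix.symplecticGroup (Fin m) F) :
    finrank F (RU (spEquiv m F x).1) = (x.1 - 1).rank :=
  (finrank_RU_toLin fun _ => rfl).2

theorem sing_RU_oEquiv (x : Cfsg.isometryGroup F Q) : (∀ u ∈ RU (oEquiv Q x).1, Q u = 0) ↔
    ∀ v, Q ((((x : GL ι F) : Matrix ι ι F) - 1).mulVec v) = 0 := by
  rw [RU_oEquiv]
  exact ⟨fun h v => h _ ⟨v, rfl⟩, by rintro h _ ⟨v, rfl⟩; exact h v⟩

theorem isConj_O_iff_Sp [Finite F] (h2 : (2 : F) = 0) (hQ : (polarBilin Q).Nondegenerate)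
    {t s : Cfsg.isometryGroup F Q} (ht : t ^ 2 = 1) (hs : s ^ 2 = 1) :
    IsConj t s ↔ ∃ g ∈ Cfsg.preserving (Units.coeHom (Matrix ι ι F))
      (fun u v => Q (u + v) - Q u - Q v), g * (t : GL ι F) * g⁻¹ = (s : GL ι F) := by
  constructor
  · intro h
    obtain ⟨g, hg⟩ := isConj_iff.1 h
    exact ⟨g, fun u v => OG_polar (oEquiv Q g) u v, congrArg Subtype.val hg⟩
  · rintro ⟨g, h1, hg⟩
    have h3 := si_of h2 hQ (polar_isAlt h2 Q) (sq_map_eq_one (oEquiv Q) ht)
    have h4 := si_of h2 hQ (polar_isAlt h2 Q) (sq_map_eq_one (oEquiv Q) hs)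
    rw [← isConj_equiv_iff (oEquiv Q), isConj_isom_iff (isWittPair_quad Q hQ) h3 h4
      (quad_RU_congr h2 _ _)]
    refine h3.inv_of_comm h4 (g := glEquiv ι F g) h1 fun v => ?_
    have := congrArg (fun k : GL ι F => (k : Matrix ι ι F).mulVec v) (mul_inv_eq_iff_eq_mul.1 hg)
    simp only [Units.val_mul, ← Matrix.mulVec_mulVec] at this
    exact this

theorem mem_Omega_iff_even [Finite F] (h2 : (2 : F) = 0) (hQ : (polarBilin Q).Nondegenerate)
    (htop : reflSub Q = ⊤) (t : Cfsg.isometryGroup F Q) :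
    t ∈ Cfsg.Omega F Q ↔ Even (((t : GL ι F) : Matrix ι ι F) - 1).rank := by
  rw [mem_Omega_iff, mem_commutator_iff h2 hQ htop, finrank_RU_oEquiv]

theorem exists_conj_Omega_iff (t s : Cfsg.isometryGroup F Q) :
    (∃ g ∈ Cfsg.Omega F Q, g * t * g⁻¹ = s) ↔
      ∃ g ∈ commutator (OG Q), g * oEquiv Q t * g⁻¹ = oEquiv Q s := by
  rw [(oEquiv Q).surjective.exists]
  refine exists_congr fun g => ?_
  rw [mem_Omega_iff, ← map_inv, ← map_mul, ← map_mul, (oEquiv Q).injective.eq_iff]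

theorem card_cent_Omega_eq (x : Cfsg.isometryGroup F Q) :
    Nat.card {g : Cfsg.Omega F Q // (g : Cfsg.isometryGroup F Q) * x = x * g} =
      Nat.card {g : commutator (OG Q) // (g : OG Q) * oEquiv Q x = oEquiv Q x * g} :=
  Nat.card_congr ((omegaEquiv Q).toEquiv.subtypeEquiv fun g => by
    rw [← (oEquiv Q).injective.eq_iff, map_mul, map_mul]; rfl)

theorem card_cent_Sp [Finite F] (h2 : (2 : F) = 0) {m s : ℕ} (t : Matrix.symplecticGroup (Fin m) F)
    (ht : t ^ 2 = 1) (hs : (t.1 - 1).rank = s) :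
    Nat.card (Subgroup.centralizer {t}) = Nat.card F ^ (2 * m * s - (3 * s ^ 2 - s) / 2) *
      spOrd (Nat.card F) (m - s) * Nat.card (SpG (gam (sympBilin m F) (spEquiv m F t).1)) ∧
    SI (sympBilin m F) (spEquiv m F t).1 ∧ finrank F (RU (spEquiv m F t).1) = s ∧ s ≤ m := by
  have h1 := si_of h2 (sympBilin_nondegenerate m) (sympBilin_isAlt m)
    (sq_map_eq_one (spEquiv m F) ht)
  have h3 := (finrank_RU_spEquiv t).trans hs
  obtain ⟨h4, h5⟩ := card_fix_SpG (sympBilin_nondegenerate m) (sympBilin_isAlt m) (m := m)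
    (by simp [two_mul]) h1.le_perp h3
  refine ⟨?_, h1, h3, h4⟩
  rw [card_centralizer_congr (spEquiv m F), card_centralizer_isom (isWittPair_symp m) h1
    fun _ _ _ => rfl, ← h5]

theorem card_cent_Omega_nonsing [Fintype F] (h2 : (2 : F) = 0) {m k : ℕ}
    (h : Fintype.card F ≠ 2 ∨ m ≠ 2) (x : Cfsg.isometryGroup F (qPlus m F)) (hx : x ^ 2 = 1)
    (hs : (((x : GL (Fin m ⊕ Fin m) F) : Matrix (Fin m ⊕ Fin m) (Fin m ⊕ Fin m) F) - 1).rank = k + 1)
    (hn : ¬ ∀ u ∈ RU (oEquiv _ x).1, qPlus m F u = 0) :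
    Nat.card {g : Cfsg.Omega F (qPlus m F) // (g : Cfsg.isometryGroup F (qPlus m F)) * x = x * g} =
      Nat.card F ^ (2 * m * k - (3 * k ^ 2 + 3 * k) / 2) * spOrd (Nat.card F) (m - (k + 1)) *
        Nat.card (SpG (gam (polarBilin (qPlus m F)) (oEquiv _ x).1)) := by
  have hQ := qPlus_nondegenerate (F := F) m
  have h1 := sq_map_eq_one (oEquiv _) hx
  have h3 := card_cent_commutator h2 hQ (reflSub_eq_top_fin hQ (h.imp_right fun h => by
    simp; omega)) h1 fun h => hn h.sing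
  rw [card_centralizer_isom (isWittPair_quad _ hQ) (si_of h2 hQ (polar_isAlt h2 _) h1)
    (quad_RU_congr h2 _ _), card_fix_RU_nonsing h2 hQ (isPlus_qPlus m) (m := m) (by simp [two_mul])
      h1 ((finrank_RU_oEquiv x).trans hs) hn] at h3
  rw [card_cent_Omega_eq]
  apply Nat.eq_of_mul_eq_mul_right two_pos
  rw [h3]; ring

end CF.Cls
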