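/-
Free unipotent pieces of isometries are determined by their top forms.
-/
import Cfsg.Agent.Cls.KO1

set_option autoImplicit false

namespace CF.Cls

open Polynomial Module CF.Geom

universe u

variable {F : Type u} [Field F] {ε : F}

theorem sub_one_pow_intertwine {V W : Type*} [AddCommGroup V] [Module F V] [AddCommGroup W]
    [Module F W] {f : End F V} {g : End F W} (e : V →ₗ[F] W) (h : ∀ v, e (f v) = g (e v)) (n : ℕ)
    (v : V) : e (((f - 1) ^ n) v) = ((g - 1) ^ n) (e v) :=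
  pow_intertwine e (fun x => by simp [h]) n v

theorem pos_const (m r : ℕ) : ∀ _ : Fin r, 0 < m + 1 := fun _ => m.succ_pos

variable (F) in
/-- The free module of rank `r` over `F[X] / (X - 1) ^ (m + 1)`. -/
abbrev FM (m r : ℕ) : Type u := UM F fun _ : Fin r => m + 1

variable (F) in
/-- The unipotent endomorphism of `FM`. -/
noncomputable abbrev fE (m r : ℕ) : End F (FM F m r) := uE F fun _ : Fin r => m + 1

theorem finrank_FM (m r : ℕ) : finrank F (FM F m r) = (m + 1) * r := by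
  simp [finrank_pi_fintype, finrank_adjoinRoot, natDegree_X_sub_one, mul_comm]

theorem fE_pow (m r : ℕ) : (fE F m r - 1) ^ (m + 1) = 0 := by
  rw [← aeval_X_sub_one_pow (F := F) (fE F m r), (hasED_blk _).aeval_eq_zero_iff]
  intro a ha
  obtain ⟨k, -, rfl⟩ := Multiset.mem_map.1 ha
  rfl

theorem nilpotent_of_evM {m r : ℕ} {S : End F (FM F m r)} (h1 : S * fE F m r = fE F m r * S)
    (h2 : ∀ x, evM (pos_const m r) (S x) = 0) : IsNilpotent S := by
  have h3 : ∀ k x, ∃ y, (S ^ k) x = ((fE F m r - 1) ^ k) y := fun k => by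
    induction k with
    | zero => exact fun x => ⟨x, rfl⟩
    | succ k ih =>
      intro x
      obtain ⟨y, hy⟩ := ih x
      obtain ⟨z, hz⟩ := exists_of_evM_eq_zero _ (h2 y)
      refine ⟨z, ?_⟩
      rw [pow_succ' S, End.mul_apply, hy, ← End.mul_apply,
        ((show Commute S _ from h1).sub_right (Commute.one_right _)).pow_right k, End.mul_apply, hz,
        pow_succ (fE F m r - 1), End.mul_apply]
  refine ⟨m + 1, LinearMap.ext fun x => ?_⟩
  obtain ⟨y, hy⟩ := h3 (m + 1) x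
  rw [hy, fE_pow]; rfl

theorem norm_eq_ev1 {n : ℕ} (hn : 0 < n) (x : AdjoinRoot ((X - 1 : F[X]) ^ n))
    (h : ev1 hn x ≠ 0) : Algebra.norm F x = ev1 hn x ^ n := by
  obtain ⟨p, rfl⟩ := AdjoinRoot.mk_surjective x
  obtain ⟨r, hr⟩ := X_sub_C_dvd_sub_C_eval (p := p) (a := 1)
  have h1 : IsNilpotent (aeval (cyc ((X - 1 : F[X]) ^ n)) p - algebraMap F (End F _) (p.eval 1)) := by
    rw [← aeval_C (cyc ((X - 1 : F[X]) ^ n)), ← map_sub, hr]
    refine ⟨n, ?_⟩
    rw [← map_pow, aeval_cyc_eq_zero_iff, mul_pow]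
    exact dvd_mul_right _ _
  have h2 := det_of_nilpotent_sub h h1
  rw [finrank_adjoinRoot, natDegree_X_sub_one_pow] at h2
  rw [← h2, Algebra.norm_apply]
  congr 1
  exact LinearMap.ext fun y => (aeval_cyc _ _ _).symm

theorem det_eq_topM {m r : ℕ} {S : End F (FM F m r)} (h1 : ∀ x, S (fE F m r x) = fE F m r (S x))
    (h2 : (topM (pos_const m r) S).det ≠ 0) :
    LinearMap.det S = (topM (pos_const m r) S).det ^ (m + 1) := by
  let A : Matrix (Fin r) (Fin r) (AdjoinRoot ((X - 1 : F[X]) ^ (m + 1))) :=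
    Matrix.of fun k l => S (Pi.single l 1) k
  have h3 : S = (Matrix.toLin' A).restrictScalars F :=
    hom_ext _ h1 (fun x => (Matrix.toLin' A).map_smul (AdjoinRoot.root _) x) fun l => by
      ext k; simp [A]
  have h4 : ev1 m.succ_pos A.det = (topM (pos_const m r) S).det :=
    RingHom.map_det (ev1 m.succ_pos).toRingHom A
  rw [← h4] at h2 ⊢
  rw [h3, LinearMap.det_restrictScalars, LinearMap.det_toLin', norm_eq_ev1 _ _ h2]

namespace Tri

variable {T T' : Tri F ε} {m r : ℕ}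

theorem f_pow_apply (hN : (T.f - 1) ^ (m + 1) = 0) (k : ℕ) (v : T.V) :
    (T.f ^ k) (((T.f - 1) ^ m) v) = ((T.f - 1) ^ m) v := by
  induction k with
  | zero => rfl
  | succ k ih =>
    rw [pow_succ', End.mul_apply, ih, ← sub_eq_zero]
    have := LinearMap.congr_fun hN v
    rwa [pow_succ', End.mul_apply] at this

theorem tf_sub (hN : (T.f - 1) ^ (m + 1) = 0) (u v : T.V) : T.tf m ((T.f - 1) u) v = 0 := by
  have := T.pres.sub_one_pow 1 u (((T.f - 1) ^ m) v)
  rw [f_pow_apply hN, pow_one, pow_one, ← End.mul_apply (T.f - 1) (_ ^ m), ← pow_succ', hN] at this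
  simpa [tf_apply] using this

theorem tf_symm (hN : (T.f - 1) ^ (m + 1) = 0) (u v : T.V) :
    T.tf m u v = ε * (-1) ^ m * T.tf m v u := by
  rw [tf_apply, tf_apply, T.eh.symm, mul_assoc, ← T.pres.sub_one_pow, ← T.pres.pow m,
    f_pow_apply hN]
  rfl

theorem exists_model (hN : (T.f - 1) ^ (m + 1) = 0) (e : Fin r → T.V) :
    ∃ φ : FM F m r →ₗ[F] T.V, (∀ x, φ (fE F m r x) = T.f (φ x)) ∧ (∀ a, φ (Pi.single a 1) = e a) ∧
      (∀ x b, T.tf m (φ x) (e b) = Matrix.vecMul (evM (pos_const m r) x) (gram (T.tf m) e) b) ∧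
      ((gram (T.tf m) e).det ≠ 0 → ∀ x, (∀ y, T.B (φ x) (φ y) = 0) → x = 0) := by
  obtain ⟨φ, h1, h2⟩ : ∃ φ : FM F m r →ₗ[F] T.V, (∀ x, φ (fE F m r x) = T.f (φ x)) ∧
      ∀ a, φ (Pi.single a 1) = e a := exists_hom (fun _ : Fin r => (X - 1 : F[X]) ^ (m + 1)) T.f e
    fun l => by rw [aeval_X_sub_one_pow, hN]; rfl
  have h3 := sub_one_pow_intertwine φ h1
  have h4 : ∀ x b, T.tf m (φ x) (e b) =
      Matrix.vecMul (evM (pos_const m r) x) (gram (T.tf m) e) b := fun x b => by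
    obtain ⟨y, hy⟩ := exists_of_evM_eq_zero (pos_const m r)
      (m := x - ∑ a, evM (pos_const m r) x a • (Pi.single a 1 : FM F m r)) (by
        simp only [map_sub, map_sum, map_smul, evM_single]
        ext; simp [Pi.single_apply])
    have h5 := h3 1 y
    rw [pow_one, pow_one, ← hy, map_sub, sub_eq_iff_eq_add] at h5
    rw [h5, map_add, LinearMap.add_apply, tf_sub hN]
    simp [h2, Matrix.vecMul, dotProduct]
  refine ⟨φ, h1, h2, h4, fun hd x hx => ?_⟩
  have h5 : ∀ j ≤ m + 1, ∃ y, x = ((fE F m r - 1) ^ j) y := fun j hj => by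
    induction j with
    | zero => exact ⟨x, rfl⟩
    | succ j ih =>
      obtain ⟨y, rfl⟩ := ih (by omega)
      obtain ⟨z, rfl⟩ := exists_of_evM_eq_zero (pos_const m r) (m := y)
        (Matrix.eq_zero_of_vecMul_eq_zero hd (funext fun b => by
          have h6 := hx ((fE F m r ^ j) (((fE F m r - 1) ^ (m - j)) (Pi.single b 1)))
          rw [h3, pow_intertwine φ h1, h3, T.pres.sub_one_pow, ← End.mul_apply, ← pow_add,
            Nat.add_sub_cancel' (by omega), h2] at h6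
          rw [← h4]
          simpa [tf_apply] using h6))
      exact ⟨z, by rw [pow_succ (fE F m r - 1), End.mul_apply]⟩
  obtain ⟨y, rfl⟩ := h5 _ le_rfl
  rw [fE_pow]; rfl

/-- A free piece with blocks of size `m + 1`. -/
def Free (m r : ℕ) (T : Tri F ε) : Prop := (T.f - 1) ^ (m + 1) = 0 ∧ finrank F T.V = (m + 1) * r ∧
  ∃ e : Fin r → T.V, (gram (T.tf m) e).det ≠ 0

theorem Free.exists_equiv (h : Free m r T) {e : Fin r → T.V} (he : (gram (T.tf m) e).det ≠ 0) :
    ∃ φ : FM F m r ≃ₗ[F] T.V, (∀ x, φ (fE F m r x) = T.f (φ x)) ∧ (∀ a, φ (Pi.single a 1) = e a) ∧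
      ∀ x b, T.tf m (φ x) (e b) = Matrix.vecMul (evM (pos_const m r) x) (gram (T.tf m) e) b := by
  obtain ⟨φ, h1, h2, h3, h4⟩ := exists_model h.1 e
  have h5 : Function.Injective φ :=
    (injective_iff_map_eq_zero φ).2 fun x hx => h4 he x fun y => by simp [hx]
  exact ⟨.ofBijective φ ⟨h5, (LinearMap.injective_iff_surjective_of_finrank_eq_finrank
    ((finrank_FM m r).trans h.2.1.symm)).1 h5⟩, h1, h2, h3⟩

theorem Free.ed_eq (h : Free m r T) : ed T.f = Multiset.replicate r ((X - 1) ^ (m + 1)) := by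
  obtain ⟨φ, h1, -⟩ := h.exists_equiv h.2.2.choose_spec
  rw [← sim_iff_ed.1 ⟨φ, h1⟩, (hasED_blk _).ed_eq fun a ha => by
    obtain ⟨_, -, rfl⟩ := Multiset.mem_map.1 ha
    exact isPP_X_sub_one_pow m.succ_pos]
  simp

theorem exists_free (hN : (T.f - 1) ^ (m + 1) = 0) :
    ∃ r W S, Free m r W ∧ (S.f - 1) ^ m = 0 ∧ Iso T (add W S) := by
  obtain ⟨E, hE⟩ := (LinearMap.ker ((T.f - 1) ^ m)).exists_isCompl
  have h0 : ∀ v : T.V, ∃ k, ∃ w : E, ((T.f - 1) ^ m) k = 0 ∧ v = k + w := fun v => by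
    obtain ⟨k, hk, w, hw, rfl⟩ := Submodule.mem_sup.1 (hE.sup_eq_top.ge (Submodule.mem_top (x := v)))
    exact ⟨k, ⟨w, hw⟩, hk, rfl⟩
  have h1 : ∀ v : T.V, (∀ w : E, T.tf m w v = 0) → ((T.f - 1) ^ m) v = 0 := fun v hv =>
    T.eh.nondeg' _ fun u => by
      obtain ⟨k, w, hk, rfl⟩ := h0 u
      rw [← tf_apply, map_add, LinearMap.add_apply, hv, tf_symm hN, tf_apply, hk]
      simp
  have h2 : ∀ v : E, (∀ w : E, T.tf m w v = 0) → v = 0 := fun v hv =>
    Subtype.ext (Submodule.disjoint_def.1 hE.disjoint _ (h1 v hv) v.2)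
  have h3 : (gram (T.tf m) fun a => (finBasis F E a : T.V)).det ≠ 0 :=
    det_gram_ne_zero (B := pull (T.tf m) E.subtype) ⟨fun v hv => h2 v fun w => by
      rw [tf_symm hN, show T.tf m v w = 0 from hv w, mul_zero], h2⟩ _
  obtain ⟨φ, a1, a2, -, a4⟩ := exists_model hN fun a => (finBasis F E a : T.V)
  obtain ⟨S, ψ, b1, b2, b3, b4⟩ := T.exists_split φ a1 (a4 h3)
  have h4 := sub_one_pow_intertwine φ a1
  refine ⟨_, _, S, ⟨fE_pow _ _, finrank_FM _ _, fun a => Pi.single a 1, ?_⟩,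
    LinearMap.ext fun y => b1 ?_, b4⟩
  · convert h3 using 2
    ext a b
    change T.B (φ _) (φ (((fE F m _ - 1) ^ m) _)) = _
    rw [h4, a2, a2]; rfl
  · rw [sub_one_pow_intertwine ψ b2, LinearMap.zero_apply, map_zero]
    refine h1 _ fun w => ?_
    rw [← (finBasis F E).sum_repr w]
    simp only [Submodule.coe_sum, Submodule.coe_smul, map_sum, map_smul, LinearMap.sum_apply,
      LinearMap.smul_apply]
    refine Finset.sum_eq_zero fun a _ => ?_
    rw [tf_symm hN, tf_apply, ← a2, ← h4, T.eh.refl (b3 _ _)]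
    simp

theorem Free.exists_rep (h : Free m r T) (h' : Free m r T') {e : Fin r → T.V} {e' : Fin r → T'.V}
    (he : (gram (T.tf m) e).det ≠ 0) (he' : (gram (T'.tf m) e').det ≠ 0) :
    ∃ (φ : FM F m r ≃ₗ[F] T.V) (φ' : FM F m r ≃ₗ[F] T'.V) (S : End F (FM F m r)),
      (∀ x, φ (fE F m r x) = T.f (φ x)) ∧ (∀ x, φ' (fE F m r x) = T'.f (φ' x)) ∧
      (∀ x y, T.B (φ (S x)) (φ y) = T'.B (φ' x) (φ' y)) ∧ S * fE F m r = fE F m r * S ∧
      (topM (pos_const m r) S).transpose * gram (T.tf m) e = gram (T'.tf m) e' := by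
  obtain ⟨φ, a1, a2, a3⟩ := h.exists_equiv he
  obtain ⟨φ', b1, b2, b3⟩ := h'.exists_equiv he'
  have h1 := T.eh.pull_equiv φ
  obtain ⟨S, hS⟩ := h1.exists_rep (pull T'.B φ'.toLinearMap)
  have h2 : S * fE F m r = fE F m r * S := h1.comm_rep hS (h1.adj_eq_of_pres
    (fun u v => by simp [a1, T.pres _ _]) fun u v => by simp [b1, T'.pres _ _])
  refine ⟨φ, φ', S, a1, b1, hS, h2, ?_⟩
  ext a b
  have h3 := hS (Pi.single a 1) (((fE F m r - 1) ^ m) (Pi.single b 1))
  rw [pull_apply, pull_apply, sub_one_pow_intertwine φ.toLinearMap a1,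
    sub_one_pow_intertwine φ'.toLinearMap b1] at h3
  simp only [LinearEquiv.coe_coe, a2, b2] at h3
  rw [← tf_apply, a3] at h3
  exact h3

variable [Finite F]

theorem Free.iso_of_gram (h2 : (2 : F) ≠ 0) (h : Free m r T) (h' : Free m r T') {e : Fin r → T.V}
    {e' : Fin r → T'.V} (he : (gram (T.tf m) e).det ≠ 0)
    (hg : gram (T.tf m) e = gram (T'.tf m) e') : Iso T T' := by
  obtain ⟨φ, φ', S, a1, a2, a3, a4, a5⟩ := h.exists_rep h' he (hg ▸ he)
  have h3 : topM (pos_const m r) S = 1 := by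
    rw [← hg, ← Matrix.transpose_inj, Matrix.transpose_mul, Matrix.transpose_transpose] at a5
    exact (Matrix.isUnit_iff_isUnit_det _ |>.2 (by simpa using he)).mul_left_cancel
      (a5.trans (mul_one _).symm)
  obtain ⟨p, hp⟩ := CharP.exists F
  have hp' := Fact.mk (CharP.char_is_prime F p)
  obtain ⟨k, hk⟩ := (isNilpotent_iff_pow (F := F) p S).1 (nilpotent_of_evM
    (by rw [sub_mul, mul_sub, a4, one_mul, mul_one]) fun x => by
      simp [evM_comm _ (mem_CA.2 (LinearMap.congr_fun a4)), h3])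
  obtain ⟨j, hj⟩ := (hp'.out.odd_of_ne_two (char_ne_two p h2)).pow (n := k)
  have h4 : ∀ x y, T.B (φ x) (φ (S y)) = T.B (φ (S x)) (φ y) := fun x y => by
    rw [T.eh.symm, a3, a3, ← T'.eh.symm]
  have h5 : ∀ (i : ℕ) x y, T.B (φ x) (φ ((S ^ i) y)) = T.B (φ ((S ^ i) x)) (φ y) := fun i => by
    induction i with
    | zero => exact fun _ _ => rfl
    | succ i ih =>
      intro x y
      rw [pow_succ' S, End.mul_apply, h4, ih, ← End.mul_apply, ← pow_succ, ← pow_succ']
  have h6 : IsUnit (S ^ (j + 1)) := (IsUnit.of_pow_eq_one hk (by omega)).pow _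
  refine Iso.symm ⟨φ'.symm.trans ((LinearEquiv.ofBijective _ ((End.isUnit_iff _).1 h6)).trans φ),
    fun u v => ?_, fun v => ?_⟩
  · obtain ⟨u, rfl⟩ := φ'.surjective u
    obtain ⟨v, rfl⟩ := φ'.surjective v
    simp only [LinearEquiv.trans_apply, LinearEquiv.symm_apply_apply, LinearEquiv.ofBijective_apply]
    rw [h5, ← End.mul_apply, ← pow_add, show j + 1 + (j + 1) = p ^ k + 1 by omega, pow_succ S, hk,
      one_mul, a3]
  · obtain ⟨v, rfl⟩ := φ'.surjective v
    simp only [← a2, LinearEquiv.trans_apply, LinearEquiv.symm_apply_apply,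
      LinearEquiv.ofBijective_apply, ← a1]
    rw [← End.mul_apply, (show Commute S _ from a4).pow_left, End.mul_apply]

theorem Free.ds_mul (h : Free m r T) (h' : Free m r T') {e : Fin r → T.V} {e' : Fin r → T'.V}
    (he : (gram (T.tf m) e).det ≠ 0) (he' : (gram (T'.tf m) e').det ≠ 0) :
    T.ds * sqSign (gram (T.tf m) e).det ^ (m + 1) =
      T'.ds * sqSign (gram (T'.tf m) e').det ^ (m + 1) := by
  obtain ⟨φ, φ', S, -, -, a3, a4, a5⟩ := h.exists_rep h' he he'
  have h1 := congrArg Matrix.det a5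
  rw [Matrix.det_mul, Matrix.det_transpose] at h1
  have h2 : (topM (pos_const m r) S).det ≠ 0 := left_ne_zero_of_mul (h1 ▸ he')
  let b := finBasis F (FM F m r)
  have h3 : gram T'.B (b.map φ') = (LinearMap.toMatrix b b S).transpose * gram T.B (b.map φ) := by
    ext i j
    simp only [gram_apply, Basis.map_apply, ← a3, Matrix.mul_apply, Matrix.transpose_apply,
      LinearMap.toMatrix_apply]
    conv_lhs => rw [← b.sum_repr (S (b i))]
    simp only [map_sum, map_smul, LinearMap.sum_apply, LinearMap.smul_apply, smul_eq_mul]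
  rw [T.ds_eq (b.map φ), T'.ds_eq (b.map φ'), h3, ← h1, Matrix.det_mul, Matrix.det_transpose,
    LinearMap.det_toMatrix, det_eq_topM (LinearMap.congr_fun a4) h2, sqSign_mul _ _ h2 he,
    sqSign_mul _ _ (pow_ne_zero _ h2) (det_gram_ne_zero T.eh.nondegenerate _), sqSign_pow h2,
    mul_pow, mul_mul_mul_comm, Int.units_mul_self, one_mul]

end Tri

end CF.Cls
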