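/-
Decomposition of isometries in odd characteristic and bounds for the number of classes.
-/
import Cfsg.Agent.Cls.KO2
import Cfsg.Agent.Cls.Om9

set_option autoImplicit false

namespace CF.Cls

open Polynomial Module CF.Geom

universe u

theorem card_classes_le {G β : Type*} [Group G] [Finite β] (P : G → Prop) (lab : G → β)
    (h : ∀ g g', P g → P g' → lab g = lab g' → IsConj g g') :
    Nat.card {C : ConjClasses G // ∃ g, ConjClasses.mk g = C ∧ P g} ≤ Nat.card β :=
  Nat.card_le_card_of_injective (fun C => lab C.2.choose) fun C D e => Subtype.ext (by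
    rw [← C.2.choose_spec.1, ← D.2.choose_spec.1, ConjClasses.mk_eq_mk_iff_isConj]
    exact h _ _ C.2.choose_spec.2 D.2.choose_spec.2 e)

/-- The sign attached to a Boolean. -/
def sg {A : Type*} [One A] [Neg A] : Bool → A
  | true => 1
  | false => -1

open scoped _root_.Classical in
/-- The positions of orthogonal type. -/
noncomputable def OJ {F A : Type*} [Field F] [One A] [Neg A] (ε : F) (n : ℕ)
    (J : Multiset (A × ℕ)) : Finset (Bool × ℕ) :=
  (Finset.univ ×ˢ Finset.range n).filter fun x => ε * (-1) ^ x.2 = 1 ∧ (sg x.1, x.2 + 1) ∈ J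

theorem mem_OJ {F A : Type*} [Field F] [One A] [Neg A] {ε : F} {n : ℕ} {J : Multiset (A × ℕ)}
    {x : Bool × ℕ} : x ∈ OJ ε n J ↔ x.2 < n ∧ ε * (-1) ^ x.2 = 1 ∧ (sg x.1, x.2 + 1) ∈ J := by
  simp [OJ, Finset.mem_product]

variable {F : Type u} [Field F] {ε : F}

namespace Tri

variable {T T' : Tri F ε} {m r n : ℕ}

/-- The discriminant of the top form. -/
noncomputable def tl (T : Tri F ε) (m r : ℕ) : ℤˣ :=
  sqSign (gram (T.tf m) (Classical.epsilon fun e : Fin r → T.V => (gram (T.tf m) e).det ≠ 0)).det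

theorem tl_zero (T : Tri F ε) (m : ℕ) : T.tl m 0 = 1 := by
  rw [tl, Matrix.det_isEmpty, sqSign_one]

theorem free_zero (m : ℕ) : Free m 0 (zero F ε) :=
  ⟨Subsingleton.elim _ _, finrank_zero_of_subsingleton, fun _ => 0, by simp⟩

theorem exists_big_unip (h : (T.f - 1) ^ n = 0) :
    ∃ (r : ℕ → ℕ) (W : ℕ → Tri F ε), (∀ j, Free j (r j) (W j)) ∧ Iso T (big W n) := by
  induction n generalizing T with
  | zero =>
    have : Subsingleton T.V := ⟨fun a b => (LinearMap.congr_fun h a).trans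
      (LinearMap.congr_fun h b).symm⟩
    exact ⟨fun _ => 0, fun _ => zero F ε, free_zero, iso_zero⟩
  | succ n ih =>
    obtain ⟨r, W, S, h1, h2, h3⟩ := exists_free h
    obtain ⟨r', W', h4, h5⟩ := ih h2
    refine ⟨Function.update r' n r, Function.update W' n W, fun j => ?_, h3.trans ?_⟩
    · by_cases hj : j = n
      · subst hj; simpa using h1
      · simpa [hj] using h4 j
    · rw [big, Function.update_self]
      exact (Iso.refl _).add (h5.trans (Iso.big fun j hj => by
        rw [Function.update_of_ne hj.ne]; exact .refl _))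

/-- A decomposition into free pieces and a part without eigenvalues `± 1`. -/
structure Dec (T : Tri F ε) (n : ℕ) : Type (u + 1) where
  r : Bool → ℕ → ℕ
  W : Bool → ℕ → Tri F ε
  U : Tri F ε
  free : ∀ s j, Free j (r s j) (W s j)
  unit : IsUnit (U.f * U.f - 1)
  iso : Iso T ((big (W true) n).add ((big (W false) n).neg.add U))

theorem Iso.finrank_eq (h : Iso T T') : finrank F T.V = finrank F T'.V := h.sim.finrank_eq

theorem pow_eq_zero_of_nil (h : IsNilpotent (T.f - 1)) (hn : finrank F T.V ≤ n) :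
    (T.f - 1) ^ n = 0 := pow_eq_zero_of_le hn (unip_pow_finrank h)

theorem nonempty_dec (T : Tri F ε) (hn : finrank F T.V ≤ n) : Nonempty (Dec T n) := by
  obtain ⟨T₁, T₂, h1, h2, h3⟩ := T.exists_fitting
  obtain ⟨T₃, T₄, h4, h5, h6⟩ := T₂.neg.exists_fitting
  have h7 := h1.finrank_eq
  have h8 := h4.finrank_eq
  rw [finrank_prod] at h7 h8
  change finrank F T₂.V = _ at h8
  obtain ⟨r, W, a1, a2⟩ := exists_big_unip (pow_eq_zero_of_nil h2 (show _ ≤ n by omega))
  obtain ⟨r', W', b1, b2⟩ := exists_big_unip (pow_eq_zero_of_nil h5 (show _ ≤ n by omega))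
  refine ⟨⟨fun s => bif s then r else r', fun s => bif s then W else W', T₄.neg, ?_,
    isUnit_sq_sub_one (fun v hv => ?_) fun v hv => h6 v (neg_injective hv),
    h1.trans (a2.add ((iso_neg_neg _).trans (h4.neg.trans ((iso_neg_add _ _).trans
      (b2.neg.add (.refl _))))))⟩⟩
  · rintro (_ | _)
    exacts [b1, a1]
  · obtain ⟨Z, -, z2⟩ := h4.symm
    have h9 := z2 (0, v)
    have h10 : T₄.f v = -v := neg_eq_iff_eq_neg.1 hv
    have h11 := h3 (Z (0, v)) (neg_injective (h9.symm.trans (by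
      rw [← map_neg]; exact congrArg Z (Prod.ext (by simp) h10))))
    exact congrArg Prod.snd (Z.injective (h11.trans (map_zero Z).symm))

theorem Dec.exists_add (D : Dec T n) (s : Bool) {j : ℕ} (hj : j < n) :
    ∃ W S, Iso T (add W S) ∧ W.ds = (D.W s j).ds ∧ finrank F W.V = (j + 1) * D.r s j := by
  obtain ⟨S, hS⟩ := exists_big (D.W s) hj
  cases s
  · exact ⟨(D.W false j).neg, _, D.iso.trans (((Iso.refl _).add (((hS.neg.trans
      (iso_neg_add _ _)).add (.refl _)).trans (iso_assoc _ _ _))).trans (iso_left_comm _ _ _)),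
      rfl, (D.free _ _).2.1⟩
  · exact ⟨_, _, D.iso.trans ((hS.add (.refl _)).trans (iso_assoc _ _ _)), rfl, (D.free _ _).2.1⟩

variable [Finite F]

theorem Free.iso (h2 : (2 : F) ≠ 0) (hε : ε = 1 ∨ ε = -1) (h : Free m r T) (h' : Free m r T')
    (hl : ε * (-1) ^ m = 1 → T.tl m r = T'.tl m r) : Iso T T' := by
  have he := Classical.epsilon_spec h.2.2
  have he' := Classical.epsilon_spec h'.2.2
  unfold tl at hl
  generalize Classical.epsilon (fun e : Fin r → T.V => (gram (T.tf m) e).det ≠ 0) = e at he hl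
  generalize Classical.epsilon (fun e : Fin r → T'.V => (gram (T'.tf m) e).det ≠ 0) = e' at he' hl
  have h1 : ∀ {T : Tri F ε} (e : Fin r → T.V), gram (pull (T.tf m) (Fintype.linearCombination F e))
      (Pi.basisFun F (Fin r)) = gram (T.tf m) e := fun e => by ext; simp
  have h3 := nondegenerate_of_det_gram _ ((congrArg _ (h1 e)).trans_ne he)
  have h4 := nondegenerate_of_det_gram _ ((congrArg _ (h1 e')).trans_ne he')
  obtain ⟨g, hg⟩ : ∃ g : (Fin r → F) ≃ₗ[F] (Fin r → F), ∀ u v,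
      pull (T'.tf m) (Fintype.linearCombination F e') (g u) (g v) =
        pull (T.tf m) (Fintype.linearCombination F e) u v := by
    by_cases h5 : ε * (-1) ^ m = 1
    · refine exists_equiv_of_isSquare_disc h2 ⟨fun x y => ?_⟩ h3 ⟨fun x y => ?_⟩ h4 rfl
        (Pi.basisFun F _) (Pi.basisFun F _) ?_
      · simpa [h5] using tf_symm h.1 _ _
      · simpa [h5] using tf_symm h'.1 _ _
      · rw [h1, h1, ← sqSign_eq_one_iff, sqSign_mul _ _ he he', hl h5, Int.units_mul_self]
    · have h6 : ε * (-1) ^ m = -1 := by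
        rcases hε with rfl | rfl <;> rcases neg_one_pow_eq_or F m with h | h <;> simp_all
      have h7 : ∀ {T : Tri F ε}, Free m r T → ∀ x, T.tf m x x = 0 := fun h x => by
        have := tf_symm h.1 x x
        rw [h6] at this
        exact (mul_eq_zero.1 (by linear_combination this)).resolve_left h2
      exact exists_equiv_alt h3 (fun x => h7 h _) h4 (fun x => h7 h' _) rfl
  refine h.iso_of_gram h2 h' he (e' := fun a =>
    Fintype.linearCombination F e' (g (Pi.single a 1))) ?_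
  ext a b
  simpa using (hg (Pi.single a 1) (Pi.single b 1)).symm

theorem Free.iso_of_ds {T T' : Tri F 1} (h2 : (2 : F) ≠ 0) (h : Free m r T) (h' : Free m r T')
    (hd : T.ds = T'.ds) : Iso T T' := by
  refine h.iso h2 (.inl rfl) h' fun h1 => ?_
  have h3 := h.ds_mul h' (Classical.epsilon_spec h.2.2) (Classical.epsilon_spec h'.2.2)
  have h4 : Odd (m + 1) := by
    refine Even.add_one (Nat.not_odd_iff_even.1 fun h4 => h2 ?_)
    rw [h4.neg_one_pow] at h1
    linear_combination -h1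
  rwa [hd, mul_right_inj, Int.units_pow_eq_pow_mod_two, Int.units_pow_eq_pow_mod_two _ (m + 1),
    Nat.odd_iff.1 h4, pow_one, pow_one] at h3

theorem Dec.ds_eq (D : Dec T n) :
    T.ds = (∏ x ∈ Finset.univ ×ˢ Finset.range n, (D.W x.1 x.2).ds) * D.U.ds := by
  rw [D.iso.ds_eq, ds_add, ds_add, ds_big, show (big (D.W false) n).neg.ds = _ from ds_big _ _,
    Finset.prod_product, Fintype.prod_bool, mul_assoc]

variable {K : Type*} [Field K] [Algebra F K] [IsAlgClosed K]

theorem Iso.ev_eq (h : Iso T T') : ev K T.f = ev K T'.f := (sim_iff_ev T.unit T'.unit).1 h.sim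

theorem Free.ev_eq (h : Free m r T) : ev K T.f = Multiset.replicate r (1, m + 1) := by
  have := evP_X_sub_C (K := K) (1 : Fˣ) m.succ_pos
  rw [map_one, Units.val_one, C_1] at this
  rw [ev, h.ed_eq, Multiset.bind, Multiset.map_replicate, this, Multiset.join,
    Multiset.sum_replicate, Multiset.nsmul_singleton]

theorem ev_big {W : ℕ → Tri F ε} {r : ℕ → ℕ} (h : ∀ j, Free j (r j) (W j)) (n : ℕ) :
    ev K (big W n).f = ∑ j ∈ Finset.range n, Multiset.replicate (r j) (1, j + 1) := by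
  induction n with
  | zero =>
    rw [Finset.sum_range_zero, ← Multiset.replicate_zero (1, 0 + 1)]
    exact (free_zero 0).ev_eq
  | succ n ih => rw [Finset.sum_range_succ_comm, ← ih, ← (h n).ev_eq]; exact ev_prodMap _ _

theorem Dec.sq_ne (D : Dec T n) : ∀ x ∈ ev K D.U.f, x.1 ^ 2 ≠ 1 := fun x hx h => by
  obtain ⟨c, h1, h2⟩ := exists_of_sq (F := F) h
  have h3 : IsUnit (algebraMap F (End F D.U.V) c - D.U.f) := by
    have h4 : D.U.f * D.U.f - 1 = (algebraMap F _ c - D.U.f) * (-algebraMap F _ c - D.U.f) := by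
      rw [sub_mul, mul_sub, mul_sub, mul_neg, mul_neg, ← map_mul, h1, map_one,
        Algebra.commutes (c : F)]
      abel
    exact (LinearMap.isUnit_iff_isUnit_det _).2 (isUnit_of_mul_isUnit_left (by
      rw [← map_mul, ← h4]; exact D.unit.map _))
  have h4 := ((h3.map LinearMap.det).map (algebraMap F K)).ne_zero
  rw [det_sub_ev D.U.unit] at h4
  refine h4 (Multiset.prod_eq_zero (Multiset.mem_map.2 ⟨x, hx, ?_⟩))
  obtain ⟨π, -, -, -, h5, -⟩ := exists_pow_mem_ed D.U.unit (Multiset.mem_map_of_mem _ hx)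
  simp [← h2, h5.ne']

variable [Algebra.IsAlgebraic F K] (p : ℕ) [hp : Fact p.Prime] [CharP F p]
include p

theorem ev_neg (T : Tri F ε) : ev K T.neg.f = tw (-1) (ev K T.f) := by
  simpa using ev_smul (K := K) p T.unit (-1)

theorem Dec.ev_eq (D : Dec T n) : ev K T.f = ∑ x ∈ Finset.univ ×ˢ Finset.range n,
    Multiset.replicate (D.r x.1 x.2) (sg x.1, x.2 + 1) + ev K D.U.f := by
  rw [D.iso.ev_eq, ev_prodMap, ev_prodMap, ev_neg p, ev_big (D.free true), ev_big (D.free false),
    Finset.sum_product, Fintype.sum_bool, add_assoc, tw, ← Multiset.coe_mapAddMonoidHom, map_sum]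
  simp [sg]

open scoped _root_.Classical in
theorem Dec.count_eq (h2 : (2 : F) ≠ 0) (D : Dec T n) (s : Bool) {j : ℕ} (hj : j < n) :
    (ev K T.f).count (sg s, j + 1) = D.r s j := by
  have h1 := neg_one_ne_one_units (F := F) (K := K) h2
  rw [D.ev_eq p, Multiset.count_add, Multiset.count_eq_zero.2 fun h => D.sq_ne _ h (by
    cases s <;> simp [sg]), add_zero, Multiset.count_sum', Finset.sum_eq_single (s, j)]
  · simp
  · rintro ⟨t, i⟩ - h
    rw [Multiset.count_replicate, if_neg fun e => h ?_]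
    cases s <;> cases t <;> simp_all [sg, eq_comm]
  · simp [hj]

theorem Dec.r_eq (h2 : (2 : F) ≠ 0) (D : Dec T n) (D' : Dec T' n) (h : ev K T.f = ev K T'.f)
    (s : Bool) {j : ℕ} (hj : j < n) : D.r s j = D'.r s j := by
  rw [← D.count_eq (K := K) p h2 s hj, h, D'.count_eq p h2 s hj]

theorem Dec.iso_U (h2 : (2 : F) ≠ 0) (D : Dec T n) (D' : Dec T' n) (h : ev K T.f = ev K T'.f) :
    Iso D.U D'.U := by
  have h1 := D.r_eq p h2 D' h
  rw [D.ev_eq p, D'.ev_eq p, Finset.sum_congr rfl fun x hx => by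
    rw [h1 x.1 (by simpa using hx)], add_right_inj] at h
  exact D.U.eh.exists_isom_of_unit D'.U.eh D.U.pres D'.U.pres
    ((sim_iff_ev D.U.unit D'.U.unit).2 h) D.unit

theorem Dec.iso_of (h2 : (2 : F) ≠ 0) (D : Dec T n) (D' : Dec T' n) (h : ev K T.f = ev K T'.f)
    (h1 : ∀ s, ∀ j < n, Iso (D.W s j) (D'.W s j)) : Iso T T' :=
  D.iso.trans (((Iso.big (h1 true)).add ((Iso.big (h1 false)).neg.add (D.iso_U p h2 D' h))).trans
    D'.iso.symm)

theorem Dec.iso_W (h2 : (2 : F) ≠ 0) (hε : ε = 1 ∨ ε = -1) (D : Dec T n) (D' : Dec T' n)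
    (h : ev K T.f = ev K T'.f) (s : Bool) {j : ℕ} (hj : j < n) (h1 : (s, j) ∈ OJ ε n (ev K T.f) →
      (D.W s j).tl j (D.r s j) = (D'.W s j).tl j (D'.r s j)) : Iso (D.W s j) (D'.W s j) := by
  classical
  have h3 := D.r_eq p h2 D' h s hj
  refine (D.free s j).iso h2 hε (h3 ▸ D'.free s j) fun h4 => ?_
  rw [← h3] at h1
  by_cases h5 : (sg s, j + 1) ∈ ev K T.f
  · exact h1 (mem_OJ.2 ⟨hj, h4, h5⟩)
  · rw [← D.count_eq (K := K) p h2 s hj, Multiset.count_eq_zero.2 h5, tl_zero, tl_zero]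

end Tri

open Tri

variable [Finite F] {K : Type*} [Field K] [Algebra F K] [IsAlgClosed K] [Algebra.IsAlgebraic F K]
  (p : ℕ) [hp : Fact p.Prime] [CharP F p] {G : Type*} [Group G] {n : ℕ}
include p

theorem card_fiber_tri (h2 : (2 : F) ≠ 0) (hε : ε = 1 ∨ ε = -1) (tri : G → Tri F ε)
    (hn : ∀ g, finrank F (tri g).V ≤ n) (hc : ∀ g g', Iso (tri g) (tri g') → IsConj g g')
    (J : Multiset (Kˣ × ℕ)) :
    Nat.card {C : ConjClasses G // ∃ g, ConjClasses.mk g = C ∧ ev K (tri g).f = J} ≤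
      2 ^ (OJ ε n J).card := by
  have D := fun g => ((tri g).nonempty_dec (hn g)).some
  refine (card_classes_le _ (fun g (x : OJ ε n J) => ((D g).W x.1.1 x.1.2).tl x.1.2
    ((D g).r x.1.1 x.1.2)) fun g g' h h' e => hc _ _ ?_).trans_eq (by simp)
  exact (D g).iso_of p h2 (D g') (h.trans h'.symm) fun s j hj =>
    (D g).iso_W p h2 hε (D g') (h.trans h'.symm) s hj fun hx => congrFun e ⟨(s, j), h ▸ hx⟩

theorem card_fiber_tri_half (h2 : (2 : F) ≠ 0) (tri : G → Tri F 1)
    (hn : ∀ g, finrank F (tri g).V ≤ n) (hc : ∀ g g', Iso (tri g) (tri g') → IsConj g g')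
    (hd : ∀ g g', (tri g).ds = (tri g').ds) (J : Multiset (Kˣ × ℕ)) :
    2 * Nat.card {C : ConjClasses G // ∃ g, ConjClasses.mk g = C ∧ ev K (tri g).f = J} ≤
      2 ^ (OJ (1 : F) n J).card + if OJ (1 : F) n J = ∅ then 1 else 0 := by
  classical
  split_ifs with h0
  · have := card_fiber_tri p h2 (.inl rfl) tri hn hc J
    rw [h0] at this ⊢
    simpa using this
  obtain ⟨x₀, h1⟩ := Finset.nonempty_iff_ne_empty.2 h0
  have D := fun g => ((tri g).nonempty_dec (hn g)).some
  rw [← Finset.card_erase_add_one h1, pow_succ', add_zero]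
  refine Nat.mul_le_mul_left _ ((card_classes_le _ (fun g (x : (OJ (1 : F) n J).erase x₀) =>
    ((D g).W x.1.1 x.1.2).tl x.1.2 ((D g).r x.1.1 x.1.2)) fun g g' h h' e => hc _ _ ?_).trans_eq
      (by rw [Nat.card_fun, Nat.card_eq_finsetCard]; simp))
  have h3 := h.trans h'.symm
  have h4 : ∀ x ∈ (Finset.univ ×ˢ Finset.range n).erase x₀,
      Iso ((D g).W x.1 x.2) ((D g').W x.1 x.2) := fun x hx =>
    (D g).iso_W p h2 (.inl rfl) (D g') h3 x.1 (by simpa using (Finset.mem_erase.1 hx).2)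
      fun hx' => congrFun e ⟨x, Finset.mem_erase.2 ⟨(Finset.mem_erase.1 hx).1, h ▸ hx'⟩⟩
  refine (D g).iso_of p h2 (D g') h3 fun s j hj => ?_
  by_cases h5 : (s, j) = x₀
  · subst h5
    have h6 := hd g g'
    have h7 : (s, j) ∈ Finset.univ ×ˢ Finset.range n := by simpa using hj
    rw [(D g).ds_eq, (D g').ds_eq, ((D g).iso_U p h2 (D g') h3).ds_eq, mul_left_inj,
      ← Finset.mul_prod_erase _ _ h7, ← Finset.mul_prod_erase _ _ h7,
      Finset.prod_congr rfl fun x hx => (h4 x hx).ds_eq, mul_left_inj] at h6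
    exact ((D g).free s j).iso_of_ds h2 ((D g).r_eq p h2 (D g') h3 s hj ▸ (D g').free s j) h6
  · exact h4 (s, j) (by simp [h5, hj])

theorem card_fiber_tri_one (h2 : (2 : F) ≠ 0) (tri : G → Tri F 1)
    (hc : ∀ g g', Iso (tri g) (tri g') → IsConj g g') (P : G → Prop) (κ : ℕ → ℤˣ)
    (hP : ∀ g, P g → ∀ W S, Iso (tri g) (add W S) → W.ds = κ (finrank F W.V))
    (J : Multiset (Kˣ × ℕ)) :
    Nat.card {C : ConjClasses G // ∃ g, ConjClasses.mk g = C ∧ P g ∧ ev K (tri g).f = J} ≤ 1 := by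
  refine (card_classes_le _ (fun _ => ()) fun g g' h h' _ => hc _ _ ?_).trans_eq (by simp)
  obtain ⟨D⟩ := (tri g).nonempty_dec (le_max_left _ (finrank F (tri g').V))
  obtain ⟨D'⟩ := (tri g').nonempty_dec (le_max_right (finrank F (tri g).V) _)
  have h3 := h.2.trans h'.2.symm
  refine D.iso_of p h2 D' h3 fun s j hj => ?_
  have h4 := D.r_eq p h2 D' h3 s hj
  obtain ⟨W, S, a1, a2, a3⟩ := D.exists_add s hj
  obtain ⟨W', S', b1, b2, b3⟩ := D'.exists_add s hj
  refine (D.free s j).iso_of_ds h2 (h4 ▸ D'.free s j) ?_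
  rw [← a2, ← b2, hP g h.1 W S a1, hP g' h'.1 W' S' b1, a3, b3, h4]

end CF.Cls
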