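/-
Generating functions for the classes of symplectic and orthogonal groups in odd characteristic.
-/
import Cfsg.Agent.Cls.KO3

set_option autoImplicit false

namespace CF.Cls

open Finset PowerSeries

section
variable {A : Type*} {w w' : Multiset A → ℕ} {g g' : ℕ⟦X⟧}

/-- The weighted number of multisets of cardinality `d` is bounded by a coefficient. -/
def Bd (w : Multiset A → ℕ) (g : ℕ⟦X⟧) : Prop :=
  ∀ (d : ℕ) (t : Finset (Multiset A)), (∀ S ∈ t, S.card = d) → ∑ S ∈ t, w S ≤ coeff d g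

theorem Bd.add (h : Bd w g) (h' : Bd w' g') : Bd (fun S => w S + w' S) (g + g') := fun d t ht => by
  rw [sum_add_distrib, map_add]; exact Nat.add_le_add (h d t ht) (h' d t ht)

theorem Bd.mono (h : Bd w g) (h' : ∀ S, w' S ≤ w S) : Bd w' g := fun d t ht =>
  (sum_le_sum fun S _ => h' S).trans (h d t ht)

theorem Bd.ite (h : Bd w g) (c : Prop) [Decidable c] (h' : Bd w' g') :
    Bd (fun S => if c then w S else w' S) (if c then g else g') := by
  split_ifs
  exacts [h, h']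

theorem Bd.shift [DecidableEq A] (h : Bd w g) (z : A) :
    Bd (fun S => if z ∈ S then w (S.erase z) else 0) (X * g) := fun d t ht => by
  rw [← sum_filter, ← sum_image (s := t.filter (z ∈ ·)) (g := fun S => S.erase z) (f := w)
    fun S hS T hT e => by
    rw [← Multiset.cons_erase (mem_filter.1 hS).2, ← Multiset.cons_erase (mem_filter.1 hT).2]
    exact congrArg _ e]
  rcases d with _ | d
  · rw [filter_eq_empty_iff.2 fun S hS => by simp [Multiset.card_eq_zero.1 (ht S hS)]]; simp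
  rw [coeff_succ_X_mul]
  refine h d _ fun S' hS' => ?_
  obtain ⟨S, hS, rfl⟩ := mem_image.1 hS'
  rw [Multiset.card_erase_of_mem (mem_filter.1 hS).2, ht S (mem_filter.1 hS).1]; rfl

theorem Bd.step [DecidableEq A] (z : A) (hw : ∀ S, w (z ::ₘ S) ≤ w S)
    (h : Bd (fun S => if Even (S.count z) then w S else 0) g) :
    Bd (fun S => (if z ∈ S then 2 else 1) * w S) ((1 + X) ^ 2 * g) := by
  rw [show (1 + X) ^ 2 * g = g + X * g + X * g + X * (X * g) by ring]
  refine (((h.add (h.shift z)).add (h.shift z)).add ((h.shift z).shift z)).mono fun S => ?_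
  by_cases h1 : z ∈ S
  swap
  · simp [h1]
  obtain ⟨S, rfl⟩ := Multiset.exists_cons_of_mem h1
  have h2 := hw S
  by_cases h3 : Even (S.count z)
  · simp [h3, Nat.even_add_one]; omega
  obtain ⟨S, rfl⟩ := Multiset.exists_cons_of_mem (a := z) (s := S)
    (Multiset.count_ne_zero.1 fun h => h3 (by simp [h]))
  have h4 := hw S
  simp only [Multiset.count_cons_self, Nat.even_add_one, not_not] at h3
  simp [h3, Nat.even_add_one]; omega

theorem sum_le_coeff_bd (w : ℕ → Multiset A → ℕ) (g : ℕ → ℕ⟦X⟧) {n : ℕ}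
    (h : ∀ i, 0 < i → Bd (w i) (g i)) (s : Finset (Multiset (A × ℕ)))
    (hs : ∀ J ∈ s, (∀ x ∈ J, 0 < x.2) ∧ dm J = n) :
    ∑ J ∈ s, ∏ i ∈ Icc 1 n, w i (pt i J) ≤ coeff n (∏ i ∈ Icc 1 n, sp i fun d => coeff d (g i)) :=
  sum_le_coeff w _ _ (fun i hi => sum_le_sp (mem_Icc.1 hi).1 (h i (mem_Icc.1 hi).1)) n s
    fun J hJ => ⟨fun x hx => mem_Icc.2 ⟨(hs J hJ).1 x hx, (le_dm hx).trans_eq (hs J hJ).2⟩,
      (hs J hJ).2⟩

theorem two_pow_OJ {F : Type*} [Field F] [DecidableEq A] [One A] [Neg A] {ε : F} {o : ℕ → Prop}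
    [DecidablePred o] (h : ∀ j, ε * (-1) ^ j = 1 ↔ o (j + 1)) (n : ℕ) (J : Multiset (A × ℕ)) :
    2 ^ (OJ ε n J).card = ∏ i ∈ Icc 1 n, if o i then
      (if 1 ∈ pt i J then 2 else 1) * (if -1 ∈ pt i J then 2 else 1) else 1 := by
  classical
  rw [show OJ ε n J = (univ ×ˢ range n).filter fun x => o (x.2 + 1) ∧ sg x.1 ∈ pt (x.2 + 1) J by
    ext x; simp [mem_OJ, h, mem_pt], card_filter, sum_product_right, ← prod_pow_eq_pow_sum,
    ← Ico_add_one_right_eq_Icc, prod_Ico_eq_prod_range, Nat.add_sub_cancel]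
  refine prod_congr rfl fun j _ => ?_
  rw [add_comm 1 j, Fintype.sum_bool]
  by_cases h1 : o (j + 1) <;> by_cases h2 : 1 ∈ pt (j + 1) J <;> by_cases h3 : -1 ∈ pt (j + 1) J <;>
    simp [sg, h1, h2, h3]

variable [CommGroup A] {Q : ℤ} {S : Multiset A}

theorem St1.of_cons {z : A} (hz : z ^ Q = z) (h : St1 Q (z ::ₘ S)) : St1 Q S := by
  rwa [St1, Multiset.map_cons, hz, Multiset.cons_inj_right] at h

theorem St1.even [DecidableEq A] (h : St1 (-1) S) (h1 : ∀ x, x ^ 2 = 1 → Even (S.count x)) :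
    Even S.card ∧ S.prod = 1 := by
  induction S using Multiset.strongInductionOn with
  | _ S ih =>
  rcases S.empty_or_exists_mem with rfl | ⟨x, hx⟩
  · simp
  obtain ⟨S, rfl⟩ := Multiset.exists_cons_of_mem hx
  have h2 : x⁻¹ ∈ S := by
    by_cases h3 : x⁻¹ = x
    · have := h1 x (by rw [sq]; nth_rw 1 [← h3]; exact inv_mul_cancel x)
      rw [h3, ← Multiset.count_ne_zero]
      intro h4
      simp [h4] at this
    · refine (Multiset.mem_cons.1 ?_).resolve_left h3
      rw [← h]; simp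
  obtain ⟨S, rfl⟩ := Multiset.exists_cons_of_mem h2
  obtain ⟨h3, h4⟩ := ih S ((Multiset.lt_cons_self _ _).trans (Multiset.lt_cons_self _ _))
    (by simpa [St1, Multiset.cons_swap x] using h) fun y hy => by
      have h5 := h1 y hy
      have h6 : y = x⁻¹ ↔ y = x := by
        rw [← inv_eq_iff_eq_inv, inv_eq_of_mul_eq_one_left (by rw [← sq, hy])]
      simp only [Multiset.count_cons, h6] at h5
      split_ifs at h5
      · simpa [Nat.even_add_one] using h5
      · exact h5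
  simp [h4, Nat.even_add_one, h3]

end

/-- The generating function of palindromic polynomials. -/
noncomputable def PP (q : ℕ) : ℕ⟦X⟧ := sp 2 (q ^ ·)

/-- The generating function for classes of symplectic and orthogonal groups. -/
noncomputable def GO (q : ℕ) (o : ℕ → Prop) [DecidablePred o] (n : ℕ) : ℕ⟦X⟧ :=
  ∏ i ∈ Icc 1 n, sp i fun d => coeff d (if o i then (1 + X) ^ 2 * ((1 + X) ^ 2 * PP q) else PP q)

/-- The generating function for split classes. -/
noncomputable def GS (q : ℕ) (n : ℕ) : ℕ⟦X⟧ :=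
  ∏ i ∈ Icc 1 n, sp i fun d => coeff d (if Odd i then mk (· + 1) else PP q)

variable {F : Type*} [Field F] [Finite F] {K : Type*} [Field K] [Algebra F K] [IsAlgClosed K]
  [Algebra.IsAlgebraic F K] (p : ℕ) [hp : Fact p.Prime] [CharP F p]

omit [IsAlgClosed K] in
open scoped _root_.Classical in
theorem bd_pm : Bd (fun S : Multiset Kˣ => if ∀ x ∈ S, x ^ 2 = 1 then 1 else 0) (mk (· + 1)) :=
  fun d t ht => by
  rw [← card_filter, coeff_mk, ← card_range (d + 1)]
  have h1 : ∀ S : Multiset Kˣ, (∀ x ∈ S, x ^ 2 = 1) → S = Multiset.replicate (S.count 1) 1 +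
      Multiset.replicate (S.card - S.count 1) (-1) := fun S hS => by
    have h2 := Multiset.filter_add_not (1 = ·) S
    have h3 := congrArg Multiset.card h2
    rw [Multiset.card_add, ← Multiset.count_eq_card_filter_eq] at h3
    rw [← Multiset.filter_eq]
    refine h2.symm.trans (congrArg _ (Multiset.eq_replicate.2 ⟨by omega, fun x hx =>
      (eq_or_of_sq_units (hS x (Multiset.mem_filter.1 hx).1)).resolve_left
        fun e => (Multiset.mem_filter.1 hx).2 e.symm⟩))
  refine card_le_card_of_injOn (Multiset.count 1) (fun S hS => ?_) fun S hS T hT e => ?_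
  · simpa [← ht S (mem_filter.1 hS).1, Nat.lt_succ_iff] using Multiset.count_le_card 1 S
  · rw [h1 S (mem_filter.1 hS).2, h1 T (mem_filter.1 hT).2, ht S (mem_filter.1 hS).1,
      ht T (mem_filter.1 hT).1, e]

include p

open scoped _root_.Classical in
theorem bd_PP : Bd (fun S : Multiset Kˣ => if Even (S.count (-1)) then
    (if St1 (Nat.card F) S ∧ St1 (-1) S ∧ Even (S.count 1) then 1 else 0) else 0)
    (PP (Nat.card F)) := fun d t ht => by
  have h1 : ∀ S ∈ t.filter fun S => Even (S.count (-1)) ∧ St1 (Nat.card F) S ∧ St1 (-1) S ∧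
      Even (S.count 1), St1 (Nat.card F) S ∧ St1 (-1) S ∧ Even S.card ∧ S.prod = 1 := fun S hS => by
    obtain ⟨-, h1, h2, h3, h4⟩ := mem_filter.1 hS
    exact ⟨h2, h3, h3.even fun x hx => by rcases eq_or_of_sq_units hx with rfl | rfl <;> assumption⟩
  simp only [← ite_and, ← card_filter]
  rcases Nat.even_or_odd' d with ⟨k, rfl | rfl⟩
  · refine (cnt_pal p k _ fun S hS => ⟨(h1 S hS).1, (h1 S hS).2.1, ht S (mem_filter.1 hS).1,
      (h1 S hS).2.2.2⟩).trans_eq (by simp [PP, sp])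
  · refine (card_eq_zero.2 (eq_empty_of_forall_notMem fun S hS => ?_)).trans_le (Nat.zero_le _)
    simpa [ht S (mem_filter.1 hS).1, Nat.even_add_one] using (h1 S hS).2.2.1

open scoped _root_.Classical in
theorem bd_orth (h2 : (2 : F) ≠ 0) : Bd (fun S : Multiset Kˣ => (if 1 ∈ S then 2 else 1) *
    ((if -1 ∈ S then 2 else 1) * if St1 (Nat.card F) S ∧ St1 (-1) S then 1 else 0))
    ((1 + X) ^ 2 * ((1 + X) ^ 2 * PP (Nat.card F))) := by
  have h1 := neg_one_ne_one_units (F := F) (K := K) h2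
  have h3 := (ta_K (K := K) F p).zpow_eq_of_sq (pq_card (F := F) p) (x := -1) (by simp)
  refine Bd.step 1 (fun S => ?_) (((bd_PP p).step (-1) fun S => ?_).mono fun S => ?_)
  · simp only [Multiset.mem_cons, h1, false_or]
    refine Nat.mul_le_mul_left _ ?_
    split_ifs with h4 h5
    exacts [le_rfl, absurd ⟨h4.1.of_cons (by simp), h4.2.of_cons (by simp)⟩ h5, zero_le_one, le_rfl]
  · rw [Multiset.count_cons_of_ne h1.symm]
    split_ifs with h4 h5
    exacts [le_rfl, absurd ⟨h4.1.of_cons h3, h4.2.1.of_cons (by simp), h4.2.2⟩ h5, zero_le_one,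
      le_rfl]
  · by_cases h4 : Even (S.count 1) <;> simp [h4]

open scoped _root_.Classical in
theorem pp_eq_one {J : Multiset (Kˣ × ℕ)} {n i : ℕ} {R : ℕ → Prop} (h : IA (Nat.card F) n J)
    (h1 : Par R J) (h2 : R i) : (if Even ((pt i J).count (-1)) then (if St1 (Nat.card F) (pt i J) ∧
      St1 (-1) (pt i J) ∧ Even ((pt i J).count 1) then 1 else 0) else 0) = 1 := by
  have h3 : ∀ x : Kˣ, x ^ 2 = 1 → Even ((pt i J).count x) := fun x hx => by
    rw [count_pt]
    by_cases h4 : (x, i) ∈ J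
    · convert h1 _ h4 hx h2
    · simp [h4]
  rw [if_pos (h3 _ (by simp)), if_pos ⟨h.st.pt i, h.inv.pt i, h3 _ (by simp)⟩]

theorem sum_two_pow_le (h2 : (2 : F) ≠ 0) {ε : F} {o : ℕ → Prop} [DecidablePred o]
    (ho : ∀ j, ε * (-1) ^ j = 1 ↔ o (j + 1)) {n : ℕ} (s : Finset (Multiset (Kˣ × ℕ)))
    (hs : ∀ J ∈ s, IA (Nat.card F) n J ∧ Par (¬ o ·) J) :
    ∑ J ∈ s, 2 ^ (OJ ε n J).card ≤ coeff n (GO (Nat.card F) o n) := by
  classical
  refine le_trans (le_of_eq (sum_congr rfl fun J hJ => ?_)) (sum_le_coeff_bd _ _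
    (fun i _ => (bd_orth p h2).ite (o i) (bd_PP p)) s fun J hJ => ⟨(hs J hJ).1.pos, (hs J hJ).1.dim⟩)
  rw [two_pow_OJ ho]
  refine prod_congr rfl fun i _ => ?_
  by_cases h1 : o i
  · rw [if_pos h1, if_pos h1, if_pos (And.intro ((hs J hJ).1.st.pt i) ((hs J hJ).1.inv.pt i)),
      mul_one]
  · rw [if_neg h1, if_neg h1]
    exact (pp_eq_one p (hs J hJ).1 (hs J hJ).2 h1).symm

theorem card_le_GO {n : ℕ} (s : Finset (Multiset (Kˣ × ℕ)))
    (hs : ∀ J ∈ s, IA (Nat.card F) n J ∧ Par (fun _ => True) J) :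
    s.card ≤ coeff n (GO (Nat.card F) (fun _ => False) n) := by
  classical
  rw [card_eq_sum_ones]
  refine le_trans (le_of_eq (sum_congr rfl fun J hJ => ?_)) (sum_le_coeff_bd
    (fun _ => _) _ (fun i _ => bd_PP p) s fun J hJ => ⟨(hs J hJ).1.pos, (hs J hJ).1.dim⟩)
  exact (prod_eq_one fun i _ => pp_eq_one p (hs J hJ).1 (hs J hJ).2 trivial).symm

theorem card_le_GS {n : ℕ} (s : Finset (Multiset (Kˣ × ℕ)))
    (hs : ∀ J ∈ s, IA (Nat.card F) n J ∧ Par Even J ∧ ∀ x ∈ J, Odd x.2 → x.1 ^ 2 = 1) :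
    s.card ≤ coeff n (GS (Nat.card F) n) := by
  classical
  rw [card_eq_sum_ones]
  refine le_trans (le_of_eq (sum_congr rfl fun J hJ => ?_)) (sum_le_coeff_bd _ _
    (fun i _ => bd_pm.ite (Odd i) (bd_PP p)) s fun J hJ => ⟨(hs J hJ).1.pos, (hs J hJ).1.dim⟩)
  refine (prod_eq_one fun i _ => ?_).symm
  by_cases h1 : Odd i
  · exact (if_pos h1).trans (if_pos fun x hx => (hs J hJ).2.2 _ (mem_pt.1 hx) h1)
  · exact (if_neg h1).trans (pp_eq_one p (hs J hJ).1 (hs J hJ).2.1 (Nat.not_odd_iff_even.1 h1))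

end CF.Cls
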