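/-
Numerical bounds for the class numbers of symplectic and orthogonal groups.
-/
import Cfsg.Agent.Cls.KO4

set_option autoImplicit false

namespace CF.Cls

open Finset PowerSeries

/-- A submultiplicative weight. -/
structure SubW (ω : ℕ → ℝ) : Prop where
  zero : ω 0 = 1
  nonneg : ∀ a, 0 ≤ ω a
  mul : ∀ a b, ω (a + b) ≤ ω a * ω b

/-- Truncated weighted sum of the coefficients. -/
noncomputable def evw (ω : ℕ → ℝ) (n : ℕ) (f : ℕ⟦X⟧) : ℝ :=
  ∑ m ∈ range (n + 1), (coeff m f : ℕ) * ω m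

namespace SubW

variable {ω : ℕ → ℝ} (h : SubW ω)
include h

theorem comp (i : ℕ) : SubW fun d => ω (i * d) :=
  ⟨h.zero, fun _ => h.nonneg _, fun a b => by rw [mul_add]; exact h.mul _ _⟩

theorem le_pow (d : ℕ) : ω d ≤ ω 1 ^ d := by
  induction d with
  | zero => simp [h.zero]
  | succ d ih => exact (h.mul d 1).trans (mul_le_mul_of_nonneg_right ih (h.nonneg 1))

theorem evw_nonneg (n : ℕ) (f : ℕ⟦X⟧) : 0 ≤ evw ω n f :=
  sum_nonneg fun _ _ => mul_nonneg (Nat.cast_nonneg _) (h.nonneg _)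

theorem evw_mul_le (n : ℕ) (f g : ℕ⟦X⟧) : evw ω n (f * g) ≤ evw ω n f * evw ω n g := by
  have h0 := h.nonneg
  rw [evw, evw, evw, sum_mul_sum, ← sum_product']
  simp only [coeff_mul, Nat.cast_sum, sum_mul]
  rw [sum_sigma']
  refine le_trans ?_ (sum_le_sum_of_subset_of_nonneg
    (s := ((range (n + 1)).sigma fun m => antidiagonal m).image fun p => p.2) (fun p hp => ?_)
    fun x _ _ => by have := h0 x.1; have := h0 x.2; positivity)
  · rw [sum_image fun p hp p' hp' h => ?_]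
    · refine sum_le_sum fun p hp => ?_
      rw [← HasAntidiagonal.mem_antidiagonal.1 (mem_sigma.1 hp).2, mul_mul_mul_comm, Nat.cast_mul]
      exact mul_le_mul_of_nonneg_left (h.mul _ _) (by positivity)
    · have h1 := HasAntidiagonal.mem_antidiagonal.1 (mem_sigma.1 hp).2
      have h2 := HasAntidiagonal.mem_antidiagonal.1 (mem_sigma.1 hp').2
      exact Sigma.ext (by rw [← h1, ← h2, h]) (heq_of_eq h)
  · obtain ⟨r, hr, rfl⟩ := mem_image.1 hp
    have h1 := HasAntidiagonal.mem_antidiagonal.1 (mem_sigma.1 hr).2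
    have h2 := mem_range.1 (mem_sigma.1 hr).1
    simp only [mem_product, mem_range]; omega

theorem evw_mul_le' {n : ℕ} {f g : ℕ⟦X⟧} {a b : ℝ} (h1 : evw ω n f ≤ a) (h2 : evw ω n g ≤ b) :
    evw ω n (f * g) ≤ a * b :=
  (h.evw_mul_le n f g).trans (mul_le_mul h1 h2 (h.evw_nonneg _ _) ((h.evw_nonneg _ _).trans h1))

theorem evw_prod_le (n : ℕ) (f : ℕ → ℕ⟦X⟧) (b : ℕ → ℝ) (I : Finset ℕ)
    (h1 : ∀ i ∈ I, evw ω n (f i) ≤ b i) : evw ω n (∏ i ∈ I, f i) ≤ ∏ i ∈ I, b i := by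
  induction I using Finset.induction_on with
  | empty => simp [evw, coeff_one, sum_range_succ', h.zero]
  | insert j I hj ih =>
    rw [prod_insert hj, prod_insert hj]
    exact h.evw_mul_le' (h1 j (mem_insert_self _ _)) (ih fun i hi => h1 i (mem_insert_of_mem hi))

theorem evw_sp_le {i : ℕ} (hi : 0 < i) (n : ℕ) (a : ℕ → ℕ) :
    evw ω n (sp i a) ≤ ∑ d ∈ range (n + 1), (a d : ℝ) * ω (i * d) := by
  simp only [evw, sp, coeff_mk, Nat.cast_ite, Nat.cast_zero, ite_mul, zero_mul, ← sum_filter]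
  refine le_trans (le_of_eq ?_) (sum_le_sum_of_subset_of_nonneg
    (s := ((range (n + 1)).filter (i ∣ ·)).image (· / i)) (fun p hp => ?_)
    fun _ _ _ => mul_nonneg (Nat.cast_nonneg _) (h.nonneg _))
  · rw [sum_image fun p hp p' hp' h => ?_]
    · refine sum_congr rfl fun p hp => ?_
      rw [Nat.mul_div_cancel' (mem_filter.1 hp).2]
    · rw [← Nat.mul_div_cancel' (mem_filter.1 hp).2, ← Nat.mul_div_cancel' (mem_filter.1 hp').2]
      exact congrArg _ h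
  · obtain ⟨r, hr, rfl⟩ := mem_image.1 hp
    exact mem_range.2 ((Nat.div_le_self _ _).trans_lt (mem_range.1 (mem_filter.1 hr).1))

theorem evw_one_add_sq {a : ℝ} (ha : ω 1 ≤ a) (n : ℕ) : evw ω n ((1 + X) ^ 2) ≤ (1 + a) ^ 2 := by
  have h1 : evw ω n (1 + X) ≤ 1 + a := by
    rcases n with _ | n
    · simpa [evw, h.zero] using (h.nonneg 1).trans ha
    · rw [evw, sum_range_succ', sum_range_succ']
      simp [coeff_one, coeff_X, h.zero]
      linarith
  rw [sq, sq]; exact h.evw_mul_le' h1 h1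

omit h in
theorem geom_le {y z : ℝ} (h0 : 0 ≤ y) (h1 : y ≤ z) (h2 : z < 1) (n : ℕ) :
    ∑ d ∈ range n, y ^ d ≤ 1 / (1 - z) := by
  rw [le_div_iff₀ (by linarith)]
  refine (mul_le_mul_of_nonneg_left (show 1 - z ≤ 1 - y by linarith)
    (sum_nonneg fun _ _ => by positivity)).trans ?_
  rw [geom_sum_mul_neg]
  exact sub_le_self _ (by positivity)

theorem evw_PP {q : ℕ} {z : ℝ} (h1 : q * ω 2 ≤ z) (h2 : z < 1) (n : ℕ) :
    evw ω n (PP q) ≤ 1 / (1 - z) := by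
  refine (h.evw_sp_le two_pos n _).trans (le_trans (sum_le_sum fun d _ => ?_)
    (geom_le (mul_nonneg (Nat.cast_nonneg _) (h.nonneg 2)) h1 h2 _))
  rw [mul_pow, Nat.cast_pow]
  exact mul_le_mul_of_nonneg_left ((h.comp 2).le_pow d) (by positivity)

theorem evw_succ {z : ℝ} (h1 : ω 1 ≤ z) (h2 : z < 1) (n : ℕ) :
    evw ω n (PowerSeries.mk (· + 1)) ≤ (1 / (1 - z)) ^ 2 := by
  have h3 : evw ω n (PowerSeries.mk 1) ≤ 1 / (1 - z) :=
    le_trans (sum_le_sum fun d _ => by simpa using h.le_pow d) (geom_le (h.nonneg 1) h1 h2 _)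
  rw [show (PowerSeries.mk (· + 1) : ℕ⟦X⟧) = PowerSeries.mk 1 * PowerSeries.mk 1 by
    ext; simp [coeff_mul], sq]
  exact h.evw_mul_le' h3 h3

theorem coeff_mul_prod_le {n i₀ : ℕ} {g : ℕ⟦X⟧} {A M : ℝ} (hA : 0 ≤ A)
    (hg : ∀ m l, m + l = n → (coeff m g : ℕ) ≤ A * ω l) (f : ℕ → ℕ⟦X⟧) (b : ℕ → ℝ)
    (h1 : ∀ i, evw ω n (f (i₀ + i)) ≤ b i) (h2 : ∀ i, 1 ≤ b i)
    (h3 : ∀ N, ∏ k ∈ range N, b (2 * k) * b (2 * k + 1) ≤ M) :
    (coeff n (g * ∏ i ∈ Icc i₀ n, f i) : ℕ) ≤ A * M := by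
  have h4 : evw ω n (∏ i ∈ Icc i₀ n, f i) ≤ M := by
    rw [← Ico_add_one_right_eq_Icc, prod_Ico_eq_prod_range]
    refine (h.evw_prod_le n _ b _ fun i _ => h1 i).trans (le_trans ?_ (h3 (n + 1 - i₀)))
    have h5 : ∀ N, ∏ k ∈ range N, b (2 * k) * b (2 * k + 1) = ∏ k ∈ range (2 * N), b k := fun N => by
      induction N with
      | zero => rfl
      | succ N ih => rw [prod_range_succ, ih, mul_add 2 N 1, prod_range_succ, prod_range_succ, mul_assoc]
    rw [h5]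
    exact prod_le_prod_of_subset_of_one_le (range_mono (by omega))
      (fun i _ => zero_le_one.trans (h2 i)) fun i _ _ => h2 i
  refine le_trans ?_ (mul_le_mul_of_nonneg_left h4 hA)
  rw [mul_comm g, coeff_mul, Nat.cast_sum, evw, mul_sum, Nat.sum_antidiagonal_eq_sum_range_succ_mk]
  refine sum_le_sum fun m hm => ?_
  rw [Nat.cast_mul, mul_left_comm]
  exact mul_le_mul_of_nonneg_left (hg _ m (by have := mem_range.1 hm; omega)) (Nat.cast_nonneg _)

end SubW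

/-- A rational substitute for `q ^ (- l / 2)`. -/
noncomputable def om (q : ℕ) (l : ℕ) : ℝ := (if Even l then 1 else 0.5774) * (q : ℝ)⁻¹ ^ (l / 2)

theorem om_even (q k : ℕ) : om q (2 * k) = (q : ℝ)⁻¹ ^ k := by simp [om]

theorem om_odd (q k : ℕ) : om q (2 * k + 1) = 0.5774 * (q : ℝ)⁻¹ ^ k := by
  simp [om, Nat.even_add_one, show (2 * k + 1) / 2 = k by omega]

theorem inv_le_third {q : ℕ} (hq : 3 ≤ q) : (q : ℝ)⁻¹ ≤ 3⁻¹ :=
  inv_anti₀ (by norm_num) (by exact_mod_cast hq)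

theorem subW_om {q : ℕ} (hq : 3 ≤ q) : SubW (om q) := by
  refine ⟨by simp [om], fun a => by unfold om; split_ifs <;> positivity, fun a b => ?_⟩
  obtain ⟨i, rfl | rfl⟩ := Nat.even_or_odd' a <;> obtain ⟨j, rfl | rfl⟩ := Nat.even_or_odd' b
  · rw [← mul_add, om_even, om_even, om_even, pow_add]
  · rw [← add_assoc, ← mul_add, om_even, om_odd, om_odd, pow_add, mul_left_comm]
  · rw [add_right_comm, ← mul_add, om_even, om_odd, om_odd, pow_add, mul_assoc]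
  · rw [show 2 * i + 1 + (2 * j + 1) = 2 * (i + j + 1) by ring, om_even, om_odd, om_odd, pow_succ,
      pow_add]
    have h1 := inv_le_third hq
    have h2 : (0 : ℝ) ≤ (q : ℝ)⁻¹ ^ i * (q : ℝ)⁻¹ ^ j := by positivity
    nlinarith

theorem om_le {q : ℕ} (hq : 3 ≤ q) (l : ℕ) : om q l ≤ om 3 l :=
  mul_le_mul_of_nonneg_left (pow_le_pow_left₀ (by positivity) (inv_le_third hq) _)
    (by split_ifs <;> norm_num)

theorem evw_sp_PP {q : ℕ} (hq : 3 ≤ q) (i n : ℕ) :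
    evw (fun d => om q ((2 + i) * d)) n (PP q) ≤ 1 / (1 - 3⁻¹ ^ (i + 1)) := by
  refine ((subW_om hq).comp _).evw_PP ?_ (pow_lt_one₀ (by norm_num) (by norm_num) (by omega)) n
  rw [mul_comm (2 + i), om_even, add_comm 2, pow_succ' _ (i + 1), ← mul_assoc,
    mul_inv_cancel₀ (by positivity), one_mul]
  exact pow_le_pow_left₀ (by positivity) (inv_le_third hq) _

theorem prod_B_le (B : ℕ → ℝ) {M : ℝ} (h1 : ∀ k, 1 ≤ B k) (h2 : ∀ k (y : ℝ), y = 3⁻¹ ^ (k + 1) →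
    0 ≤ y → y ≤ 1 / 100 → B k ≤ (1 + 5 * y) / ((1 - 3 * y ^ 2) * (1 - y ^ 2)))
    (h3 : (∏ k ∈ range 5, B k) * (1 + 3 * 3⁻¹ ^ 5) ≤ M) (N : ℕ) : ∏ k ∈ range N, B k ≤ M := by
  refine prod_le_of_inv B (x := 3⁻¹) (c := 3) 5 (by norm_num) (by norm_num) h1 (fun i hi => ?_) h3 N
  have h4 : (3⁻¹ : ℝ) ^ (i + 1) ≤ 3⁻¹ ^ 5 := pow_le_pow_of_le_one (by norm_num) (by norm_num) (by omega)
  have h5 := h2 i _ rfl (by positivity) (h4.trans (by norm_num))
  have h6 : (0 : ℝ) ≤ 3⁻¹ ^ (i + 1) := by positivity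
  rw [show (3⁻¹ : ℝ) ^ i = 3 * 3⁻¹ ^ (i + 1) by ring]
  generalize (3⁻¹ : ℝ) ^ (i + 1) = y at h4 h5 h6
  norm_num at h4
  have h7 : y ^ 2 ≤ y / 100 := by nlinarith
  refine (mul_le_mul_of_nonneg_right h5 (by positivity)).trans ?_
  rw [div_mul_eq_mul_div, div_le_iff₀ (mul_pos (by linarith) (by linarith))]
  have h8 : 1 - y / 25 ≤ (1 - 3 * y ^ 2) * (1 - y ^ 2) := by nlinarith [sq_nonneg (y ^ 2)]
  refine le_trans ?_ (mul_le_mul_of_nonneg_left h8 (by positivity))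
  nlinarith

theorem sp_one (g : ℕ⟦X⟧) : (sp 1 fun d => coeff d g) = g := by ext; simp [sp]

theorem one_le_div_third (k : ℕ) {a : ℝ} (ha : 1 ≤ a) : 1 ≤ a * (1 / (1 - 3⁻¹ ^ (k + 1))) := by
  have h1 : (3⁻¹ : ℝ) ^ (k + 1) < 1 := pow_lt_one₀ (by norm_num) (by norm_num) (by omega)
  refine one_le_mul_of_one_le_of_one_le ha ((one_le_div₀ (by linarith)).2 ?_)
  exact sub_le_self _ (by positivity)

theorem coeff_GO_le {q n : ℕ} (hq : 3 ≤ q) (hn : 0 < n) (o : ℕ → Prop) [DecidablePred o] {A M : ℝ}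
    (hA : 0 ≤ A) (h1 : ∀ m l, m + l = n →
      (coeff m (if o 1 then (1 + X) ^ 2 * ((1 + X) ^ 2 * PP q) else PP q) : ℕ) ≤ A * om q l)
    (h2 : (∏ k ∈ range 5, (if o (2 * k + 2) then (1 + 3⁻¹ ^ (k + 1)) ^ 4 else 1) *
      (1 / (1 - 3⁻¹ ^ (2 * k + 1))) * ((if o (2 * k + 3) then (1 + 0.5774 * 3⁻¹ ^ (k + 1)) ^ 4
        else 1) * (1 / (1 - 3⁻¹ ^ (2 * k + 2))))) * (1 + 3 * 3⁻¹ ^ 5) ≤ M)
    (h3 : ∀ k, ¬ (o (2 * k + 2) ∧ o (2 * k + 3))) : (coeff n (GO q o n) : ℕ) ≤ A * M := by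
  rw [GO, ← insert_Icc_succ_left_eq_Icc hn, prod_insert (by simp), sp_one]
  have h4 : ∀ i, (1 : ℝ) ≤ (if o (2 + i) then (1 + om 3 (2 + i)) ^ 4 else 1) *
      (1 / (1 - 3⁻¹ ^ (i + 1))) := fun i => one_le_div_third i (by
    split_ifs
    exacts [one_le_pow₀ (le_add_of_nonneg_right ((subW_om le_rfl).nonneg _)), le_rfl])
  refine (subW_om hq).coeff_mul_prod_le hA h1 _ _ (fun i => ?_) h4 (prod_B_le _ (fun k =>
    one_le_mul_of_one_le_of_one_le (h4 _) (h4 _)) (fun k y hy h5 h6 => ?_) ?_)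
  · refine ((subW_om hq).evw_sp_le (by simp) n _).trans ?_
    change evw (fun d => om q ((2 + i) * d)) n (if o (2 + i) then _ else _) ≤ _
    have h5 := (subW_om hq).comp (2 + i)
    have h6 := h5.evw_one_add_sq ((mul_one (2 + i)).symm ▸ om_le hq (2 + i)) n
    split_ifs
    · exact (h5.evw_mul_le' h6 (h5.evw_mul_le' h6 (evw_sp_PP hq i n))).trans_eq (by ring)
    · exact (evw_sp_PP hq i n).trans_eq (one_mul _).symm
  · have h7 : y ^ 2 ≤ y / 100 := by nlinarith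
    have h8 : (1 + y) ^ 4 ≤ 1 + 5 * y := by nlinarith [pow_le_pow_left₀ (sq_nonneg y) h7 2]
    rw [show 2 + 2 * k = 2 * (k + 1) by ring, show 2 + (2 * k + 1) = 2 * (k + 1) + 1 by ring,
      om_even, om_odd, show (3⁻¹ : ℝ) ^ (2 * k + 1) = 3 * (3⁻¹ ^ (k + 1)) ^ 2 by ring,
      show (3⁻¹ : ℝ) ^ (2 * k + 1 + 1) = (3⁻¹ ^ (k + 1)) ^ 2 by ring, Nat.cast_ofNat, ← hy,
      mul_mul_mul_comm, one_div_mul_one_div, mul_one_div]
    refine div_le_div_of_nonneg_right ?_ (mul_pos (by linarith) (by linarith)).le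
    split_ifs with a1 a2
    · exact absurd ⟨a1, a2⟩ (h3 k)
    · linarith
    · exact (one_mul _).trans_le ((pow_le_pow_left₀ (by positivity) (by linarith) 4).trans h8)
    · linarith
  · convert h2 using 4 with k
    · rw [show 2 + 2 * k = 2 * (k + 1) by ring, om_even]; rfl
    · rw [show 2 + (2 * k + 1) = 2 * (k + 1) + 1 by ring, om_odd]; rfl

theorem coeff_PP_even (q k : ℕ) : coeff (2 * k) (PP q) = q ^ k := by simp [PP, sp]

theorem coeff_PP_odd (q k : ℕ) : coeff (2 * k + 1) (PP q) = 0 := by simp [PP, sp]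

theorem coeff_PP_le {q N : ℕ} (hq : 3 ≤ q) (m l : ℕ) (h : m + l = 2 * N) :
    ((coeff m (PP q) : ℕ) : ℝ) ≤ q ^ N * om q l := by
  obtain ⟨k, rfl | rfl⟩ := Nat.even_or_odd' m
  · obtain ⟨j, rfl, rfl⟩ : ∃ j, l = 2 * j ∧ N = k + j := ⟨N - k, by omega, by omega⟩
    rw [coeff_PP_even, om_even, pow_add, mul_assoc, ← mul_pow, mul_inv_cancel₀ (by positivity)]
    simp
  · rw [coeff_PP_odd, Nat.cast_zero]
    exact mul_nonneg (by positivity) ((subW_om hq).nonneg _)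

theorem coeff_orth {q : ℕ} (hq : 3 ≤ q) (k : ℕ) :
    9 * coeff (2 * k) ((1 + X) ^ 2 * ((1 + X) ^ 2 * PP q)) ≤ 28 * q ^ k ∧
      3 * coeff (2 * k + 1) ((1 + X) ^ 2 * ((1 + X) ^ 2 * PP q)) ≤ 16 * q ^ k := by
  rw [show (1 + X) ^ 2 * ((1 + X) ^ 2 * PP q) = PP q + 4 • (X ^ 1 * PP q) + 6 • (X ^ 2 * PP q) +
    4 • (X ^ 3 * PP q) + X ^ 4 * PP q by ring]
  simp only [map_add, map_nsmul, coeff_X_pow_mul', smul_eq_mul]
  rcases k with _ | _ | k
  · simp [PP, sp]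
  · simp [PP, sp]; omega
  · simp only [show ∀ j ≤ 4, j ≤ 2 * (k + 1 + 1) from fun j hj => by omega,
      show ∀ j ≤ 4, j ≤ 2 * (k + 1 + 1) + 1 from fun j hj => by omega, if_true, Nat.reduceLeDiff,
      show 2 * (k + 1 + 1) - 1 = 2 * (k + 1) + 1 by omega,
      show 2 * (k + 1 + 1) - 2 = 2 * (k + 1) by omega, show 2 * (k + 1 + 1) - 3 = 2 * k + 1 by omega,
      show 2 * (k + 1 + 1) - 4 = 2 * k by omega, Nat.add_sub_cancel,
      show 2 * (k + 1 + 1) + 1 - 2 = 2 * (k + 1) + 1 by omega,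
      show 2 * (k + 1 + 1) + 1 - 3 = 2 * (k + 1) by omega,
      show 2 * (k + 1 + 1) + 1 - 4 = 2 * k + 1 by omega, coeff_PP_even, coeff_PP_odd, pow_succ]
    have h1 := Nat.mul_le_mul_left (q ^ k) hq
    have h2 := Nat.mul_le_mul_left (q ^ k * q) hq
    omega

theorem pow_mul_inv_pow {q : ℕ} (hq : 3 ≤ q) (k j : ℕ) :
    (q : ℝ) ^ (k + j) * (q : ℝ)⁻¹ ^ j = q ^ k := by
  rw [pow_add, mul_assoc, ← mul_pow, mul_inv_cancel₀ (by positivity), one_pow, mul_one]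

theorem GO_sp {q N : ℕ} (hq : 3 ≤ q) (hN : 0 < N) :
    5 * coeff (2 * N) (GO q Even (2 * N)) ≤ 54 * q ^ N := by
  have h := coeff_GO_le hq (show 0 < 2 * N by omega) Even (A := q ^ N) (M := 10.8) (by positivity)
    (by simpa using coeff_PP_le hq) (by simp only [prod_range_succ]; norm_num [Nat.even_iff])
    (fun k => by simp [Nat.even_iff])
  have : (5 * (coeff (2 * N) (GO q Even (2 * N)) : ℕ) : ℝ) ≤ 54 * q ^ N := by linarith
  exact_mod_cast this

theorem GO_false {q N : ℕ} (hq : 3 ≤ q) (hN : 0 < N) :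
    100 * coeff (2 * N) (GO q (fun _ => False) (2 * N)) ≤ 181 * q ^ N := by
  have h := coeff_GO_le hq (show 0 < 2 * N by omega) (fun _ => False) (A := q ^ N) (M := 1.81)
    (by positivity)
    (by simpa using coeff_PP_le hq) (by simp only [prod_range_succ]; norm_num) (by simp)
  have : (100 * (coeff (2 * N) (GO q (fun _ => False) (2 * N)) : ℕ) : ℝ) ≤ 181 * q ^ N := by
    linarith
  exact_mod_cast this

theorem GO_odd {q n : ℕ} (hq : 3 ≤ q) (hn : 0 < n) {A : ℝ} (hA : 0 ≤ A)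
    (h1 : ∀ k l, 2 * k + l = n → 28 / 9 * (q : ℝ) ^ k ≤ A * om q l)
    (h2 : ∀ k l, 2 * k + 1 + l = n → 16 / 3 * (q : ℝ) ^ k ≤ A * om q l) :
    (coeff n (GO q Odd n) : ℕ) ≤ A * 5.31 := by
  refine coeff_GO_le hq hn Odd hA (fun m l h => ?_)
    (by simp only [prod_range_succ]; norm_num [Nat.odd_iff]) fun k => by simp [Nat.odd_iff]
  rw [if_pos odd_one]
  obtain ⟨k, rfl | rfl⟩ := Nat.even_or_odd' m
  · have h3 : (9 * (coeff (2 * k) ((1 + X) ^ 2 * ((1 + X) ^ 2 * PP q)) : ℕ) : ℝ) ≤ 28 * q ^ k := by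
      exact_mod_cast (coeff_orth hq k).1
    linarith [h1 k l h]
  · have h3 : (3 * (coeff (2 * k + 1) ((1 + X) ^ 2 * ((1 + X) ^ 2 * PP q)) : ℕ) : ℝ) ≤
        16 * q ^ k := by exact_mod_cast (coeff_orth hq k).2
    linarith [h2 k l h]

theorem GO_odd_even {q N : ℕ} (hq : 3 ≤ q) (hN : 0 < N) :
    100 * coeff (2 * N) (GO q Odd (2 * N)) ≤ 1652 * q ^ N := by
  have h := GO_odd hq (show 0 < 2 * N by omega) (A := 28 / 9 * q ^ N) (by positivity)
    (fun k l h => by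
      obtain ⟨j, rfl, rfl⟩ : ∃ j, l = 2 * j ∧ N = k + j := ⟨N - k, by omega, by omega⟩
      rw [om_even, mul_assoc, pow_mul_inv_pow hq]) fun k l h => by
      obtain ⟨j, rfl, rfl⟩ : ∃ j, l = 2 * j + 1 ∧ N = k + 1 + j :=
        ⟨N - k - 1, by omega, by omega⟩
      rw [om_odd, mul_mul_mul_comm, pow_mul_inv_pow hq, pow_succ]
      have h1 : (3 : ℝ) ≤ q := by exact_mod_cast hq
      have h2 : (0 : ℝ) ≤ q ^ k := by positivity
      nlinarith
  have : (100 * (coeff (2 * N) (GO q Odd (2 * N)) : ℕ) : ℝ) ≤ 1652 * q ^ N := by linarith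
  exact_mod_cast this

theorem GO_odd_odd {q : ℕ} (hq : 3 ≤ q) (N : ℕ) :
    100 * coeff (2 * N + 1) (GO q Odd (2 * N + 1)) ≤ 2863 * q ^ N := by
  have h0 : (0 : ℝ) ≤ q ^ N := by positivity
  have h := GO_odd hq (show 0 < 2 * N + 1 by omega) (A := 5.39 * q ^ N) (by positivity)
    (fun k l h => by
      obtain ⟨j, rfl, rfl⟩ : ∃ j, l = 2 * j + 1 ∧ N = k + j := ⟨N - k, by omega, by omega⟩
      rw [om_odd, mul_mul_mul_comm, pow_mul_inv_pow hq]
      exact mul_le_mul_of_nonneg_right (by norm_num) (by positivity)) fun k l h => by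
      obtain ⟨j, rfl, rfl⟩ : ∃ j, l = 2 * j ∧ N = k + j := ⟨N - k, by omega, by omega⟩
      rw [om_even, mul_assoc, pow_mul_inv_pow hq]
      exact mul_le_mul_of_nonneg_right (by norm_num) (by positivity)
  have : (100 * (coeff (2 * N + 1) (GO q Odd (2 * N + 1)) : ℕ) : ℝ) ≤ 2863 * q ^ N := by linarith
  exact_mod_cast this

theorem coeff_split {q : ℕ} (hq : 3 ≤ q) (k : ℕ) :
    20 * coeff (2 * k) (mk (· + 1) * sp 2 fun d => coeff d (PP q)) ≤ 23 * q ^ k ∧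
      coeff (2 * k + 1) (mk (· + 1) * sp 2 fun d => coeff d (PP q)) ≤ 2 * q ^ k := by
  have h1 : (sp 2 fun d => coeff d (PP q)) = 1 + q • (X ^ 4 * sp 2 fun d => coeff d (PP q)) := by
    ext m
    simp only [map_add, map_nsmul, coeff_X_pow_mul', coeff_one, sp, PP, coeff_mk, smul_eq_mul]
    rcases le_or_gt 4 m with h | h
    · obtain ⟨m, rfl⟩ := Nat.exists_eq_add_of_le' h
      simp [Nat.add_div_of_dvd_left, Nat.dvd_add_left, pow_succ']
    · interval_cases m <;> simp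
  generalize (sp 2 fun d => coeff d (PP q)) = R at h1
  have h2 : ∀ m, coeff m (mk (· + 1) * R) =
      m + 1 + q * if 4 ≤ m then coeff (m - 4) (mk (· + 1) * R) else 0 := fun m => by
    conv_lhs => rw [h1, mul_add, mul_smul_comm, mul_left_comm]
    simp only [map_add, map_nsmul, coeff_X_pow_mul', coeff_mk, smul_eq_mul, mul_one]
  induction k using Nat.twoStepInduction with
  | zero => simp [h2 0, h2 1]
  | one => simp [h2 2, h2 3]; omega
  | more k ih _ =>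
    have h3 : 1 + (k + 1) * 2 ≤ q ^ (k + 1) :=
      (one_add_mul_le_pow (show -2 ≤ (2 : ℤ) by omega) (k + 1) |> fun h => by exact_mod_cast h :
        1 + (k + 1) * 2 ≤ (1 + 2) ^ (k + 1)).trans (Nat.pow_le_pow_left hq _)
    rw [h2, h2 (2 * (k + 2) + 1), if_pos (by omega), if_pos (by omega),
      show 2 * (k + 2) - 4 = 2 * k by omega, show 2 * (k + 2) + 1 - 4 = 2 * k + 1 by omega]
    have h4 := Nat.mul_le_mul_left q ih.1
    have h5 := Nat.mul_le_mul_left q ih.2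
    have h6 := Nat.mul_le_mul_left (q ^ (k + 1)) hq
    rw [pow_succ q (k + 1)]
    rw [pow_succ] at *
    constructor <;> nlinarith

theorem GS_le {q N : ℕ} (hq : 3 ≤ q) (hN : 0 < N) :
    coeff (2 * N + 1) (GS q (2 * N + 1)) ≤ 4 * q ^ N := by
  rw [GS, ← insert_Icc_succ_left_eq_Icc (by omega), prod_insert (by simp), sp_one,
    ← insert_Icc_succ_left_eq_Icc (by simp; omega), prod_insert (by simp), ← mul_assoc,
    if_pos odd_one, if_neg (by simp [Nat.odd_iff])]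
  have h4 : ∀ i, (1 : ℝ) ≤ if Odd (3 + i) then (1 / (1 - om 3 (3 + i))) ^ 2 else
      1 / (1 - 3⁻¹ ^ (1 + i + 1)) := fun i => by
    split_ifs with h
    · obtain ⟨k, hk⟩ := h
      have h1 : (3 : ℝ)⁻¹ ^ k ≤ 1 := pow_le_one₀ (by norm_num) (by norm_num)
      rw [hk, om_odd, Nat.cast_ofNat]
      exact one_le_pow₀ ((one_le_div₀ (by linarith)).2 (sub_le_self _ (by positivity)))
    · simpa using one_le_div_third (1 + i) le_rfl
  have h := (subW_om hq).coeff_mul_prod_le (n := 2 * N + 1) (i₀ := 3) (A := 2 * q ^ N) (M := 2)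
    (g := mk (· + 1) * sp 2 fun d => coeff d (PP q)) (by positivity) (fun m l h => ?_)
    (fun i => sp i fun d => coeff d (if Odd i then mk (· + 1) else PP q)) _ (fun i => ?_) h4
    (prod_B_le _ (fun k => one_le_mul_of_one_le_of_one_le (h4 _) (h4 _)) (fun k y hy h5 h6 => ?_)
      (by simp only [prod_range_succ]; norm_num [Nat.odd_iff, om, Nat.even_iff]))
  · exact_mod_cast h.trans_eq (show _ = (4 : ℝ) * q ^ N by ring)
  · obtain ⟨k, rfl | rfl⟩ := Nat.even_or_odd' m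
    · obtain ⟨j, rfl, rfl⟩ : ∃ j, l = 2 * j + 1 ∧ N = k + j := ⟨N - k, by omega, by omega⟩
      have h1 : (20 * (coeff (2 * k) (mk (· + 1) * sp 2 fun d => coeff d (PP q)) : ℕ) : ℝ) ≤
          23 * q ^ k := by exact_mod_cast (coeff_split hq k).1
      have h2 : (0 : ℝ) ≤ q ^ k := by positivity
      rw [om_odd, mul_mul_mul_comm, pow_mul_inv_pow hq]
      linarith
    · obtain ⟨j, rfl, rfl⟩ : ∃ j, l = 2 * j ∧ N = k + j := ⟨N - k, by omega, by omega⟩
      rw [om_even, mul_assoc, pow_mul_inv_pow hq]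
      exact_mod_cast (coeff_split hq k).2
  · refine ((subW_om hq).evw_sp_le (by simp) _ _).trans ?_
    change evw (fun d => om q ((3 + i) * d)) _ (if Odd (3 + i) then _ else _) ≤ _
    split_ifs with h
    · refine ((subW_om hq).comp _).evw_succ ((mul_one (3 + i)).symm ▸ om_le hq (3 + i)) ?_ _
      obtain ⟨k, hk⟩ := h
      have h1 : (3 : ℝ)⁻¹ ^ k ≤ 1 := pow_le_one₀ (by norm_num) (by norm_num)
      rw [hk, om_odd, Nat.cast_ofNat]
      linarith
    · rw [show 3 + i = 2 + (1 + i) by ring]; exact evw_sp_PP hq _ _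
  · have h7 : y ^ 2 ≤ y / 100 := by nlinarith
    rw [if_pos ⟨k + 1, by ring⟩, if_neg (by simp [Nat.odd_iff]; omega),
      show 3 + 2 * k = 2 * (k + 1) + 1 by ring, om_odd, Nat.cast_ofNat,
      show (3⁻¹ : ℝ) ^ (1 + (2 * k + 1) + 1) = (3⁻¹ ^ (k + 1)) ^ 2 / 3 by ring, ← hy, one_div_pow,
      one_div_mul_one_div, div_le_div_iff₀ (mul_pos (pow_pos (by linarith) _) (by linarith))
        (mul_pos (by linarith) (by linarith)), one_mul]
    have h8 : 1 - 2 * y ≤ (1 - 0.5774 * y) ^ 2 * (1 - y ^ 2 / 3) := by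
      have : 1 - 1.2 * y ≤ (1 - 0.5774 * y) ^ 2 := by nlinarith
      refine le_trans ?_ (mul_le_mul_of_nonneg_right this (by linarith))
      nlinarith
    refine le_trans ?_ (mul_le_mul_of_nonneg_left h8 (by positivity))
    nlinarith [mul_nonneg (show 0 ≤ 1 - 3 * y ^ 2 by linarith) (sq_nonneg y)]

end CF.Cls
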