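/-
Upper bounds for the class numbers of symplectic and orthogonal groups in odd characteristic.
-/
import Cfsg.Agent.Cls.KO5
import Cfsg.Agent.Fgs2.Count

set_option autoImplicit false

namespace CF.Cls

open Polynomial Module CF.Geom QuadraticMap CF.Fgs2

universe u

section Count

variable {G : Type*} [Group G] [Finite G]

theorem card_conj_congr {H : Type*} [Group H] (e : G ≃* H) :
    Nat.card (ConjClasses G) = Nat.card (ConjClasses H) := by
  have := Finite.of_equiv G e.toEquiv
  exact le_antisymm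
    (Nat.card_le_card_of_surjective _ (ConjClasses.map_surjective (f := e.symm.toMonoidHom)
      e.symm.surjective))
    (Nat.card_le_card_of_surjective _ (ConjClasses.map_surjective (f := e.toMonoidHom) e.surjective))

theorem card_le_classes {β γ : Type*} (inv : G → β) (h : ∀ g g', IsConj g g' → inv g = inv g')
    (φ : γ → β) (hφ : Function.Injective φ) (h1 : ∀ c, ∃ g, inv g = φ c) :
    Nat.card γ ≤ Nat.card (ConjClasses G) := by
  choose g hg using h1
  exact Nat.card_le_card_of_injective (fun c => ConjClasses.mk (g c)) fun a b e =>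
    hφ ((hg a).symm.trans ((h _ _ (ConjClasses.mk_eq_mk_iff_isConj.1 e)).trans (hg b)))

theorem two_cp (S : Set G) {N H : Subgroup G} (h : N ≤ H) :
    2 * cp S N ≤ cp S H + cp {x | Subgroup.centralizer {x} ⊓ H ≤ N} H := by
  classical
  have := Fintype.ofFinite G
  rw [← S.coe_toFinset, ← Set.coe_toFinset {x | Subgroup.centralizer {x} ⊓ H ≤ N},
    cp_eq_sum_subgroup, cp_eq_sum_subgroup, cp_eq_sum_subgroup, Finset.mul_sum]
  refine le_trans ?_ (Nat.add_le_add_left (Finset.sum_le_sum_of_subset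
    (s := S.toFinset.filter fun x => Subgroup.centralizer {x} ⊓ H ≤ N) fun x hx => by
      simpa using (Finset.mem_filter.1 hx).2) _)
  rw [Finset.sum_filter, ← Finset.sum_add_distrib]
  refine Finset.sum_le_sum fun x _ => ?_
  have h1 : Subgroup.centralizer {x} ⊓ N ≤ Subgroup.centralizer {x} ⊓ H := inf_le_inf_left _ h
  split_ifs with h2
  · rw [two_mul]; exact Nat.add_le_add (Subgroup.card_le_of_le h1) (Subgroup.card_le_of_le h1)
  · obtain ⟨k, hk⟩ := Subgroup.card_dvd_of_le h1
    rw [add_zero, hk, mul_comm]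
    refine Nat.mul_le_mul_left _ ?_
    rcases k with _ | _ | k
    · exact absurd hk Nat.card_pos.ne'
    · exact absurd ((Subgroup.eq_of_le_of_card_ge h1 (by omega)).ge.trans inf_le_right) h2
    · omega

theorem four_mul_card_le {N H : Subgroup G} [H.Normal] (h : N ≤ H) {z : G} (h1 : z ∈ H)
    (h2 : z ∉ N) (h3 : ∀ x, Commute z x) (h4 : N.index = 4) :
    4 * Nat.card (ConjClasses N) ≤ Nat.card (ConjClasses G) + 3 * Nat.card {C : ConjClasses G //
      ∃ x, ConjClasses.mk x = C ∧ Subgroup.centralizer {x} ≤ H} := by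
  have a1 := two_cp N h
  have a2 := two_cp H h
  have a3 := two_cp H (le_top (a := H))
  have a4 := two_cp Set.univ (le_top (a := H))
  have a5 : cp {x | Subgroup.centralizer {x} ⊓ H ≤ N} H = 0 :=
    Nat.card_eq_zero.2 (.inl ⟨fun x => h2 (x.2.1 ⟨Subgroup.mem_centralizer_singleton_iff.2 (h3 _),
      h1⟩)⟩)
  have a6 := card_classes_mul {x | Subgroup.centralizer {x} ≤ H} fun x hx y hy w hw => by
    obtain ⟨c, rfl⟩ := isConj_iff.1 hy
    rw [Subgroup.mem_centralizer_singleton_iff] at hw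
    refine (‹H.Normal›.mem_comm_iff (a := c⁻¹) (b := w * c)).1 (hx ?_) |> fun h => by simpa using h
    rw [Subgroup.mem_centralizer_singleton_iff]
    calc _ = c⁻¹ * (w * (c * x * c⁻¹)) * c := by group
      _ = _ := by rw [hw]; group
  have a7 := card_conjClasses_mul (G := N)
  simp only [inf_top_eq, Subgroup.coe_top] at a3 a4
  rw [cp_subgroup_univ] at a7
  rw [cp_comm (H : Set G) N] at a2
  rw [cp_comm Set.univ, ← card_conjClasses_mul] at a4
  rw [Nat.card_congr (Equiv.subtypeEquivRight fun _ => exists_congr fun _ => and_comm)]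
  refine Nat.le_of_mul_le_mul_right ?_ (Nat.card_pos (α := G))
  erw [add_mul, mul_assoc 3, a6]
  rw [← N.index_mul_card, h4, mul_mul_mul_comm, a7] at *
  omega

end Count

variable {F : Type u} [Field F] {V : Type u} [AddCommGroup V] [Module F V] [FiniteDimensional F V]

/-- The triple of a symplectic transformation. -/
abbrev spTri {B : LinearMap.BilinForm F V} (hB : B.Nondegenerate) (hA : B.IsAlt) (g : SpG B) :
    Tri F (-1) := ⟨V, B, g.1.toLinearMap, eh_alt hB hA, mem_SpG.1 g.2⟩

/-- The triple of an orthogonal transformation. -/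
abbrev oTri {Q : QuadraticForm F V} (hQ : (polarBilin Q).Nondegenerate) (g : OG Q) : Tri F 1 :=
  ⟨V, polarBilin Q, g.1.toLinearMap, eh_polar hQ, pres_polar (mem_OG.1 g.2)⟩

theorem isConj_of_oTri (h2 : (2 : F) ≠ 0) {Q : QuadraticForm F V}
    (hQ : (polarBilin Q).Nondegenerate) (g g' : OG Q) (h : (oTri hQ g).Iso (oTri hQ g')) :
    IsConj g g' := by
  obtain ⟨Z, z1, z2⟩ := h
  refine isConj_sub_of (mem_OG.2 fun v => mul_left_cancel₀ h2 ?_) z2
  simpa [polar_self] using z1 v v

variable [Finite F]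

theorem three_le_card (h2 : (2 : F) ≠ 0) : 3 ≤ Nat.card F := by
  have := Fintype.ofFinite F
  have h1 : 1 < Nat.card F := Finite.one_lt_card
  obtain ⟨k, hk⟩ := odd_card_of_two_ne_zero (F := F) h2
  rw [← Nat.card_eq_fintype_card] at hk
  omega

theorem exists_charP (F : Type*) [Field F] [Finite F] : ∃ p : ℕ, ∃ _ : Fact p.Prime, CharP F p := by
  obtain ⟨p, hp⟩ := CharP.exists F
  exact ⟨p, ⟨CharP.char_is_prime F p⟩, hp⟩

theorem card_SpG_le (h2 : (2 : F) ≠ 0) {B : LinearMap.BilinForm F V} (hB : B.Nondegenerate)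
    (hA : B.IsAlt) {N : ℕ} (hN : 0 < N) (hV : finrank F V = 2 * N) :
    5 * Nat.card (ConjClasses (SpG B)) ≤ 54 * Nat.card F ^ N := by
  obtain ⟨p, _, _⟩ := exists_charP F
  have := Module.finite_of_finite F (M := V)
  have : Finite (V ≃ₗ[F] V) := DFunLike.finite _
  obtain ⟨s, h1, h3⟩ := card_le_sum_gg _ (fun _ => True) _
    (card_fiber_tri (K := AlgebraicClosure F) p h2 (.inr rfl) (spTri hB hA) (fun _ => hV.le)
      fun g g' ⟨Z, z1, z2⟩ => isConj_sub_of (mem_SpG.2 z1) z2)
  rw [card_conj_eq]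
  refine (Nat.mul_le_mul_left _ (h3.trans (sum_two_pow_le p h2 (o := Even) (fun j => ?_) s
    fun J hJ => ?_))).trans (GO_sp (three_le_card h2) hN)
  · rcases j.even_or_odd with h | h
    · simp [h.neg_one_pow, Nat.even_add_one, h, neg_eq_iff_add_eq_zero, one_add_one_eq_two, h2]
    · simp [h.neg_one_pow, h.add_one]
  · obtain ⟨-, g, rfl⟩ := h1 J hJ
    exact ⟨hV ▸ ia_ev p (eh_alt hB hA) (mem_SpG.1 g.2), by
      simpa using par_ev_alt (K := AlgebraicClosure F) hB hA (mem_SpG.1 g.2)⟩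

open scoped _root_.Classical in
theorem card_OG_le (h2 : (2 : F) ≠ 0) {Q : QuadraticForm F V} (hQ : (polarBilin Q).Nondegenerate) :
    ∃ s : Finset (Multiset ((AlgebraicClosure F)ˣ × ℕ)),
      (∀ J ∈ s, IA (Nat.card F) (finrank F V) J ∧ Par (fun _ => True) J) ∧
      2 * Nat.card (ConjClasses (OG Q)) ≤
        PowerSeries.coeff (finrank F V) (GO (Nat.card F) Odd (finrank F V)) + s.card := by
  obtain ⟨p, _, _⟩ := exists_charP F
  have := Module.finite_of_finite F (M := V)
  have : Finite (V ≃ₗ[F] V) := DFunLike.finite _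
  obtain ⟨s, h1, h3⟩ := card_le_sum_gg (fun g : OG Q => ev (AlgebraicClosure F) g.1.toLinearMap)
    (fun _ => True) _ fun _ => le_rfl
  have h4 : ∀ J ∈ s, IA (Nat.card F) (finrank F V) J ∧ Par Even J := fun J hJ => by
    obtain ⟨-, g, rfl⟩ := h1 J hJ
    exact ⟨ia_OG p hQ g, par_ev_symm p h2 (eh_polar hQ) (pres_polar (mem_OG.1 g.2))⟩
  refine ⟨s.filter fun J => OJ (1 : F) (finrank F V) J = ∅, fun J hJ => ?_, ?_⟩
  · obtain ⟨h5, h6⟩ := Finset.mem_filter.1 hJ
    refine ⟨(h4 J h5).1, fun x hx h7 _ => (h4 J h5).2 x hx h7 (Nat.not_odd_iff_even.1 ?_)⟩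
    rintro ⟨k, hk⟩
    obtain ⟨b, hb⟩ : ∃ b, sg b = x.1 := (eq_or_of_sq_units h7).elim (fun h => ⟨true, h.symm⟩)
      fun h => ⟨false, h.symm⟩
    have h8 := (h4 J h5).1.dim ▸ le_dm hx
    exact Finset.eq_empty_iff_forall_notMem.1 h6 (b, 2 * k)
      (mem_OJ.2 ⟨by omega, by simp, by rw [hb, ← hk]; exact hx⟩)
  rw [card_conj_eq, Finset.card_filter]
  refine (Nat.mul_le_mul_left _ h3).trans (le_trans ?_ (Nat.add_le_add_right
    (sum_two_pow_le p h2 (ε := 1) (o := Odd) (fun j => ?_) s fun J hJ => by simpa using h4 J hJ) _))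
  · rw [Finset.mul_sum, ← Finset.sum_add_distrib]
    exact Finset.sum_le_sum fun J _ => card_fiber_tri_half p h2 (oTri hQ) (fun _ => le_rfl)
      (isConj_of_oTri h2 hQ) (fun _ _ => rfl) J
  · rcases j.even_or_odd with h | h
    · simp [h.neg_one_pow, h.add_one]
    · simp [h.neg_one_pow, Nat.odd_add_one, h, neg_eq_iff_add_eq_zero, one_add_one_eq_two, h2]

theorem card_OG_even (h2 : (2 : F) ≠ 0) {Q : QuadraticForm F V} (hQ : (polarBilin Q).Nondegenerate)
    {N : ℕ} (hN : 0 < N) (hV : finrank F V = 2 * N) :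
    2 * Nat.card (ConjClasses (OG Q)) ≤ 19 * Nat.card F ^ N := by
  obtain ⟨p, _, _⟩ := exists_charP F
  obtain ⟨s, h1, h3⟩ := card_OG_le h2 hQ
  have h4 := card_le_GO p s h1
  rw [hV] at h3 h4
  have := GO_false (three_le_card h2) hN
  have := GO_odd_even (three_le_card h2) hN
  omega

theorem card_OG_odd (h2 : (2 : F) ≠ 0) {Q : QuadraticForm F V} (hQ : (polarBilin Q).Nondegenerate)
    {N : ℕ} (hV : finrank F V = 2 * N + 1) :
    200 * Nat.card (ConjClasses (OG Q)) ≤ 2863 * Nat.card F ^ N := by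
  classical
  obtain ⟨p, _, _⟩ := exists_charP F
  obtain ⟨s, h1, h3⟩ := card_OG_le h2 hQ
  obtain rfl : s = ∅ := Finset.eq_empty_of_forall_notMem fun J hJ => by
    have hT := ta_ac (F := F) p
    obtain ⟨h4, h5⟩ := h1 J hJ
    rw [← Multiset.filter_add_not (fun x => x.1 ^ 2 = 1) J] at h4
    obtain ⟨h6, h7⟩ := h4.of_add (hT.ia_filter (pq_card p) (h1 J hJ).1)
    have h8 := (hT.even_dm (pq_card p) h6 fun x hx => (Multiset.mem_filter.1 hx).2).1
    have h9 : Even (dm (J.filter fun x => x.1 ^ 2 = 1)) :=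
      par_induction (R := fun _ => True) (P := fun J => Even (dm J)) (by simp)
        (fun _ _ _ _ h => (h trivial).elim) (fun x J _ _ h => by
          simpa [add_assoc] using (Even.add_self x.2).add h) _
        (fun x hx => ⟨(Multiset.mem_filter.1 hx).2, (h1 J hJ).1.pos x (Multiset.mem_of_mem_filter hx)⟩)
        fun x hx h _ => by
          open scoped _root_.Classical in
          rw [@Multiset.count_filter_of_pos _ (_) (fun x : _ × ℕ => x.1 ^ 2 = 1) _ _ _ h]
          exact h5 x (Multiset.mem_of_mem_filter hx) h trivial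
    rw [hV] at h7
    exact (Nat.not_even_iff_odd.2 (odd_two_mul_add_one N)) (h7 ▸ h9.add h8)
  rw [hV] at h3
  have := GO_odd_odd (three_le_card h2) N
  simp only [Finset.card_empty] at h3
  omega

end CF.Cls
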