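/-
Isometries of quadratic forms in characteristic two: bundled data and free pieces.
-/
import Cfsg.Agent.Cls.KO6

set_option autoImplicit false

namespace CF.Cls

open Polynomial Module CF.Geom QuadraticMap

universe u

variable {F : Type u} [Field F]

section Gen

variable {M : Type*} [AddCommGroup M] [Module F M] {g : End F M}

/-- Powers of `g - 1`. -/
def nn (g : End F M) (k : ℕ) : End F M := (g - 1) ^ k

@[simp] theorem nn_zero (x : M) : nn g 0 x = x := rfl

theorem nn_nn (a b : ℕ) (x : M) : nn g a (nn g b x) = nn g (a + b) x := by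
  rw [nn, nn, nn, pow_add, End.mul_apply]

theorem nn_one (x : M) : nn g 1 x = (g - 1) x := by rw [nn, pow_one]

theorem nn_succ (a : ℕ) (x : M) : nn g (a + 1) x = (g - 1) (nn g a x) := by
  rw [← nn_one, nn_nn, add_comm]

theorem nn_of_le {m k : ℕ} {x : M} (h : nn g m x = 0) (hk : m ≤ k) : nn g k x = 0 := by
  obtain ⟨j, rfl⟩ := Nat.exists_eq_add_of_le' hk
  rw [← nn_nn, h, map_zero]

variable {D : QuadraticForm F M}

theorem quad_eq_zero_of_span {S : Set M} (hS : Submodule.span F S = ⊤) (h1 : ∀ x ∈ S, D x = 0)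
    (h2 : ∀ x ∈ S, ∀ y ∈ S, polar D x y = 0) (v : M) : D v = 0 := by
  have h4 : polarBilin D = 0 := LinearMap.ext_on hS fun x hx => LinearMap.ext_on hS (h2 x hx)
  have h3 : ∀ x y, polar D x y = 0 := LinearMap.congr_fun₂ h4
  induction hS.ge (Submodule.mem_top (x := v)) using Submodule.span_induction with
  | mem x hx => exact h1 x hx
  | zero => exact map_zero D
  | add x y _ _ hx hy => rw [quad_add, hx, hy, h3]; simp
  | smul c x _ hx => rw [quad_smul, hx, mul_zero]

variable [CharP F 2] (hD : ∀ v, D (g v) = D v)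
include hD

theorem polar_nil (x y : M) : polar D ((g - 1) x) ((g - 1) y) =
    polar D ((g - 1) x) y + polar D x ((g - 1) y) := by
  have h : polar D (g x) (g y) = polar D x y := pres_polar hD x y
  simp only [LinearMap.sub_apply, End.one_apply, polar_sub_left, polar_sub_right, h]
  linear_combination (2 * polar D x y - polar D (g x) y - polar D x (g y)) *
    (CharTwo.two_eq_zero (R := F))

theorem quad_nil (x : M) : D ((g - 1) x) = polar D x ((g - 1) x) := by
  simp only [LinearMap.sub_apply, End.one_apply, quad_sub, hD, polar_sub_right, polar_self,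
    polar_comm D (g x), nsmul_eq_mul, Nat.cast_ofNat]
  linear_combination (2 * D x - polar D x (g x)) * (CharTwo.two_eq_zero (R := F))

theorem polar_pow_self {v : M} (h : ∀ i, D (nn g i v) = 0) (i j : ℕ) :
    polar D (nn g i v) (nn g j v) = 0 := by
  have h1 : ∀ d i, polar D (nn g i v) (nn g (i + d) v) = 0 := fun d => by
    induction d using Nat.twoStepInduction with
    | zero => intro i; simp [polar_self, h]
    | one => intro i; rw [nn_succ, ← quad_nil hD, ← nn_succ, h]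
    | more d ih1 ih2 =>
      intro i
      have := polar_nil hD (nn g i v) (nn g (i + (d + 1)) v)
      rw [← nn_succ, ← nn_succ, show i + (d + 1) + 1 = i + 1 + (d + 1) by omega, ih2,
        show i + (d + 1) = i + 1 + d by omega, ih1, zero_add] at this
      rw [show i + (d + 2) = i + 1 + (d + 1) by omega, ← this]
  rcases le_total i j with h2 | h2
  · obtain ⟨d, rfl⟩ := Nat.exists_eq_add_of_le h2; exact h1 d i
  · obtain ⟨d, rfl⟩ := Nat.exists_eq_add_of_le h2; rw [polar_comm]; exact h1 d j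

theorem polar_pow_pair {v w : M} {m : ℕ} (hm : nn g m w = 0)
    (h : ∀ j, polar D v (nn g j w) = 0) (i j : ℕ) : polar D (nn g i v) (nn g j w) = 0 := by
  induction i generalizing j with
  | zero => exact h j
  | succ i ih =>
    have h1 : ∀ k, polar D (nn g (i + 1) v) (nn g (j + k) w) =
        polar D (nn g (i + 1) v) (nn g j w) := fun k => by
      induction k with
      | zero => rfl
      | succ k ihk =>
        have := polar_nil hD (nn g i v) (nn g (j + k) w)
        rwa [← nn_succ, ← nn_succ, ih, add_zero, ihk] at this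
    rw [← h1 m, nn_of_le hm (Nat.le_add_left m j), polar_zero_right]

end Gen

theorem span_FM (m r : ℕ) : Submodule.span F (Set.range fun x : Fin r × ℕ =>
    nn (fE F m r) x.2 (Pi.single x.1 1)) = ⊤ := by
  set S := Submodule.span F (Set.range fun x : Fin r × ℕ => nn (fE F m r) x.2 (Pi.single x.1 1))
  have h : ∀ k j, j + k = m + 1 → ∀ x, nn (fE F m r) j x ∈ S := fun k => by
    induction k with
    | zero => intro j hj x; rw [show j = m + 1 from hj, nn, fE_pow]; exact S.zero_mem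
    | succ k ih =>
      intro j hj x
      obtain ⟨y, hy⟩ := exists_of_evM_eq_zero (pos_const m r)
        (m := x - ∑ a, evM (pos_const m r) x a • (Pi.single a 1 : FM F m r)) (by
          simp only [map_sub, map_sum, map_smul, evM_single]
          ext; simp [Pi.single_apply])
      rw [sub_eq_iff_eq_add.1 hy, map_add, ← nn_one, nn_nn, map_sum]
      refine S.add_mem (ih _ (by omega) _) (S.sum_mem fun a _ => ?_)
      rw [map_smul]
      exact S.smul_mem _ (Submodule.subset_span ⟨(a, j), rfl⟩)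
  exact eq_top_iff.2 fun x _ => h (m + 1) 0 (by omega) x

/-- A space with a nondegenerate quadratic form and an isometry. -/
structure QT (F : Type u) [Field F] : Type (u + 1) extends Tri F 1 where
  Q : QuadraticForm F V
  pol : ∀ x y, polar Q x y = B x y
  inv : ∀ v, Q (f v) = Q v

namespace QT

/-- Powers of `f - 1`. -/
abbrev N (T : QT F) (k : ℕ) : End F T.V := nn T.f k

/-- Isomorphism. -/
def Iso (T T' : QT F) : Prop :=
  ∃ Z : T.V ≃ₗ[F] T'.V, (∀ v, T'.Q (Z v) = T.Q v) ∧ ∀ v, Z (T.f v) = T'.f (Z v)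

/-- Orthogonal sum. -/
abbrev add (T S : QT F) : QT F :=
  ⟨T.toTri.add S.toTri, T.Q.prod S.Q, fun x y => by simp [T.pol, S.pol], fun v => by
    simp [T.inv, S.inv]⟩

/-- Embeddings. -/
structure Emb (A T : QT F) (φ : A.V →ₗ[F] T.V) : Prop where
  f : ∀ x, φ (A.f x) = T.f (φ x)
  Q : ∀ x, T.Q (φ x) = A.Q x

variable {T T' T'' S S' A : QT F}

theorem Emb.B {φ : A.V →ₗ[F] T.V} (h : Emb A T φ) (x y : A.V) : T.B (φ x) (φ y) = A.B x y := by
  simp only [← T.pol, ← A.pol, polar, ← map_add φ, h.Q]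

theorem Emb.N {φ : A.V →ₗ[F] T.V} (h : Emb A T φ) (k : ℕ) (x : A.V) :
    T.N k (φ x) = φ (A.N k x) := (sub_one_pow_intertwine φ h.f k x).symm

theorem Emb.eq_zero {φ : A.V →ₗ[F] T.V} (h : Emb A T φ) {x : A.V} (hx : φ x = 0) : x = 0 :=
  A.eh.nondeg x fun y => by rw [← h.B, hx]; simp

theorem Iso.tri (h : Iso T T') : T.toTri.Iso T'.toTri :=
  h.imp fun Z h => ⟨Emb.B (φ := Z.toLinearMap) ⟨h.2, h.1⟩, h.2⟩

theorem Iso.refl (T : QT F) : Iso T T := ⟨.refl F _, fun _ => rfl, fun _ => rfl⟩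

theorem Iso.symm (h : Iso T T') : Iso T' T := by
  obtain ⟨Z, h1, h2⟩ := h
  exact ⟨Z.symm, fun u => by simp [← h1], fun v => Z.injective (by simp [h2])⟩

theorem Iso.trans (h : Iso T T') (h' : Iso T' T'') : Iso T T'' := by
  obtain ⟨Z, h1, h2⟩ := h
  obtain ⟨Y, h3, h4⟩ := h'
  exact ⟨Z.trans Y, fun u => by simp [h1, h3], fun v => by simp [h2, h4]⟩

theorem Iso.add (h : Iso T T') (h' : Iso S S') : Iso (T.add S) (T'.add S') := by
  obtain ⟨Z, h1, h2⟩ := h
  obtain ⟨Y, h3, h4⟩ := h'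
  exact ⟨Z.prodCongr Y, fun u => congrArg₂ (· + ·) (h1 _) (h3 _), fun v => Prod.ext (h2 _) (h4 _)⟩

theorem iso_comm (T S : QT F) : Iso (T.add S) (S.add T) :=
  ⟨.prodComm F _ _, fun _ => add_comm _ _, fun _ => rfl⟩

theorem iso_assoc (T S U : QT F) : Iso ((T.add S).add U) (T.add (S.add U)) :=
  ⟨.prodAssoc F _ _ _, fun _ => (add_assoc _ _ _).symm, fun _ => rfl⟩

theorem iso_left_comm (T S U : QT F) : Iso (T.add (S.add U)) (S.add (T.add U)) :=
  (iso_assoc _ _ _).symm.trans (((iso_comm _ _).add (.refl _)).trans (iso_assoc _ _ _))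

theorem add_N (k : ℕ) (x : T.V) (y : S.V) : (T.add S).N k (x, y) = (T.N k x, S.N k y) :=
  Prod.ext (sub_one_pow_intertwine (LinearMap.fst F T.V S.V) (f := (T.add S).f) (fun _ => rfl) k _)
    (sub_one_pow_intertwine (LinearMap.snd F T.V S.V) (f := (T.add S).f) (fun _ => rfl) k _)

theorem add_Q (x : T.V) (y : S.V) : (T.add S).Q (x, y) = T.Q x + S.Q y := rfl

theorem add_B (x x' : T.V) (y y' : S.V) : (T.add S).B (x, y) (x', y') = T.B x x' + S.B y y' := rfl

theorem B_comm (x y : T.V) : T.B x y = T.B y x := by rw [← T.pol, ← T.pol, polar_comm]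

theorem Q_add (x y : T.V) : T.Q (x + y) = T.Q x + T.Q y + T.B x y := by rw [quad_add, T.pol]

theorem nondeg (T : QT F) : (polarBilin T.Q).Nondegenerate :=
  nondegenerate_of_left _ fun x hx => T.eh.nondeg x fun y => by rw [← T.pol, hx]

/-- Pull back along an embedding. -/
abbrev pb (T : QT F) {M : Type u} [AddCommGroup M] [Module F M]
    [FiniteDimensional F M] (φ : M →ₗ[F] T.V) {g : End F M} (hφ : ∀ x, φ (g x) = T.f (φ x))
    (h : ∀ x, (∀ y, T.B (φ x) (φ y) = 0) → x = 0) : QT F :=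
  ⟨⟨M, pull T.B φ, g, T.eh.pull φ h, fun u v => by rw [pull_apply, hφ, hφ, T.pres, pull_apply]⟩,
    T.Q.comp φ, fun x y => by rw [pull_apply, ← T.pol]; simp [polar], fun v => by
      simp [hφ, T.inv]⟩

theorem exists_split (T : QT F) {M : Type u} [AddCommGroup M] [Module F M]
    [FiniteDimensional F M] (φ : M →ₗ[F] T.V) {g : End F M} (hφ : ∀ x, φ (g x) = T.f (φ x))
    (h : ∀ x, (∀ y, T.B (φ x) (φ y) = 0) → x = 0) : ∃ S : QT F, Iso T ((T.pb φ hφ h).add S) := by
  have h0 : Function.Injective φ :=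
    (injective_iff_map_eq_zero φ).2 fun x hx => h x fun y => by simp [hx]
  set U := perp T.B (LinearMap.range φ)
  have h1 : ∀ x, ∀ y ∈ U, φ x + y = 0 → x = 0 := fun x y hy e => h x fun z => T.eh.refl (by
    rw [eq_neg_of_add_eq_zero_left e, map_neg, hy _ ⟨z, rfl⟩, neg_zero])
  let E : (M × U) →ₗ[F] T.V := φ.coprod U.subtype
  have h2 : Function.Injective E := (injective_iff_map_eq_zero E).2 fun x hx => by
    have h3 := h1 x.1 x.2 x.2.2 hx
    exact Prod.ext h3 (Subtype.ext (by simpa [E, h3] using hx))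
  have h3 : finrank F (M × U) = finrank F T.V := by
    rw [finrank_prod, ← LinearMap.finrank_range_of_inj h0]
    exact finrank_perp_add T.eh.surj T.B T.eh.nondeg _
  have h4 := (LinearMap.injective_iff_surjective_of_finrank_eq_finrank h3).1 h2
  have h5 : Function.Surjective g := LinearMap.injective_iff_surjective.1
    fun x y e => h0 (T.eh.pres_injective T.pres (by rw [← hφ, ← hφ, e]))
  have h6 : ∀ y ∈ U, T.f y ∈ U := by
    rintro y hy _ ⟨x, rfl⟩
    obtain ⟨x, rfl⟩ := h5 x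
    rw [hφ, T.pres]; exact hy _ ⟨x, rfl⟩
  have h7 : ∀ y : U, (∀ z : U, T.B (U.subtype y) (U.subtype z) = 0) → y = 0 := fun y hy =>
    Subtype.ext (T.eh.nondeg _ fun v => by
      obtain ⟨⟨x, z⟩, rfl⟩ := h4 v
      change T.B y (φ x + z) = 0
      rw [map_add, T.eh.refl (y.2 _ ⟨x, rfl⟩), zero_add]; exact hy z)
  have h8 : ∀ u : M × U, T.Q (E u) = T.Q (φ u.1) + T.Q u.2 := fun u => by
    have := Q_add (φ u.1) u.2
    rwa [show T.B (φ u.1) u.2 = 0 from u.2.2 _ ⟨u.1, rfl⟩, add_zero] at this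
  have h9 : ∀ v : M × U, E (g v.1, T.f.restrict h6 v.2) = T.f (E v) := fun v => by
    change φ (g v.1) + T.f v.2 = T.f (φ v.1 + v.2)
    rw [hφ, map_add]
  exact ⟨T.pb U.subtype (g := T.f.restrict h6) (fun _ => rfl) h7,
    Iso.symm ⟨.ofBijective E ⟨h2, h4⟩, h8, h9⟩⟩

variable [CharP F 2]

theorem B_self (x : T.V) : T.B x x = 0 := by
  rw [← T.pol, polar_self, nsmul_eq_mul, Nat.cast_ofNat, CharTwo.two_eq_zero, zero_mul]

theorem Q_succ (i : ℕ) (x : T.V) : T.Q (T.N (i + 1) x) = T.B (T.N i x) (T.N (i + 1) x) := by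
  rw [nn_succ, quad_nil T.inv, T.pol]

theorem B_succ (i j : ℕ) (x y : T.V) : T.B (T.N (i + 1) x) (T.N (j + 1) y) =
    T.B (T.N (i + 1) x) (T.N j y) + T.B (T.N i x) (T.N (j + 1) y) := by
  simp only [nn_succ, ← T.pol, polar_nil T.inv]

theorem B_shift {m a b : ℕ} {y : T.V} (hy : T.N m y = 0) (h : m ≤ a + b + 1) (x : T.V) :
    T.B (T.N a x) (T.N b y) = T.B x (T.N (a + b) y) := by
  obtain ⟨z, hz⟩ := ((End.isUnit_iff _).1 (T.unit.pow a)).2 (T.N b y)
  have h1 : (T.f ^ a) (T.N a z) = T.N (a + b) y := by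
    rw [← nn_nn, ← hz, ← End.mul_apply, ← End.mul_apply]
    exact LinearMap.congr_fun (((Commute.refl T.f).sub_right (Commute.one_right _)).pow_pow a a).eq z
  have h2 : T.f (T.N (a + b) y) = T.N (a + b) y := by
    have := nn_of_le hy h
    rwa [nn_succ, LinearMap.sub_apply, sub_eq_zero] at this
  have h3 : ∀ k : ℕ, (T.f ^ k) (T.N (a + b) y) = T.N (a + b) y := fun k => by
    induction k with
    | zero => rfl
    | succ k ih => rw [pow_succ, End.mul_apply, h2, ih]
  have h4 := T.pres.sub_one_pow a x z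
  rw [CharTwo.neg_eq, one_pow, one_mul, hz] at h4
  rw [← T.eh.pres_injective (T.pres.pow a) (h1.trans (h3 a).symm)]
  exact h4

theorem B_zero {m a b : ℕ} {y : T.V} (hy : T.N m y = 0) (h : m ≤ a + b) (x : T.V) :
    T.B (T.N a x) (T.N b y) = 0 := by
  rw [B_shift hy (by omega), nn_of_le hy h, map_zero]

theorem Q_top {m i : ℕ} {y : T.V} (hy : T.N m y = 0) (h : m ≤ 2 * i + 2) :
    T.Q (T.N (i + 1) y) = T.B y (T.N (2 * i + 1) y) := by
  rw [Q_succ, B_shift hy (by omega), show i + (i + 1) = 2 * i + 1 by omega]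

theorem exists_model (T : QT F) {m r : ℕ} {e : Fin r → T.V} (hN : ∀ a, T.N (m + 1) (e a) = 0)
    (hd : (gram (T.tf m) e).det ≠ 0) :
    ∃ φ : FM F m r →ₗ[F] T.V, (∀ x, φ (fE F m r x) = T.f (φ x)) ∧ (∀ a, φ (Pi.single a 1) = e a) ∧
      ∀ x, (∀ y, T.B (φ x) (φ y) = 0) → x = 0 := by
  obtain ⟨φ, h1, h2⟩ : ∃ φ : FM F m r →ₗ[F] T.V, (∀ x, φ (fE F m r x) = T.f (φ x)) ∧
      ∀ a, φ (Pi.single a 1) = e a := exists_hom (fun _ : Fin r => (X - 1 : F[X]) ^ (m + 1)) T.f e
    fun l => by rw [aeval_X_sub_one_pow]; exact hN l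
  have h3 : ∀ k x, φ (nn (fE F m r) k x) = T.N k (φ x) := sub_one_pow_intertwine φ h1
  have h4 : ∀ x b, T.B (φ x) (T.N m (e b)) =
      Matrix.vecMul (evM (pos_const m r) x) (gram (T.tf m) e) b := fun x b => by
    obtain ⟨y, hy⟩ := exists_of_evM_eq_zero (pos_const m r)
      (m := x - ∑ a, evM (pos_const m r) x a • (Pi.single a 1 : FM F m r)) (by
        simp only [map_sub, map_sum, map_smul, evM_single]
        ext; simp [Pi.single_apply])
    have h5 := h3 1 y
    rw [nn_one, ← hy, map_sub, sub_eq_iff_eq_add] at h5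
    rw [h5, map_add, LinearMap.add_apply, B_zero (hN b) (by omega)]
    simp [h2, Matrix.vecMul, dotProduct, Tri.tf_apply, nn]
  refine ⟨φ, h1, h2, fun x hx => ?_⟩
  have h5 : ∀ j ≤ m + 1, ∃ y, x = nn (fE F m r) j y := fun j hj => by
    induction j with
    | zero => exact ⟨x, rfl⟩
    | succ j ih =>
      obtain ⟨y, rfl⟩ := ih (by omega)
      obtain ⟨z, rfl⟩ := exists_of_evM_eq_zero (pos_const m r) (m := y)
        (Matrix.eq_zero_of_vecMul_eq_zero hd (funext fun b => by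
          have h6 := hx (nn (fE F m r) (m - j) (Pi.single b 1))
          rw [h3, h3, h2, B_shift (hN b) (by omega), Nat.add_sub_cancel' (by omega)] at h6
          rw [← h4]; exact h6))
      exact ⟨z, by rw [← nn_one, nn_nn]⟩
  obtain ⟨y, rfl⟩ := h5 _ le_rfl
  rw [nn, fE_pow]; rfl

theorem split_gen (T : QT F) {m r : ℕ} {e : Fin r → T.V} (hN : ∀ a, T.N (m + 1) (e a) = 0)
    (hd : (gram (T.tf m) e).det ≠ 0) : ∃ (A S : QT F) (φ : A.V →ₗ[F] T.V) (e' : Fin r → A.V),
      Emb A T φ ∧ (∀ a, φ (e' a) = e a) ∧ finrank F A.V = (m + 1) * r ∧ Iso T (A.add S) := by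
  obtain ⟨φ, h1, h2, h3⟩ := T.exists_model hN hd
  obtain ⟨S, hS⟩ := T.exists_split φ h1 h3
  exact ⟨_, S, φ, _, ⟨h1, fun _ => rfl⟩, h2, finrank_FM m r, hS⟩

theorem exists_equiv_gen (T : QT F) {m r : ℕ} {e : Fin r → T.V} (hN : ∀ a, T.N (m + 1) (e a) = 0)
    (hd : (gram (T.tf m) e).det ≠ 0) (hr : finrank F T.V = (m + 1) * r) :
    ∃ φ : FM F m r ≃ₗ[F] T.V, (∀ x, φ (fE F m r x) = T.f (φ x)) ∧ ∀ a, φ (Pi.single a 1) = e a := by
  obtain ⟨φ, h1, h2, h3⟩ := T.exists_model hN hd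
  have h5 : Function.Injective φ :=
    (injective_iff_map_eq_zero φ).2 fun x hx => h3 x fun y => by simp [hx]
  exact ⟨.ofBijective φ ⟨h5, (LinearMap.injective_iff_surjective_of_finrank_eq_finrank
    ((finrank_FM m r).trans hr.symm)).1 h5⟩, h1, h2⟩

theorem free_gen (T : QT F) {m r : ℕ} {e : Fin r → T.V} (hN : ∀ a, T.N (m + 1) (e a) = 0)
    (hd : (gram (T.tf m) e).det ≠ 0) (hr : finrank F T.V = (m + 1) * r) :
    Tri.Free m r T.toTri := by
  obtain ⟨φ, h1, -⟩ := T.exists_equiv_gen hN hd hr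
  refine ⟨LinearMap.ext fun v => ?_, hr, e, hd⟩
  obtain ⟨x, rfl⟩ := φ.surjective v
  exact (sub_one_pow_intertwine φ.toLinearMap h1 _ x).symm.trans (by rw [fE_pow]; simp)

theorem iso_gen {m r : ℕ} {e : Fin r → T.V} {e' : Fin r → T'.V} (hN : ∀ a, T.N (m + 1) (e a) = 0)
    (hN' : ∀ a, T'.N (m + 1) (e' a) = 0) (hd : (gram (T.tf m) e).det ≠ 0)
    (hd' : (gram (T'.tf m) e').det ≠ 0) (hr : finrank F T.V = (m + 1) * r)
    (hr' : finrank F T'.V = (m + 1) * r) (h1 : ∀ a i, T'.Q (T'.N i (e' a)) = T.Q (T.N i (e a)))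
    (h2 : ∀ a b, a < b → ∀ j, T'.B (e' a) (T'.N j (e' b)) = T.B (e a) (T.N j (e b))) :
    Iso T T' := by
  obtain ⟨φ, a1, a2⟩ := T.exists_equiv_gen hN hd hr
  obtain ⟨ψ, b1, b2⟩ := T'.exists_equiv_gen hN' hd' hr'
  have a3 : ∀ k x, φ (nn (fE F m r) k x) = T.N k (φ x) := sub_one_pow_intertwine φ.toLinearMap a1
  have b3 : ∀ k x, ψ (nn (fE F m r) k x) = T'.N k (ψ x) := sub_one_pow_intertwine ψ.toLinearMap b1
  let D := T'.Q.comp ψ.toLinearMap - T.Q.comp φ.toLinearMap
  have d1 : ∀ x, D x = T'.Q (ψ x) - T.Q (φ x) := fun _ => rfl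
  have d2 : ∀ x y, polar D x y = T'.B (ψ x) (ψ y) - T.B (φ x) (φ y) := fun x y => by
    simp only [polar, d1, map_add, Q_add]; ring
  have d3 : ∀ x, D (fE F m r x) = D x := fun x => by rw [d1, d1, a1, b1, T.inv, T'.inv]
  have d4 : ∀ a i, D (nn (fE F m r) i (Pi.single a 1)) = 0 := fun a i => by
    rw [d1, a3, b3, a2, b2, h1, sub_self]
  have d5 : ∀ a b, a < b → ∀ i j, polar D (nn (fE F m r) i (Pi.single a 1))
      (nn (fE F m r) j (Pi.single b 1)) = 0 := fun a b h =>
    polar_pow_pair d3 (m := m + 1) (by rw [nn, fE_pow]; rfl) fun j => by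
      rw [d2, a3, b3, a2, a2, b2, b2, h2 a b h, sub_self]
  have d6 := quad_eq_zero_of_span (D := D) (span_FM m r) (by rintro _ ⟨x, rfl⟩; exact d4 _ _) (by
    rintro _ ⟨⟨a, i⟩, rfl⟩ _ ⟨⟨b, j⟩, rfl⟩
    rcases lt_trichotomy a b with h | rfl | h
    exacts [d5 a b h i j, polar_pow_self d3 (d4 a) i j, (polar_comm _ _ _).trans (d5 b a h j i)])
  refine ⟨φ.symm.trans ψ, fun v => ?_, fun v => ?_⟩
  · obtain ⟨x, rfl⟩ := φ.surjective v
    simpa [d1, sub_eq_zero] using d6 x
  · obtain ⟨x, rfl⟩ := φ.surjective v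
    simp [← a1, b1]

end QT

end CF.Cls
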