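/-
Indecomposable unipotent isometries in characteristic two: normal forms.
-/
import Cfsg.Agent.Cls.KE1

set_option autoImplicit false

namespace CF.Cls

open Polynomial Module CF.Geom QuadraticMap

universe u

variable {F : Type u} [Field F]

variable (F) in
/-- An element which is not of the form `t ^ 2 + t`, or zero. -/
noncomputable def alc : Bool → F
  | true => Classical.epsilon fun α : F => ∀ t : F, t ^ 2 + t + α ≠ 0
  | false => 0

@[simp] theorem alc_false : alc F false = 0 := rfl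

theorem two_eq [CharP F 2] : (2 : F) = 0 := CharTwo.two_eq_zero

theorem alc_true [Finite F] [CharP F 2] (t : F) : t ^ 2 + t + alc F true ≠ 0 := by
  refine Classical.epsilon_spec (p := fun α : F => ∀ t : F, t ^ 2 + t + α ≠ 0) ?_ t
  by_contra! h
  have h1 : Function.Surjective fun t : F => t ^ 2 + t := fun a => by
    obtain ⟨t, ht⟩ := h a
    exact ⟨t, by linear_combination ht - a * two_eq (F := F)⟩
  exact zero_ne_one (Finite.injective_iff_surjective.2 h1 (a₁ := 0) (a₂ := 1) (by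
    simpa using by linear_combination -two_eq (F := F)))

theorem exists_as [Finite F] [CharP F 2] (a : F) :
    ∃ t c, a + t + t ^ 2 = alc F c ∧ (a = 0 → c = false) := by
  by_cases h : ∃ t, t ^ 2 + t + a = 0
  · obtain ⟨t, ht⟩ := h
    exact ⟨t, false, by rw [alc_false]; linear_combination ht, fun _ => rfl⟩
  · push Not at h
    obtain ⟨t, ht⟩ := exists_sub_sq_of_no_root h alc_true
    refine ⟨t, true, ?_, fun h0 => (h 0 (by simp [h0])).elim⟩
    linear_combination ht + (t ^ 2 + 2 * a * (t - t ^ 2)) * two_eq (F := F)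

theorem exists_sqrt [Finite F] [CharP F 2] (a : F) : ∃ s : F, s ^ 2 = a :=
  (frobeniusEquiv F 2).surjective a

namespace QT

variable {T T' A : QT F} {k : ℕ} {c : Bool}

/-- Generator of a cyclic block. -/
def VD (T : QT F) (k : ℕ) (c : Bool) (v : T.V) : Prop := T.N (2 * k + 2) v = 0 ∧
  ∀ i, T.Q (T.N i v) = if i = k + 1 then 1 else if i = k then alc F c else 0

/-- Generators of a block of rank two, normalised in degrees at least `d`. -/
structure WP (T : QT F) (k : ℕ) (c : Bool) (d : ℕ) (v w : T.V) : Prop where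
  nv : T.N (k + 1) v = 0
  nw : T.N (k + 1) w = 0
  b : ∀ j, d ≤ j → T.B v (T.N j w) = if j = k then 1 else 0
  qv : ∀ i, d ≤ 2 * i → T.Q (T.N i v) = if 2 * i = k then 1 else 0
  qw : ∀ i, d ≤ 2 * i → T.Q (T.N i w) = if 2 * i = k then alc F c else 0

theorem Q_smul (a : F) (i : ℕ) (x : T.V) : T.Q (T.N i (a • x)) = a ^ 2 * T.Q (T.N i x) := by
  rw [map_smul, quad_smul]

variable [CharP F 2]

theorem Q_high {m i : ℕ} {y : T.V} (hy : T.N m y = 0) (h : m + 1 ≤ 2 * i) :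
    T.Q (T.N i y) = 0 := by
  obtain ⟨i, rfl⟩ : ∃ j, i = j + 1 := ⟨i - 1, by omega⟩
  rw [Q_top hy (by omega), nn_of_le hy (by omega), map_zero]

theorem Q_mod {m i j : ℕ} {y : T.V} (hy : T.N m y = 0) (h : m ≤ 2 * i + j + 1) (x : T.V) (t : F) :
    T.Q (T.N i (x + t • T.N j y)) =
      T.Q (T.N i x) + t * T.B x (T.N (2 * i + j) y) + t ^ 2 * T.Q (T.N (i + j) y) := by
  rw [map_add, Q_add, Q_smul, map_smul, map_smul, nn_nn, B_shift hy (by omega),
    show i + (i + j) = 2 * i + j by omega, smul_eq_mul]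
  ring

theorem tau_symm {x y : T.V} (hy : T.N (k + 1) y = 0) : T.B x (T.N k y) = T.B y (T.N k x) := by
  simpa [B_comm y] using (B_shift (a := k) (b := 0) hy le_rfl x).symm

theorem tau_even {i : ℕ} {y : T.V} (hy : T.N (2 * i + 1) y = 0) : T.B y (T.N (2 * i) y) = 0 := by
  rw [two_mul, ← B_shift hy (by omega), B_self]

theorem VD.tau {v : T.V} (h : T.VD k c v) : T.B v (T.N (2 * k + 1) v) = 1 := by
  rw [← Q_top h.1 le_rfl, h.2, if_pos rfl]

theorem norm_V [Finite F] {v : T.V} (hv : T.N (2 * k + 2) v = 0) (hg : T.Q (T.N (k + 1) v) ≠ 0) :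
    ∃ c w, T.VD k c w ∧ (T.Q (T.N k v) = 0 → c = false) := by
  obtain ⟨s, hs⟩ := exists_sqrt (T.Q (T.N (k + 1) v))⁻¹
  obtain ⟨t, c, h1, h2⟩ := exists_as (T.Q (T.N k (s • v)))
  have h3 : T.N (2 * k + 2) (s • v) = 0 := by rw [map_smul, hv, smul_zero]
  have h4 : T.Q (T.N (k + 1) (s • v)) = 1 := by rw [Q_smul, hs, inv_mul_cancel₀ hg]
  refine ⟨c, ?_⟩
  suffices ∀ e d, d + e = k → ∃ w, T.N (2 * k + 2) w = 0 ∧ ∀ i, d ≤ i →
      T.Q (T.N i w) = if i = k + 1 then 1 else if i = k then alc F c else 0 by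
    obtain ⟨w, h5, h6⟩ := this k 0 (by omega)
    exact ⟨w, ⟨h5, fun i => h6 i i.zero_le⟩, fun h => h2 (by rw [Q_smul, h, mul_zero])⟩
  generalize s • v = v at h1 h3 h4
  intro e
  induction e with
  | zero =>
    rintro d rfl
    have h5 : T.N (2 * d + 2) (v + t • T.N 1 v) = 0 := by
      rw [map_add, map_smul, nn_nn, nn_of_le h3 (k := 2 * d + 2 + 1) (by omega)]; simpa using h3
    refine ⟨_, h5, fun i hi => ?_⟩
    simp only [add_zero] at *
    split_ifs with a1 a2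
    · rw [a1, Q_mod h3 (by omega), h4, Q_high h3 (by omega),
        nn_of_le h3 (k := 2 * (d + 1) + 1) (by omega)]; simp
    · rw [a2, Q_mod h3 (by omega), h4, ← Q_top h3 le_rfl, h4, ← h1]; ring
    · exact Q_high h5 (by omega)
  | succ e ih =>
    intro d hd
    obtain ⟨w, h5, h6⟩ := ih (d + 1) (by omega)
    refine ⟨w + T.Q (T.N d w) • T.N (2 * e + 3) w, ?_, fun i hi => ?_⟩
    · rw [map_add, map_smul, nn_nn, nn_of_le h5 (k := 2 * k + 2 + _) (by omega)]; simpa using h5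
    rw [Q_mod h5 (by omega), Q_high h5 (i := i + _) (by omega), mul_zero, add_zero]
    rcases hi.eq_or_lt with rfl | hi
    · rw [show 2 * d + (2 * e + 3) = 2 * k + 1 by omega, ← Q_top h5 le_rfl, h6 (k + 1) (by omega),
        if_pos rfl, if_neg (by omega), if_neg (by omega), mul_one, CharTwo.add_self_eq_zero]
    · rw [nn_of_le h5 (k := 2 * i + _) (by omega), map_zero, mul_zero, add_zero, h6 i hi]

theorem tau_self {d : ℕ} {v : T.V} {a : F} (hd : d ≤ k + 1) (hv : T.N (k + 1) v = 0)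
    (h : ∀ i, d ≤ 2 * i → T.Q (T.N i v) = if 2 * i = k then a else 0) : T.B v (T.N k v) = 0 := by
  obtain ⟨i, rfl | rfl⟩ := k.even_or_odd'
  · exact tau_even hv
  · rw [← Q_top hv le_rfl, h _ (by omega), if_neg (by omega)]

theorem WP.step {d : ℕ} {v w : T.V} (h : T.WP k c (d + 1) v w) (hd : d < k) :
    ∃ v' w', T.WP k c d v' w' := by
  obtain ⟨j, rfl⟩ : ∃ j, k = d + (j + 1) := ⟨k - d - 1, by omega⟩
  have t1 := tau_self (by omega) h.nv h.qv
  have t2 := tau_self (by omega) h.nw h.qw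
  have t3 := (h.b _ (by omega)).trans (if_pos rfl)
  have t4 := (tau_symm h.nv).trans t3
  have z1 := fun l (hl : d + (j + 1) + 1 ≤ l) => nn_of_le h.nv hl
  have z2 := fun l (hl : d + (j + 1) + 1 ≤ l) => nn_of_le h.nw hl
  have q1 : ∀ i, d ≤ 2 * i → T.Q (T.N (i + (j + 1)) v) = 0 := fun i hi => by
    rw [h.qv _ (by omega), if_neg (by omega)]
  have q2 : ∀ i, d ≤ 2 * i → T.Q (T.N (i + (j + 1)) w) = 0 := fun i hi => by
    rw [h.qw _ (by omega), if_neg (by omega)]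
  refine ⟨v + T.Q (T.N (d / 2) v) • T.N (j + 1) w, w + T.Q (T.N (d / 2) w) • T.N (j + 1) v +
    T.B v (T.N d w) • T.N (j + 1) w, ?_, ?_, fun e he => ?_, fun i hi => ?_, fun i hi => ?_⟩
  · simp [nn_nn, z1, z2]
  · simp [nn_nn, z1, z2]
  · simp only [map_add, map_smul, nn_nn, LinearMap.add_apply, LinearMap.smul_apply, smul_eq_mul]
    rw [B_zero h.nv (by omega), B_zero h.nw (b := e + _) (by omega), B_shift h.nw (by omega)]
    rcases he.eq_or_lt with rfl | he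
    · rw [add_comm (j + 1), t1, t2, t3, if_neg (by omega)]
      linear_combination T.B v (T.N d w) * two_eq (F := F)
    · rw [z1 (e + _) (by omega), z2 (e + _) (by omega), z2 (j + 1 + e) (by omega), h.b e he]; simp
  · rw [Q_mod h.nw (by omega), q2 i hi]
    rcases hi.eq_or_lt with rfl | hi
    · rw [t3, if_neg (by omega), Nat.mul_div_cancel_left _ two_pos]
      linear_combination T.Q (T.N i v) * two_eq (F := F)
    · rw [z2 _ (by omega), h.qv i hi]; simp
  · rw [Q_mod h.nw (by omega), Q_mod h.nv (by omega), q1 i hi, q2 i hi]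
    simp only [map_add, map_smul, LinearMap.add_apply, LinearMap.smul_apply, smul_eq_mul]
    rw [B_zero h.nw (by omega)]
    rcases hi.eq_or_lt with rfl | hi
    · rw [t2, t4, if_neg (by omega), Nat.mul_div_cancel_left _ two_pos]
      linear_combination T.Q (T.N i w) * two_eq (F := F)
    · rw [z1 (2 * i + _) (by omega), z2 (2 * i + _) (by omega), h.qw i hi]; simp

theorem WP.zero {v w : T.V} (h : T.WP k c k v w) : ∃ v' w', T.WP k c 0 v' w' := by
  have : ∀ e d, d + e = k → ∃ v' w', T.WP k c d v' w' := fun e => by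
    induction e with
    | zero => rintro d rfl; exact ⟨v, w, h⟩
    | succ e ih =>
      intro d hd
      obtain ⟨v', w', h'⟩ := ih (d + 1) (by omega)
      exact h'.step (by omega)
  exact this k 0 (by omega)

theorem q_base {v : T.V} {a : F} (hv : T.N (k + 1) v = 0) (h2 : T.B v (T.N k v) = 0)
    (h4 : ∀ i, 2 * i = k → T.Q (T.N i v) = a) (i : ℕ) (hi : k ≤ 2 * i) :
    T.Q (T.N i v) = if 2 * i = k then a else 0 := by
  split_ifs with h
  · exact h4 i h
  by_cases h5 : 2 * i = k + 1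
  · obtain ⟨i, rfl⟩ : ∃ j, i = j + 1 := ⟨i - 1, by omega⟩
    rw [Q_top hv (by omega), show 2 * i + 1 = k by omega, h2]
  · exact Q_high hv (by omega)

theorem wp_base {v w : T.V} (hv : T.N (k + 1) v = 0) (hw : T.N (k + 1) w = 0)
    (h1 : T.B v (T.N k w) = 1) (h2 : T.B v (T.N k v) = 0) (h3 : T.B w (T.N k w) = 0)
    (h4 : ∀ i, 2 * i = k → T.Q (T.N i v) = 1) (h5 : ∀ i, 2 * i = k → T.Q (T.N i w) = alc F c) :
    ∃ v' w', T.WP k c 0 v' w' := by
  refine WP.zero ⟨hv, hw, fun j hj => ?_, q_base hv h2 h4, q_base hw h3 h5⟩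
  split_ifs with h
  · rw [h, h1]
  · rw [nn_of_le hw (by omega), map_zero]

theorem norm_W [Finite F] {v w : T.V} (hv : T.N (k + 1) v = 0) (hw : T.N (k + 1) w = 0)
    (h1 : T.B v (T.N k w) ≠ 0) (h2 : T.B v (T.N k v) = 0) (h3 : T.B w (T.N k w) = 0) :
    ∃ c v' w', T.WP k c 0 v' w' ∧ ((∀ i, 2 * i = k → T.Q (T.N i w) = 0) → c = false) := by
  wlog h4 : T.B v (T.N k w) = 1 generalizing v
  · exact this (v := (T.B v (T.N k w))⁻¹ • v) (by simp [hv]) (by simp [h1]) (by simp [h2])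
      (by simp [h1])
  obtain ⟨i, rfl | rfl⟩ := k.even_or_odd'
  swap
  · obtain ⟨v', w', h⟩ := wp_base (c := false) hv hw h4 h2 h3 (by omega) (by omega)
    exact ⟨false, v', w', h, fun _ => rfl⟩
  have h5 : ∀ (P : ℕ → Prop), P i → ∀ j, 2 * j = 2 * i → P j := fun P h j hj => by
    rwa [show j = i by omega]
  by_cases h6 : T.Q (T.N i w) = 0
  · have h7 : T.N (2 * i + 1) (v + (T.Q (T.N i v) + 1) • T.N 0 w) = 0 := by simp [hv, hw]
    obtain ⟨v', w', h⟩ := wp_base (c := false) h7 hw (by simp [h4, h3]) (tau_even h7) h3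
      (h5 _ (by
        rw [Q_mod hw (by omega), add_zero, add_zero, h4, h6]
        linear_combination T.Q (T.N i v) * two_eq (F := F))) (h5 _ h6)
    exact ⟨false, v', w', h, fun _ => rfl⟩
  obtain ⟨s, hs⟩ := exists_sqrt (T.Q (T.N i w))
  have h7 : s ≠ 0 := by rintro rfl; exact h6 (by simpa using hs.symm)
  obtain ⟨t, c, h8, -⟩ := exists_as (T.Q (T.N i (s • v)))
  have h9 : T.N (2 * i + 1) (s⁻¹ • w) = 0 := by simp [hw]
  have h10 : T.N (2 * i + 1) (s • v + t • T.N 0 (s⁻¹ • w)) = 0 := by simp [hv, hw]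
  have h11 : T.Q (T.N i (s⁻¹ • w)) = 1 := by rw [Q_smul, ← hs, ← mul_pow, inv_mul_cancel₀ h7, one_pow]
  obtain ⟨v', w', h⟩ := wp_base (c := c) h9 h10 (by simp [h3, tau_symm hv, h4, h7]) (tau_even h9)
    (tau_even h10) (h5 _ h11) (h5 _ (by
      rw [Q_mod h9 (by omega), add_zero, add_zero, h11, ← h8]; simp [h4, h7]))
  exact ⟨c, v', w', h, fun h => (h6 (h i rfl)).elim⟩

end QT

/-- Labels of blocks. -/
structure Blk where
  v : Bool
  k : ℕ
  c : Bool
  deriving DecidableEq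

namespace QT

variable {T T' A : QT F} {k : ℕ} {c : Bool} {b : Blk}

/-- Blocks. -/
def IsBlk (b : Blk) (T : QT F) : Prop := finrank F T.V = 2 * (b.k + 1) ∧
  (b.v = true → ∃ v, T.VD b.k b.c v) ∧ (b.v = false → ∃ v w, T.WP b.k b.c 0 v w)

theorem IsBlk.vd (h : IsBlk ⟨true, k, c⟩ T) : ∃ v, T.VD k c v := h.2.1 rfl

theorem IsBlk.wd (h : IsBlk ⟨false, k, c⟩ T) : ∃ v w, T.WP k c 0 v w := h.2.2 rfl

variable [CharP F 2]

theorem VD.det {v : T.V} (h : T.VD k c v) : (gram (T.tf (2 * k + 1)) ![v]).det ≠ 0 := by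
  rw [Matrix.det_fin_one]
  exact h.tau.trans_ne one_ne_zero

theorem WP.det {v w : T.V} (h : T.WP k c 0 v w) : (gram (T.tf k) ![v, w]).det ≠ 0 := by
  have t3 := (h.b k k.zero_le).trans (if_pos rfl)
  rw [Matrix.det_fin_two]
  change T.B v (T.N k v) * T.B w (T.N k w) - T.B v (T.N k w) * T.B w (T.N k v) ≠ 0
  rw [tau_self (by omega) h.nv h.qv, t3, tau_symm h.nv, t3]
  simp

theorem WP.nil {v w : T.V} (h : T.WP k c 0 v w) (a : Fin 2) : T.N (k + 1) (![v, w] a) = 0 := by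
  fin_cases a
  exacts [h.nv, h.nw]

theorem IsBlk.iso (h : IsBlk b T) (h' : IsBlk b T') : Iso T T' := by
  obtain ⟨_ | _, k, c⟩ := b
  · obtain ⟨v, w, h1⟩ := h.wd
    obtain ⟨v', w', h2⟩ := h'.wd
    refine iso_gen h1.nil h2.nil h1.det h2.det (h.1.trans (mul_comm _ _))
      (h'.1.trans (mul_comm _ _)) (fun a i => ?_) fun a b hab j => ?_
    · fin_cases a
      exacts [(h2.qv i (by omega)).trans (h1.qv i (by omega)).symm,
        (h2.qw i (by omega)).trans (h1.qw i (by omega)).symm]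
    · obtain ⟨rfl, rfl⟩ : a = 0 ∧ b = 1 := by omega
      exact (h2.b j (by omega)).trans (h1.b j (by omega)).symm
  · obtain ⟨v, h1⟩ := h.vd
    obtain ⟨v', h2⟩ := h'.vd
    exact iso_gen (m := 2 * k + 1) (e := ![v]) (e' := ![v']) (by simpa using h1.1)
      (by simpa using h2.1) h1.det h2.det (h.1.trans (by simp; ring)) (h'.1.trans (by simp; ring))
      (by simpa using fun i => (h2.2 i).trans (h1.2 i).symm) (by simp)

theorem IsBlk.free_V (h : IsBlk ⟨true, k, c⟩ T) : Tri.Free (2 * k + 1) 1 T.toTri := by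
  obtain ⟨v, h1⟩ := h.vd
  exact T.free_gen (e := ![v]) (by simpa using h1.1) h1.det (h.1.trans (by simp; ring))

theorem IsBlk.free_W (h : IsBlk ⟨false, k, c⟩ T) : Tri.Free k 2 T.toTri := by
  obtain ⟨v, w, h1⟩ := h.wd
  exact T.free_gen h1.nil h1.det (h.1.trans (mul_comm _ _))

theorem VD.split {v : T.V} (h : T.VD k c v) : ∃ A S, IsBlk ⟨true, k, c⟩ A ∧ Iso T (A.add S) := by
  obtain ⟨A, S, φ, e, h1, h2, h3, h4⟩ := T.split_gen (m := 2 * k + 1) (e := ![v])
    (by simpa using h.1) h.det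
  have h5 : φ (e 0) = v := h2 0
  refine ⟨A, S, ⟨h3.trans (by simp; ring), fun _ => ⟨e 0, h1.eq_zero ?_, fun i => ?_⟩, by simp⟩, h4⟩
  · rw [← h1.N, h5, h.1]
  · rw [← h1.Q, ← h1.N, h5, h.2]

theorem WP.split {v w : T.V} (h : T.WP k c 0 v w) :
    ∃ A S, IsBlk ⟨false, k, c⟩ A ∧ Iso T (A.add S) := by
  obtain ⟨A, S, φ, e, h1, h2, h3, h4⟩ := T.split_gen h.nil h.det
  have h5 : φ (e 0) = v := h2 0
  have h6 : φ (e 1) = w := h2 1
  refine ⟨A, S, ⟨h3.trans (mul_comm _ _), by simp, fun _ => ⟨e 0, e 1, h1.eq_zero ?_,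
    h1.eq_zero ?_, fun i hi => ?_, fun i hi => ?_, fun i hi => ?_⟩⟩, h4⟩
  · rw [← h1.N, h5, h.nv]
  · rw [← h1.N, h6, h.nw]
  · rw [← h1.B, ← h1.N, h5, h6, h.b i hi]
  · rw [← h1.Q, ← h1.N, h5, h.qv i hi]
  · rw [← h1.Q, ← h1.N, h6, h.qw i hi]

variable [Finite F]

theorem split_V {v : T.V} (hv : T.N (2 * k + 2) v = 0) (hg : T.Q (T.N (k + 1) v) ≠ 0) :
    ∃ c A S, IsBlk ⟨true, k, c⟩ A ∧ Iso T (A.add S) ∧ (T.Q (T.N k v) = 0 → c = false) := by
  obtain ⟨c, w, h1, h2⟩ := norm_V hv hg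
  obtain ⟨A, S, h3, h4⟩ := h1.split
  exact ⟨c, A, S, h3, h4, h2⟩

theorem split_W {v w : T.V} (hv : T.N (k + 1) v = 0) (hw : T.N (k + 1) w = 0)
    (h1 : T.B v (T.N k w) ≠ 0) (h2 : T.B v (T.N k v) = 0) (h3 : T.B w (T.N k w) = 0) :
    ∃ c A S, IsBlk ⟨false, k, c⟩ A ∧ Iso T (A.add S) ∧
      ((∀ i, 2 * i = k → T.Q (T.N i w) = 0) → c = false) := by
  obtain ⟨c, v', w', h4, h5⟩ := norm_W hv hw h1 h2 h3
  obtain ⟨A, S, h6, h7⟩ := h4.split
  exact ⟨c, A, S, h6, h7, h5⟩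

theorem exists_blk (T : QT F) {x₀ : T.V} (h0 : x₀ ≠ 0) (h1 : T.f x₀ = x₀) :
    ∃ b A S, IsBlk b A ∧ Iso T (A.add S) := by
  classical
  obtain ⟨n, a1, a2⟩ := ((T.f - 1).eventually_isCompl_ker_pow_range_pow.and
    (Filter.eventually_gt_atTop 0)).exists
  have h2 : ∃ m, ∀ z, T.N n z = 0 → T.N m z = 0 := ⟨n, fun _ h => h⟩
  have h3 := Nat.find_spec h2
  obtain ⟨k, hk⟩ : ∃ k, Nat.find h2 = k + 1 := Nat.exists_eq_add_one_of_ne_zero fun h => h0 (by
    rw [h] at h3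
    exact h3 x₀ (nn_of_le (m := 1) (by simp [nn_one, h1]) a2))
  have h4 := Nat.find_min h2 (show k < _ by omega)
  rw [hk] at h3
  push Not at h4
  obtain ⟨x, h5, h6⟩ := h4
  obtain ⟨y, h7, h8⟩ : ∃ y, T.N n y = 0 ∧ T.B y (T.N k x) ≠ 0 := by
    by_contra! h
    refine h6 (T.eh.nondeg' _ fun v => ?_)
    obtain ⟨a, ha, _, ⟨b, rfl⟩, rfl⟩ := Submodule.mem_sup.1 (a1.sup_eq_top.ge (Submodule.mem_top
      (x := v)))
    rw [map_add, LinearMap.add_apply, h a ha, zero_add]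
    exact B_zero (h3 x h5) (by omega) b
  have h9 : ∀ z, T.N n z = 0 → T.B z (T.N k z) ≠ 0 → ∃ b A S, IsBlk b A ∧ Iso T (A.add S) := by
    intro z hz h
    obtain ⟨i, rfl | rfl⟩ := k.even_or_odd'
    · exact (h (tau_even (h3 z hz))).elim
    · obtain ⟨c, A, S, h, h', -⟩ := split_V (h3 z hz) (by rwa [Q_top (h3 z hz) le_rfl])
      exact ⟨_, A, S, h, h'⟩
  by_cases b1 : T.B x (T.N k x) = 0
  swap
  · exact h9 x h5 b1
  by_cases b2 : T.B y (T.N k y) = 0
  swap
  · exact h9 y h7 b2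
  obtain ⟨c, A, S, h, h', -⟩ := split_W (h3 y h7) (h3 x h5) h8 b2 b1
  exact ⟨_, A, S, h, h'⟩

end QT

end CF.Cls
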