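/-
Decomposition of isometries in characteristic two into blocks.
-/
import Cfsg.Agent.Cls.KE2

set_option autoImplicit false

namespace CF.Cls

open Polynomial Module CF.Geom QuadraticMap

universe u

variable {F : Type u} [Field F]

/-- The Jordan type of a block. -/
def Blk.ht (b : Blk) : Multiset ℕ := if b.v then {2 * b.k + 2} else {b.k + 1, b.k + 1}

/-- The measure which is minimised. -/
def Blk.mu (b : Blk) : ℕ :=
  (if b.v then b.k + 2 else 0) + if b.c then (if b.v then 2 * b.k + 2 else b.k + 3) else 0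

/-- Unipotent eigenvalue data. -/
def unp {A : Type*} [One A] (s : Multiset ℕ) : Multiset (A × ℕ) := s.map fun i => (1, i)

theorem unp_add {A : Type*} [One A] (s t : Multiset ℕ) :
    unp (A := A) (s + t) = unp s + unp t := Multiset.map_add _ _ _

theorem unp_add_inj {A : Type*} [One A] {s t : Multiset ℕ} {E E' : Multiset (A × ℕ)}
    (h : unp s + E = unp t + E') (h1 : ∀ x ∈ E, x.1 ≠ 1) (h2 : ∀ x ∈ E', x.1 ≠ 1) :
    s = t ∧ E = E' := by
  classical
  have h3 : ∀ (s : Multiset ℕ) (E : Multiset (A × ℕ)), (∀ x ∈ E, x.1 ≠ 1) →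
      ((unp s + E).filter fun x : A × ℕ => x.1 = 1).map Prod.snd = s := fun s E h => by
    rw [Multiset.filter_add, Multiset.filter_eq_nil.2 h, add_zero, Multiset.filter_eq_self.2
      (by simp [unp]), unp, Multiset.map_map]
    simp
  obtain rfl : s = t := by rw [← h3 s E h1, h, h3 t E' h2]
  exact ⟨rfl, add_left_cancel h⟩

theorem eq_zero_of_bind_ht {l : Multiset Blk} (h : (l.bind Blk.ht).card = 0) : l = 0 := by
  rcases l.empty_or_exists_mem with rfl | ⟨b, hb⟩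
  · rfl
  obtain ⟨l, rfl⟩ := Multiset.exists_cons_of_mem hb
  obtain ⟨_ | _, k, c⟩ := b <;> simp [Blk.ht] at h

theorem mu_le_V {l : Multiset Blk} {k : ℕ} (h : l.bind Blk.ht = {2 * k + 2}) :
    (l.map Blk.mu).sum ≤ 3 * k + 4 := by
  rcases l.empty_or_exists_mem with rfl | ⟨b, hb⟩
  · simp
  obtain ⟨l, rfl⟩ := Multiset.exists_cons_of_mem hb
  have h1 := congrArg Multiset.card h
  rw [Multiset.cons_bind] at h h1
  rw [Multiset.card_add] at h1
  obtain ⟨_ | _, j, c⟩ := b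
  · simp [Blk.ht] at h1; omega
  · obtain rfl := eq_zero_of_bind_ht (l := l) (by simpa [Blk.ht] using h1)
    cases c <;> simp [Blk.ht, Blk.mu] at h ⊢ <;> omega

theorem mu_le_W {l : Multiset Blk} {k : ℕ} (h : l.bind Blk.ht = {2 * k + 1, 2 * k + 1}) :
    (l.map Blk.mu).sum ≤ 2 * k + 3 := by
  rcases l.empty_or_exists_mem with rfl | ⟨b, hb⟩
  · simp
  obtain ⟨l, rfl⟩ := Multiset.exists_cons_of_mem hb
  have h1 := congrArg Multiset.card h
  rw [Multiset.cons_bind] at h h1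
  rw [Multiset.card_add] at h1
  obtain ⟨_ | _, j, c⟩ := b
  · obtain rfl := eq_zero_of_bind_ht (l := l) (by simpa [Blk.ht] using h1)
    have : j + 1 ∈ ({2 * k + 1, 2 * k + 1} : Multiset ℕ) := by rw [← h]; simp [Blk.ht]
    cases c <;> simp [Blk.mu] at this ⊢ <;> omega
  · have : 2 * j + 2 ∈ ({2 * k + 1, 2 * k + 1} : Multiset ℕ) := by rw [← h]; simp [Blk.ht]
    simp at this; omega

namespace QT

/-- The eigenvalue data. -/
noncomputable abbrev ev (T : QT F) : Multiset ((AlgebraicClosure F)ˣ × ℕ) :=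
  Cls.ev (AlgebraicClosure F) T.f

/-- Decompositions into blocks and a part without fixed vectors. -/
inductive MF : Multiset Blk → QT F → Prop
  | nil {T : QT F} (h : ∀ v, T.f v = v → v = 0) : MF 0 T
  | cons {b : Blk} {l : Multiset Blk} {A S T : QT F} (h : IsBlk b A) (h' : MF l S)
      (e : Iso T (A.add S)) : MF (b ::ₘ l) T

variable {T T' A S : QT F} {k : ℕ} {c : Bool} {b : Blk} {l l' : Multiset Blk}

theorem MF.iso (h : MF l T) (e : Iso T' T) : MF l T' := by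
  cases h with
  | nil h =>
    obtain ⟨Z, -, z⟩ := e
    exact .nil fun v hv => Z.map_eq_zero_iff.1 (h _ (by rw [← z, hv]))
  | cons h h' e' => exact .cons h h' (e.trans e')

theorem MF.of_zero (h : MF 0 T) : ∀ v, T.f v = v → v = 0 := by
  generalize hl : (0 : Multiset Blk) = l at h
  cases h with
  | nil h => exact h
  | cons => exact absurd hl.symm Multiset.cons_ne_zero

theorem MF.peel (h : MF (b ::ₘ l) T) : ∃ A S, IsBlk b A ∧ MF l S ∧ Iso T (A.add S) := by
  generalize hl : b ::ₘ l = l' at h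
  induction h generalizing l with
  | nil => exact absurd hl Multiset.cons_ne_zero
  | cons h h' e ih =>
    rcases Multiset.cons_eq_cons.1 hl with ⟨rfl, rfl⟩ | ⟨-, l, rfl, rfl⟩
    · exact ⟨_, _, h, h', e⟩
    · obtain ⟨A, S, h1, h2, h3⟩ := ih rfl
      exact ⟨A, _, h1, .cons h h2 (.refl _), e.trans (((Iso.refl _).add h3).trans
        (iso_left_comm _ _ _))⟩

theorem MF.add (h : MF l T) (h' : MF l' S) : MF (l + l') (T.add S) := by
  induction h with
  | nil h =>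
    rw [zero_add]
    induction h' with
    | nil h' =>
      exact .nil fun v hv => Prod.ext (h v.1 (congrArg Prod.fst hv)) (h' v.2 (congrArg Prod.snd hv))
    | cons h1 _ e ih => exact .cons h1 ih (((Iso.refl _).add e).trans (iso_left_comm _ _ _))
  | cons h1 _ e ih =>
    rw [Multiset.cons_add]
    exact .cons h1 ih ((e.add (.refl _)).trans (iso_assoc _ _ _))

variable [Finite F]

theorem Iso.ev_eq (h : Iso T T') : T.ev = T'.ev := h.tri.ev_eq

omit [Finite F] in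
theorem ev_add (T S : QT F) : (T.add S).ev = T.ev + S.ev := ev_prodMap _ _

theorem ne_one_of_mem (h : ∀ v, T.f v = v → v = 0) : ∀ x ∈ T.ev, x.1 ≠ 1 := fun x hx h1 => by
  have h3 : IsUnit (algebraMap F (End F T.V) 1 - T.f) := by
    rw [← neg_sub, IsUnit.neg_iff, isUnit_sub_iff]; simpa using h
  have h4 := ((h3.map LinearMap.det).map (algebraMap F (AlgebraicClosure F))).ne_zero
  rw [det_sub_ev T.unit] at h4
  refine h4 (Multiset.prod_eq_zero (Multiset.mem_map.2 ⟨x, hx, ?_⟩))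
  obtain ⟨π, -, -, -, h5, -⟩ := exists_pow_mem_ed T.unit (Multiset.mem_map_of_mem _ hx)
  simp [h1, h5.ne']

variable [CharP F 2]

theorem exists_MF (T : QT F) : ∃ l, MF l T := by
  induction h : finrank F T.V using Nat.strong_induction_on generalizing T with
  | _ n ih =>
  by_cases h1 : ∀ v, T.f v = v → v = 0
  · exact ⟨0, .nil h1⟩
  push Not at h1
  obtain ⟨v, h1, h2⟩ := h1
  obtain ⟨b, A, S, h3, h4⟩ := T.exists_blk h2 h1
  have h5 := h4.tri.finrank_eq
  rw [finrank_prod, h3.1] at h5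
  obtain ⟨l, hl⟩ := ih _ (by omega) S rfl
  exact ⟨_, .cons h3 hl h4⟩

theorem IsBlk.ev_eq (h : IsBlk b T) : T.ev = unp b.ht := by
  obtain ⟨_ | _, k, c⟩ := b
  · exact h.free_W.ev_eq
  · exact h.free_V.ev_eq

theorem MF.ev_eq (h : MF l T) : ∃ E, (∀ x ∈ E, x.1 ≠ 1) ∧ T.ev = unp (l.bind Blk.ht) + E := by
  induction h with
  | nil h => exact ⟨_, ne_one_of_mem h, by simp [unp]⟩
  | cons h _ e ih =>
    obtain ⟨E, h1, h2⟩ := ih
    exact ⟨E, h1, by rw [e.ev_eq, ev_add, h.ev_eq, h2, Multiset.cons_bind, unp_add, add_assoc]⟩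

theorem MF.uniq (h : MF l T) (h' : MF l T') (e : T.ev = T'.ev) : Iso T T' := by
  induction h generalizing T' with
  | @nil T h =>
    exact quad_isom_of_unit T.nondeg T'.nondeg T.inv T'.inv ((sim_iff_ev T.unit T'.unit).2 e) h
      fun v hv => h v (by rw [hv, ← neg_one_smul F, CharTwo.neg_eq, one_smul])
  | cons h _ e' ih =>
    obtain ⟨A', S', h1, h2, h3⟩ := h'.peel
    rw [e'.ev_eq, h3.ev_eq, ev_add, ev_add, h.ev_eq, h1.ev_eq, add_right_inj] at e
    exact e'.trans (((h.iso h1).add (ih h2 e)).trans h3.symm)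

theorem MF.replace {X S' : QT F} {s : Multiset ℕ} (h : MF l S') (e : Iso T (X.add S'))
    (e' : Iso X (A.add S)) (hA : IsBlk b A) (hX : X.ev = unp (b.ht + s)) :
    ∃ l', l'.bind Blk.ht = s ∧ MF (b ::ₘ (l' + l)) T := by
  obtain ⟨l', h1⟩ := S.exists_MF
  obtain ⟨E, h2, h3⟩ := h1.ev_eq
  rw [e'.ev_eq, ev_add, hA.ev_eq, unp_add, add_right_inj, h3, ← add_zero (unp s)] at hX
  exact ⟨l', (unp_add_inj hX h2 (by simp)).1, .cons hA (h1.add h)
    (e.trans ((e'.add (.refl _)).trans (iso_assoc _ _ _)))⟩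

theorem move_VV {A' : QT F} {j i : ℕ} (h : IsBlk ⟨true, i, true⟩ A) (h' : IsBlk ⟨true, k, c⟩ A')
    (h1 : i + j = k + 1) (h2 : j ≤ 1) :
    ∃ X S, IsBlk ⟨true, i, false⟩ X ∧ Iso (A.add A') (X.add S) := by
  obtain ⟨v, a1, a2⟩ := h.vd
  obtain ⟨y, b1, b2⟩ := h'.vd
  obtain ⟨s, hs⟩ := exists_sqrt (alc F true)
  obtain ⟨c, X, S, h3, h4, h5⟩ := split_V (T := A.add A') (k := i) (v := (v, s • A'.N j y))
    (by rw [add_N, a1, map_smul, nn_nn, nn_of_le b1 (by omega), smul_zero]; rfl) (by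
      rw [add_N, add_Q, Q_smul, nn_nn, a2, b2, if_pos rfl, if_neg (by omega), if_neg (by omega)]
      simp)
  rw [h5 (by
    rw [add_N, add_Q, Q_smul, nn_nn, a2, b2, if_neg (by omega), if_pos rfl, if_pos h1, hs, mul_one,
      CharTwo.add_self_eq_zero])] at h3
  exact ⟨X, S, h3, h4⟩

theorem move_WV {A' : QT F} {j i : ℕ} (h : IsBlk ⟨false, 2 * i, true⟩ A)
    (h' : IsBlk ⟨true, k, c⟩ A') (h1 : i + j = k + 1) (h2 : j ≤ 1) :
    ∃ X S, IsBlk ⟨false, 2 * i, false⟩ X ∧ Iso (A.add A') (X.add S) := by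
  obtain ⟨v, w, a⟩ := h.wd
  obtain ⟨y, b1, b2⟩ := h'.vd
  obtain ⟨s, hs⟩ := exists_sqrt (alc F true)
  have c1 : (A.add A').N (2 * i + 1) (v, 0) = 0 := by rw [add_N, a.nv, map_zero]; rfl
  have c2 : (A.add A').N (2 * i + 1) (w, s • A'.N j y) = 0 := by
    rw [add_N, a.nw, map_smul, nn_nn, nn_of_le b1 (by omega), smul_zero]; rfl
  obtain ⟨c, X, S, h3, h4, h5⟩ := split_W c1 c2 (by
    rw [add_N, add_B, a.b _ (by omega)]; simp) (tau_even c1) (tau_even c2)
  rw [h5 fun e he => by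
    rw [add_N, add_Q, Q_smul, nn_nn, a.qw _ (by omega), b2, if_pos he, if_pos (by omega), hs,
      mul_one, CharTwo.add_self_eq_zero]] at h3
  exact ⟨X, S, h3, h4⟩

theorem move_WW {A' : QT F} {c' : Bool} (h : IsBlk ⟨false, 2 * k, c⟩ A)
    (h' : IsBlk ⟨false, 2 * k, c'⟩ A') :
    ∃ X S, IsBlk ⟨false, 2 * k, false⟩ X ∧ Iso (A.add A') (X.add S) := by
  obtain ⟨v, w, a⟩ := h.wd
  obtain ⟨v', w', a'⟩ := h'.wd
  have c1 : (A.add A').N (2 * k + 1) (w, 0) = 0 := by rw [add_N, a.nw, map_zero]; rfl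
  have c2 : (A.add A').N (2 * k + 1) (v, v') = 0 := by rw [add_N, a.nv, a'.nv]; rfl
  obtain ⟨c, X, S, h3, h4, h5⟩ := split_W c1 c2 (by
    rw [add_N, add_B, tau_symm a.nv, a.b _ (by omega)]; simp) (tau_even c1) (tau_even c2)
  rw [h5 fun e he => by
    rw [add_N, add_Q, a.qv _ (by omega), a'.qv _ (by omega), CharTwo.add_self_eq_zero]] at h3
  exact ⟨X, S, h3, h4⟩

theorem move_VVV {A' A'' : QT F} {c' c'' : Bool} (h : IsBlk ⟨true, k, c⟩ A)
    (h' : IsBlk ⟨true, k, c'⟩ A') (h'' : IsBlk ⟨true, k, c''⟩ A'') :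
    ∃ X S, IsBlk ⟨false, 2 * k + 1, false⟩ X ∧ Iso (A.add (A'.add A'')) (X.add S) := by
  obtain ⟨v, a⟩ := h.vd
  obtain ⟨v', a'⟩ := h'.vd
  obtain ⟨v'', a''⟩ := h''.vd
  obtain ⟨c, X, S, h3, h4, h5⟩ := split_W (T := A.add (A'.add A'')) (k := 2 * k + 1)
    (v := (v, v', 0)) (w := (0, v', v''))
    (by rw [add_N, add_N, a.1, a'.1, map_zero]; rfl)
    (by rw [add_N, add_N, a''.1, a'.1, map_zero]; rfl)
    (by rw [add_N, add_N, add_B, add_B, a'.tau]; simp)
    (by rw [add_N, add_N, add_B, add_B, a'.tau, a.tau]; simpa using CharTwo.add_self_eq_zero _)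
    (by rw [add_N, add_N, add_B, add_B, a'.tau, a''.tau]; simpa using CharTwo.add_self_eq_zero _)
  rw [h5 (by omega)] at h3
  exact ⟨X, S, h3, h4⟩

omit [Finite F] [CharP F 2] in
theorem IsBlk.odd (h : IsBlk ⟨false, 2 * k + 1, c⟩ A) : IsBlk ⟨false, 2 * k + 1, false⟩ A := by
  obtain ⟨v, w, a⟩ := h.wd
  exact ⟨h.1, by simp, fun _ => ⟨v, w, a.nv, a.nw, a.b, a.qv, fun i hi => by
    rw [a.qw i hi, if_neg (by omega), if_neg (by simp only; omega)]⟩⟩

end QT

end CF.Cls
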