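/-
Admissible decompositions of isometries in characteristic two and their codes.
-/
import Cfsg.Agent.Cls.KE3

set_option autoImplicit false

namespace CF.Cls

open Module CF.Geom QuadraticMap Multiset

universe u

variable {F : Type u} [Field F]

/-- Admissible multisets of blocks. -/
structure Ad (l : Multiset Blk) : Prop where
  v3 : ∀ k, l.count ⟨true, k, false⟩ + l.count ⟨true, k, true⟩ ≤ 2
  vt : ∀ k, l.count ⟨true, k, true⟩ ≤ 1
  wt : ∀ k, l.count ⟨false, 2 * k, true⟩ ≤ 1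
  wo : ∀ k, l.count ⟨false, 2 * k + 1, true⟩ = 0
  vv : ∀ k c, ⟨true, k, c⟩ ∈ l → l.count ⟨true, k + 1, true⟩ = 0
  wv : ∀ k c, ⟨true, k, c⟩ ∈ l → l.count ⟨false, 2 * k, true⟩ = 0
  wv' : ∀ k c, ⟨true, k, c⟩ ∈ l → l.count ⟨false, 2 * (k + 1), true⟩ = 0

theorem exists_cons_cons {l : Multiset Blk} {a b : Blk} (ha : l.count a ≠ 0) (hb : b ∈ l)
    (h : a ≠ b) : ∃ l', l = a ::ₘ b ::ₘ l' := by
  obtain ⟨l, rfl⟩ := exists_cons_of_mem (count_ne_zero.1 ha)
  obtain ⟨l, rfl⟩ := exists_cons_of_mem ((mem_cons.1 hb).resolve_left h.symm)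
  exact ⟨l, rfl⟩

theorem exists_cons_two {l : Multiset Blk} {a : Blk} (ha : 1 < l.count a) :
    ∃ l', l = a ::ₘ a ::ₘ l' := by
  obtain ⟨l, rfl⟩ := exists_cons_of_mem (count_pos.1 (zero_lt_one.trans ha))
  obtain ⟨l, rfl⟩ := exists_cons_of_mem (a := a) (s := l) (count_pos.1 (by simpa using ha))
  exact ⟨l, rfl⟩

namespace QT

/-- Minimal decompositions. -/
def MinF (l : Multiset Blk) (T : QT F) : Prop :=
  MF l T ∧ ∀ l', MF l' T → (l.map Blk.mu).sum ≤ (l'.map Blk.mu).sum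

variable [Finite F] [CharP F 2] {T : QT F} {l : Multiset Blk}

theorem MinF.two {a a' b : Blk} (h : MinF (a ::ₘ b ::ₘ l) T) (h1 : a'.ht = a.ht)
    (h2 : ∀ A A' : QT F, IsBlk a A → IsBlk b A' → ∃ X S, IsBlk a' X ∧ Iso (A.add A') (X.add S)) :
    ∃ l' : Multiset Blk, l'.bind Blk.ht = b.ht ∧ a.mu + b.mu ≤ a'.mu + (l'.map Blk.mu).sum := by
  obtain ⟨A, S, a1, a2, a3⟩ := h.1.peel
  obtain ⟨A', S', b1, b2, b3⟩ := a2.peel
  obtain ⟨X, Y, c1, c2⟩ := h2 A A' a1 b1
  obtain ⟨l', d1, d2⟩ := b2.replace (a3.trans (((Iso.refl _).add b3).trans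
    (iso_assoc _ _ _).symm)) c2 c1 (by rw [ev_add, a1.ev_eq, b1.ev_eq, h1, unp_add])
  have := h.2 _ d2
  simp only [map_cons, sum_cons, Multiset.map_add, Multiset.sum_add] at this
  exact ⟨l', d1, by omega⟩

theorem MinF.ad (h : MinF l T) : Ad l := by
  have h1 : ∀ k, l.count ⟨true, k, true⟩ ≤ 1 := fun k => not_lt.1 fun h1 => by
    obtain ⟨l, rfl⟩ := exists_cons_two h1
    obtain ⟨l', h2, h3⟩ := h.two (a' := ⟨true, k, false⟩) rfl
      fun A A' a b => move_VV (j := 1) a b rfl le_rfl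
    have := mu_le_V (k := k) h2
    simp [Blk.mu] at h3; omega
  refine ⟨fun k => not_lt.1 fun h2 => ?_, h1, fun k => not_lt.1 fun h2 => ?_,
    fun k => by_contra fun h2 => ?_, fun k c h2 => by_contra fun h3 => ?_,
    fun k c h2 => by_contra fun h3 => ?_, fun k c h2 => by_contra fun h3 => ?_⟩
  · obtain ⟨l, rfl⟩ := exists_cons_two (l := l) (a := ⟨true, k, false⟩) (by have := h1 k; omega)
    obtain ⟨c, hc⟩ : ∃ c, ⟨true, k, c⟩ ∈ l := by
      by_contra! h3
      simp [count_eq_zero.2 (h3 _)] at h2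
    obtain ⟨l, rfl⟩ := exists_cons_of_mem hc
    obtain ⟨A, S, a1, a2, a3⟩ := h.1.peel
    obtain ⟨A', S', b1, b2, b3⟩ := a2.peel
    obtain ⟨A'', S'', c1, c2, c3⟩ := b2.peel
    obtain ⟨X, Y, d1, d2⟩ := move_VVV a1 b1 c1
    obtain ⟨l', e1, e2⟩ := c2.replace (s := {2 * k + 2}) (a3.trans (((Iso.refl _).add (b3.trans
      (((Iso.refl _).add c3).trans (iso_assoc _ _ _).symm))).trans (iso_assoc _ _ _).symm)) d2 d1
      (by rw [ev_add, ev_add, a1.ev_eq, b1.ev_eq, c1.ev_eq, ← unp_add, ← unp_add]; rfl)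
    have := h.2 _ e2
    have := mu_le_V e1
    simp [Blk.mu] at *; omega
  · obtain ⟨l, rfl⟩ := exists_cons_two h2
    obtain ⟨l', h2, h3⟩ := h.two (a' := ⟨false, 2 * k, false⟩) rfl fun A A' a b => move_WW a b
    have := mu_le_W h2
    simp [Blk.mu] at h3; omega
  · obtain ⟨l, rfl⟩ := exists_cons_of_mem (count_ne_zero.1 h2)
    obtain ⟨A, S, a1, a2, a3⟩ := h.1.peel
    simpa [Blk.mu] using h.2 _ (.cons a1.odd a2 a3)
  · obtain ⟨l, rfl⟩ := exists_cons_cons h3 h2 (by simp)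
    obtain ⟨l', h2, h3⟩ := h.two (a' := ⟨true, k + 1, false⟩) rfl
      fun A A' a b => move_VV (j := 0) a b rfl zero_le_one
    have := mu_le_V (k := k) h2
    simp [Blk.mu] at h3; omega
  · obtain ⟨l, rfl⟩ := exists_cons_cons h3 h2 (by simp)
    obtain ⟨l', h2, h3⟩ := h.two (a' := ⟨false, 2 * k, false⟩) rfl
      fun A A' a b => move_WV (j := 1) a b rfl le_rfl
    have := mu_le_V (k := k) h2
    simp [Blk.mu] at h3; omega
  · obtain ⟨l, rfl⟩ := exists_cons_cons h3 h2 (by simp)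
    obtain ⟨l', h2, h3⟩ := h.two (a' := ⟨false, 2 * (k + 1), false⟩) rfl
      fun A A' a b => move_WV (j := 0) a b rfl zero_le_one
    have := mu_le_V (k := k) h2
    simp [Blk.mu] at h3; omega

theorem exists_min (P : QT F → Prop) (h : ∃ T, P T) : ∃ l T, P T ∧ MinF l T ∧
    ∀ l' T', P T' → MF l' T' → (l.map Blk.mu).sum ≤ (l'.map Blk.mu).sum := by
  classical
  have h1 : ∃ n, ∃ l T, P T ∧ MF l T ∧ (l.map Blk.mu).sum = n :=
    let ⟨T, hT⟩ := h
    let ⟨l, hl⟩ := T.exists_MF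
    ⟨_, l, T, hT, hl, rfl⟩
  obtain ⟨l, T, h2, h3, h4⟩ := Nat.find_spec h1
  have h5 : ∀ l' T', P T' → MF l' T' → (l.map Blk.mu).sum ≤ (l'.map Blk.mu).sum :=
    fun l' T' a b => h4 ▸ Nat.find_min' h1 ⟨l', T', a, b, rfl⟩
  exact ⟨l, T, h2, ⟨h3, fun l' => h5 l' T h2⟩, h5⟩

end QT

/-- The options at one level. -/
def opts : Bool → Finset (ℕ × ℕ × ℕ)
  | true => {(0, 0, 0), (1, 0, 0), (2, 0, 0)}
  | false => {(0, 0, 0), (0, 0, 1), (1, 0, 0), (0, 1, 0), (2, 0, 0), (1, 1, 0)}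

/-- The blocks at one level. -/
def lvl (k : ℕ) (o : ℕ × ℕ × ℕ) : Multiset Blk := replicate o.1 ⟨true, k, false⟩ +
  replicate o.2.1 ⟨true, k, true⟩ + replicate o.2.2 ⟨false, 2 * k, true⟩

/-- The next state. -/
def nxt (o : ℕ × ℕ × ℕ) : Bool := decide (o.1 + o.2.1 ≠ 0)

/-- The set of codes. -/
def PS : ℕ → ℕ → Bool → Finset (Multiset Blk)
  | 0, _, _ => {0}
  | r + 1, k, σ => (opts σ).biUnion fun o => (PS r (k + 1) (nxt o)).image (lvl k o + ·)

/-- The multiplicities at one level. -/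
def cn (l : Multiset Blk) (k : ℕ) : ℕ × ℕ × ℕ :=
  (l.count ⟨true, k, false⟩, l.count ⟨true, k, true⟩, l.count ⟨false, 2 * k, true⟩)

/-- The blocks in a range of levels. -/
def tot (l : Multiset Blk) : ℕ → ℕ → Multiset Blk
  | 0, _ => 0
  | r + 1, k => lvl k (cn l k) + tot l r (k + 1)

/-- Half of the dimension. -/
def hs (l : Multiset Blk) : ℕ := (l.map fun b => b.k + 1).sum

/-- The coded part. -/
def pp (l : Multiset Blk) : Multiset Blk := l.filter fun b => b.v = true ∨ b.c = true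

variable {l l' : Multiset Blk}

theorem Ad.mem_opts (h : Ad l) {k : ℕ} {σ : Bool}
    (hσ : σ = true → l.count ⟨true, k, true⟩ = 0 ∧ l.count ⟨false, 2 * k, true⟩ = 0) :
    cn l k ∈ opts σ := by
  have h1 := h.v3 k
  have h2 := h.vt k
  have h3 := h.wt k
  have h4 := fun c => mt (h.wv k c)
  simp only [← count_eq_zero] at h4
  have h5 := h4 true
  have h6 := h4 false
  cases σ
  · simp only [opts, cn, Finset.mem_insert, Finset.mem_singleton, Prod.mk.injEq]; omega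
  · have := hσ rfl
    simp only [opts, cn, Finset.mem_insert, Finset.mem_singleton, Prod.mk.injEq]; omega

theorem Ad.nxt (h : Ad l) {k : ℕ} (h1 : nxt (cn l k) = true) :
    l.count ⟨true, k + 1, true⟩ = 0 ∧ l.count ⟨false, 2 * (k + 1), true⟩ = 0 := by
  obtain ⟨c, hc⟩ : ∃ c, ⟨true, k, c⟩ ∈ l := by
    by_contra! h3
    simp [Cls.nxt, cn, count_eq_zero.2 (h3 _)] at h1
  exact ⟨h.vv k c hc, h.wv' k c hc⟩

theorem Ad.tot_mem (h : Ad l) (r : ℕ) {k : ℕ} {σ : Bool}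
    (hσ : σ = true → l.count ⟨true, k, true⟩ = 0 ∧ l.count ⟨false, 2 * k, true⟩ = 0) :
    tot l r k ∈ PS r k σ := by
  induction r generalizing k σ with
  | zero => simp [tot, PS]
  | succ r ih =>
    exact Finset.mem_biUnion.2 ⟨_, h.mem_opts hσ, Finset.mem_image_of_mem _ (ih h.nxt)⟩

theorem count_tot (l : Multiset Blk) (r k : ℕ) (b : Blk) : (tot l r k).count b =
    if (b.v = true ∧ k ≤ b.k ∧ b.k < k + r) ∨
      (b.v = false ∧ b.c = true ∧ b.k % 2 = 0 ∧ 2 * k ≤ b.k ∧ b.k < 2 * (k + r))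
      then l.count b else 0 := by
  induction r generalizing k with
  | zero => rw [if_neg (by omega)]; rfl
  | succ r ih =>
    rw [tot, count_add, ih, lvl, cn]
    obtain ⟨v, j, c⟩ := b
    simp only [count_add, count_replicate, Blk.mk.injEq]
    cases v <;> cases c <;> simp <;> split_ifs <;> first | omega | simp_all

theorem Ad.pp_eq (h : Ad l) {n : ℕ} (hn : ∀ b ∈ pp l, b.k < n) : pp l = tot l n 0 := by
  ext b
  rw [count_tot, pp, count_filter]
  by_cases h1 : b ∈ l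
  swap
  · simp [count_eq_zero.2 h1]
  have h2 := fun h => hn b (mem_filter.2 ⟨h1, h⟩)
  obtain ⟨v, j, c⟩ := b
  refine if_congr ?_ rfl rfl
  cases v <;> cases c <;> simp at h2 ⊢
  · obtain ⟨i, rfl | rfl⟩ := j.even_or_odd'
    · omega
    · exact absurd h1 (count_eq_zero.1 (h.wo i))
  all_goals exact h2

theorem lt_hs {b : Blk} (h : b ∈ l) : b.k < hs l :=
  single_le_sum (fun _ _ => Nat.zero_le _) _ (mem_map_of_mem (fun b : Blk => b.k + 1) h)

theorem sum_bind_ht (l : Multiset Blk) : (l.bind Blk.ht).sum = 2 * hs l := by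
  rw [sum_bind, hs, ← sum_map_mul_left]
  refine congrArg _ (map_congr rfl fun b _ => ?_)
  obtain ⟨_ | _, k, c⟩ := b <;> simp [Blk.ht] <;> ring

theorem exists_pp (l : Multiset Blk) : ∃ s : Multiset ℕ,
    l = pp l + s.map (fun k => ⟨false, k, false⟩) := by
  refine ⟨(l.filter fun b => ¬ (b.v = true ∨ b.c = true)).map Blk.k, ?_⟩
  rw [map_map, map_congr rfl (g := id), map_id, pp, filter_add_not]
  rintro ⟨v, k, c⟩ hb
  simpa [eq_comm] using (mem_filter.1 hb).2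

theorem bind_ht_map (s : Multiset ℕ) : (s.map fun k => (⟨false, k, false⟩ : Blk)).bind Blk.ht =
    s.map (· + 1) + s.map (· + 1) := by
  induction s using Multiset.induction_on with
  | empty => rfl
  | cons a s ih => simp [ih, Blk.ht, ← singleton_add, add_assoc, add_left_comm]

theorem eq_of_pp (h : pp l = pp l') (h' : l.bind Blk.ht = l'.bind Blk.ht) : l = l' := by
  obtain ⟨s, hs⟩ := exists_pp l
  obtain ⟨t, ht⟩ := exists_pp l'
  rw [hs, ht, add_bind, add_bind, h, add_right_inj, bind_ht_map, bind_ht_map, ← two_nsmul,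
    ← two_nsmul] at h'
  rw [hs, ht, h, map_injective (add_left_injective 1) (nsmul_right_injective two_ne_zero h')]

theorem ia_unp {A : Type*} [CommGroup A] (Q : ℤ) (l : Multiset Blk) :
    IA Q (2 * hs l) (unp (A := A) (l.bind Blk.ht)) :=
  have h : ∀ R : ℤ, St R (unp (A := A) (l.bind Blk.ht)) := fun R => by
    rw [St, unp, map_map]
    exact map_congr rfl fun k _ => by simp
  ⟨⟨fun x hx => by
    obtain ⟨k, hk, rfl⟩ := mem_map.1 hx
    obtain ⟨⟨_ | _, j, c⟩, -, hb⟩ := mem_bind.1 hk <;> simp [Blk.ht] at hb ⊢ <;> omega,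
    by rw [← sum_bind_ht, dm, unp, map_map]; simp, h Q⟩, h _⟩

namespace QT

variable [Finite F] [CharP F 2] {T T' : QT F}

theorem MF.eq_of_pp (h : MF l T) (h' : MF l' T') (e : T.ev = T'.ev) (hp : pp l = pp l') :
    l = l' := by
  obtain ⟨E, h1, h2⟩ := h.ev_eq
  obtain ⟨E', h3, h4⟩ := h'.ev_eq
  exact Cls.eq_of_pp hp (unp_add_inj (h2.symm.trans (e.trans h4)) h1 h3).1

theorem exists_code {n : ℕ} (hn : finrank F T.V = 2 * n)
    (h : ∃ E, (∀ x ∈ E, x.1 ≠ 1) ∧ T.ev = unp (l.bind Blk.ht) + E) :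
    ∃ J m, T.ev = unp ((pp l).bind Blk.ht) + J ∧ IA (Nat.card F) (2 * m) J ∧
      Par (fun _ => True) J ∧ m + hs (pp l) = n := by
  classical
  obtain ⟨E, h1, h2⟩ := h
  obtain ⟨s, hs⟩ := exists_pp l
  have h3 := ia_ev (K := AlgebraicClosure F) 2 T.eh T.pres
  rw [hs, add_bind, unp_add, add_assoc, bind_ht_map] at h2
  rw [show Cls.ev _ T.f = _ from h2, hn] at h3
  obtain ⟨h4, h5⟩ := h3.of_add (ia_unp _ _)
  refine ⟨_, n - Cls.hs (pp l), h2, by convert h4; omega, Par.add (fun x _ _ _ => ?_)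
    (par_of_not fun x h hx => (h1 x h ((eq_or_of_sq_units hx).elim id fun h => h.trans
      (Units.ext ?_))).elim), by omega⟩
  · rw [unp_add, @count_add _ (_)]
    exact Even.add_self _
  · have := charP_of_injective_algebraMap (algebraMap F (AlgebraicClosure F)).injective 2
    simpa using CharTwo.neg_eq (1 : AlgebraicClosure F)

end QT

end CF.Cls
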