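/-
Numerical bounds for the codes of isometries in characteristic two.
-/
import Cfsg.Agent.Cls.KE4

set_option autoImplicit false

namespace CF.Cls

open Finset PowerSeries

theorem subW_half {q : ℕ} (hq : 2 ≤ q) : SubW fun l => (q : ℝ)⁻¹ ^ (l / 2) :=
  ⟨by simp, fun _ => by positivity, fun a b => by
    rw [← pow_add]
    exact pow_le_pow_of_le_one (by positivity)
      (inv_le_one_of_one_le₀ (Nat.one_le_cast.2 (by omega))) (by omega)⟩

theorem inv_le_half {q : ℕ} (hq : 2 ≤ q) : (q : ℝ)⁻¹ ≤ 2⁻¹ :=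
  inv_anti₀ (by norm_num) (by exact_mod_cast hq)

theorem GO_two {q : ℕ} (hq : 2 ≤ q) (N : ℕ) :
    (coeff (2 * N) (GO q (fun _ => False) (2 * N)) : ℕ) ≤ (q : ℝ) ^ N * 3.463 := by
  rcases N with _ | N
  · simp [GO]; norm_num
  have h0 : ∀ k : ℕ, (2⁻¹ : ℝ) ^ (k + 1) < 1 := fun k =>
    pow_lt_one₀ (by norm_num) (by norm_num) (by omega)
  have h4 : ∀ i : ℕ, (1 : ℝ) ≤ 1 / (1 - 2⁻¹ ^ (i + 1)) := fun i =>
    (one_le_div₀ (by linarith [h0 i])).2 (sub_le_self _ (by positivity))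
  rw [GO, ← insert_Icc_succ_left_eq_Icc (by omega), prod_insert (by simp), sp_one]
  simp only [if_false]
  refine (subW_half hq).coeff_mul_prod_le (by positivity) (fun m l h => ?_) _ _ (fun i => ?_) h4
    (prod_le_of_inv _ (x := 4⁻¹) (c := 1.01) 5 (by norm_num) (by norm_num)
      (fun k => one_le_mul_of_one_le_of_one_le (h4 _) (h4 _)) (fun k hk => ?_)
      (by simp only [prod_range_succ]; norm_num))
  · obtain ⟨k, rfl | rfl⟩ := Nat.even_or_odd' m
    · obtain ⟨j, rfl, h1⟩ : ∃ j, l = 2 * j ∧ N + 1 = k + j := ⟨N + 1 - k, by omega, by omega⟩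
      rw [coeff_PP_even, h1, Nat.mul_div_cancel_left _ two_pos, pow_add, mul_assoc, ← mul_pow,
        mul_inv_cancel₀ (by positivity)]
      simp
    · rw [coeff_PP_odd, Nat.cast_zero]; positivity
  · refine ((subW_half hq).evw_sp_le (by simp) _ _).trans (((subW_half hq).comp _).evw_PP ?_
      (h0 i) _)
    rw [Nat.mul_div_cancel _ two_pos, show Order.succ 1 + i = i + 1 + 1 by simp; omega,
      pow_succ' _ (i + 1), ← mul_assoc, mul_inv_cancel₀ (by positivity), one_mul]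
    exact pow_le_pow_left₀ (by positivity) (inv_le_half hq) _
  · have h5 : (4⁻¹ : ℝ) ^ k ≤ 4⁻¹ ^ 5 := pow_le_pow_of_le_one (by norm_num) (by norm_num) hk
    have h6 : (0 : ℝ) ≤ 4⁻¹ ^ k := by positivity
    have h7 : (2⁻¹ : ℝ) ^ (2 * k) = 4⁻¹ ^ k := by rw [pow_mul]; norm_num
    rw [pow_succ, pow_succ, pow_succ, pow_succ, h7]
    generalize (4⁻¹ : ℝ) ^ k = y at h5 h6
    norm_num at h5
    rw [one_div_mul_one_div, one_div, inv_mul_le_iff₀ (mul_pos (by linarith) (by linarith))]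
    nlinarith [mul_nonneg h6 h6, mul_nonneg h6 (mul_nonneg h6 h6)]

/-- The weighted number of codes. -/
noncomputable def zz (S : Finset (Multiset Blk)) : ℝ := ∑ P ∈ S, 2⁻¹ ^ hs P

theorem zz_nonneg (S : Finset (Multiset Blk)) : 0 ≤ zz S := sum_nonneg fun _ _ => by positivity

theorem zz_biUnion {ι : Type*} (I : Finset ι) (S : ι → Finset (Multiset Blk)) :
    zz (I.biUnion S) ≤ ∑ i ∈ I, zz (S i) := by
  classical
  induction I using Finset.induction_on with
  | empty => simp [zz]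
  | insert i I hi ih =>
    rw [biUnion_insert, sum_insert hi]
    have h1 : zz _ + zz _ = zz (S i) + zz (I.biUnion S) := sum_union_inter
    linarith [zz_nonneg (S i ∩ I.biUnion S)]

theorem hs_add (l l' : Multiset Blk) : hs (l + l') = hs l + hs l' := by simp [hs]

theorem hs_lvl (k : ℕ) (o : ℕ × ℕ × ℕ) :
    hs (lvl k o) = (o.1 + o.2.1) * (k + 1) + o.2.2 * (2 * k + 1) := by
  simp [hs, lvl, add_mul]

theorem zz_image (l : Multiset Blk) (S : Finset (Multiset Blk)) :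
    zz (S.image (l + ·)) = 2⁻¹ ^ hs l * zz S := by
  rw [zz, sum_image fun _ _ _ _ => add_left_cancel, zz, mul_sum]
  simp only [hs_add, pow_add]

theorem zz_step {k : ℕ} {a b y : ℝ} (hy : 2⁻¹ ^ (k + 1) = y) (r : ℕ)
    (h : zz (PS r (k + 1) false) ≤ a ∧ zz (PS r (k + 1) true) ≤ b) :
    zz (PS (r + 1) k false) ≤ (1 + 2 * y ^ 2) * a + 2 * (y + y ^ 2) * b ∧
      zz (PS (r + 1) k true) ≤ a + (y + y ^ 2) * b := by
  have h1 : (2⁻¹ : ℝ) ^ (2 * k + 1) = 2 * y ^ 2 := by rw [← hy]; ring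
  have h2 : (2⁻¹ : ℝ) ^ (2 * (k + 1)) = y ^ 2 := by rw [← hy]; ring
  have h3 : 0 ≤ y := by rw [← hy]; positivity
  have h4 := mul_le_mul_of_nonneg_left h.1 (sq_nonneg y)
  have h5 := mul_le_mul_of_nonneg_left h.2 (sq_nonneg y)
  have h6 := mul_le_mul_of_nonneg_left h.2 h3
  constructor <;> refine (zz_biUnion _ _).trans ?_ <;>
    simp [opts, zz_image, hs_lvl, nxt, -inv_pow, hy, h1, h2] <;> linarith [h.1]

theorem zz_tail (r k : ℕ) (hk : 7 ≤ k) : zz (PS r k false) ≤ 1 + 4.1 * 2⁻¹ ^ (k + 1) ∧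
    zz (PS r k true) ≤ 1 + 4.1 * 2⁻¹ ^ (k + 1) := by
  induction r generalizing k with
  | zero => simp [PS, zz, hs]; positivity
  | succ r ih =>
    obtain ⟨h1, h2⟩ := zz_step rfl r (ih (k + 1) (by omega))
    have h3 : (2⁻¹ : ℝ) ^ (k + 1) ≤ 2⁻¹ ^ 8 := pow_le_pow_of_le_one (by norm_num) (by norm_num)
      (by omega)
    have h4 : (0 : ℝ) ≤ 2⁻¹ ^ (k + 1) := by positivity
    rw [pow_succ _ (k + 1)] at h1 h2
    generalize (2⁻¹ : ℝ) ^ (k + 1) = y at *
    norm_num at h3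
    constructor <;> nlinarith [mul_nonneg h4 h4, mul_nonneg h4 (mul_nonneg h4 h4)]

theorem zz_down {k : ℕ} {a b a' b' : ℝ}
    (h : ∀ r, zz (PS r (k + 1) false) ≤ a ∧ zz (PS r (k + 1) true) ≤ b) (h1 : 1 ≤ a') (h2 : 1 ≤ b')
    (h3 : (1 + 2 * (2⁻¹ ^ (k + 1)) ^ 2) * a + 2 * (2⁻¹ ^ (k + 1) + (2⁻¹ ^ (k + 1)) ^ 2) * b ≤ a')
    (h4 : a + (2⁻¹ ^ (k + 1) + (2⁻¹ ^ (k + 1)) ^ 2) * b ≤ b') (r : ℕ) :
    zz (PS r k false) ≤ a' ∧ zz (PS r k true) ≤ b' := by
  rcases r with _ | r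
  · simpa [PS, zz, hs] using And.intro h1 h2
  · exact ⟨(zz_step rfl r (h r)).1.trans h3, (zz_step rfl r (h r)).2.trans h4⟩

theorem zz_two : ∀ r, zz (PS r 2 false) ≤ 1.66963 ∧ zz (PS r 2 true) ≤ 1.45948 :=
  zz_down (a := 1.28963) (b := 1.20779) (zz_down (a := 1.13481) (b := 1.09894)
    (zz_down (a := 1.06515) (b := 1.0484) (zz_down (a := 1.03214) (b := 1.02402)
      (zz_down (fun r => zz_tail r 7 le_rfl) (by norm_num) (by norm_num) (by norm_num) (by norm_num))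
      (by norm_num) (by norm_num) (by norm_num) (by norm_num))
      (by norm_num) (by norm_num) (by norm_num) (by norm_num))
      (by norm_num) (by norm_num) (by norm_num) (by norm_num))
      (by norm_num) (by norm_num) (by norm_num) (by norm_num)

theorem zz_one : ∀ r, zz (PS r 1 false) ≤ 2.79051 ∧ zz (PS r 1 true) ≤ 2.12572 :=
  zz_down zz_two (by norm_num) (by norm_num) (by norm_num) (by norm_num)

theorem zz_zero (r : ℕ) : zz (PS r 0 true) ≤ 4.3848 :=
  (zz_down (a' := 8) zz_one (by norm_num) (by norm_num) (by norm_num) (by norm_num) r).2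

theorem card_le_of_code {F : Type*} [Field F] [Finite F] [CharP F 2] {G : Type*} [Group G]
    [Finite G] (S : Finset (Multiset Blk)) (n : ℕ)
    (lab : G → Multiset Blk → Multiset ((AlgebraicClosure F)ˣ × ℕ) → Prop)
    (h1 : ∀ g, ∃ P ∈ S, ∃ J m, lab g P J ∧ IA (Nat.card F) (2 * m) J ∧ Par (fun _ => True) J ∧
      m + hs P = n) (h2 : ∀ g g' P J, lab g P J → lab g' P J → IsConj g g') :
    (Nat.card (ConjClasses G) : ℝ) ≤ (Nat.card F : ℝ) ^ n * 3.463 * zz S := by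
  classical
  have := Fintype.ofFinite G
  have hq : 2 ≤ Nat.card F := Finite.one_lt_card
  choose P hP J m h3 h4 h5 h6 using h1
  choose rep hr using ConjClasses.exists_rep (α := G)
  rw [Nat.card_eq_fintype_card, ← card_univ, card_eq_sum_card_fiberwise (t := S)
    (f := fun C => P (rep C)) fun C _ => hP _, Nat.cast_sum, zz, mul_sum]
  refine sum_le_sum fun L _ => ?_
  rcases (univ.filter fun C => P (rep C) = L).eq_empty_or_nonempty with h | ⟨C₀, h⟩
  · rw [h, card_empty, Nat.cast_zero]; positivity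
  have h7 := h6 (rep C₀)
  rw [(mem_filter.1 h).2] at h7
  rw [← card_image_of_injOn (f := fun C => J (rep C)) fun C hC D hD e => by
    rw [← hr C, ← hr D, ConjClasses.mk_eq_mk_iff_isConj]
    refine h2 _ _ L _ ((mem_filter.1 hC).2 ▸ h3 _) ?_
    rw [show J (rep C) = J (rep D) from e, ← (mem_filter.1 hD).2]
    exact h3 _]
  refine (Nat.cast_le.2 (card_le_GO (F := F) 2 (n := 2 * m (rep C₀)) _ fun J hJ => ?_)).trans
    ((GO_two hq _).trans ?_)
  · obtain ⟨C, hC, rfl⟩ := mem_image.1 hJ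
    have h8 := h6 (rep C)
    rw [(mem_filter.1 hC).2] at h8
    exact ⟨by rw [show m (rep C₀) = m (rep C) by omega]; exact h4 _, h5 _⟩
  · rw [mul_right_comm, ← h7, pow_add, mul_assoc (_ ^ _), ← mul_pow]
    refine mul_le_mul_of_nonneg_right (le_mul_of_one_le_right (by positivity) (one_le_pow₀ ?_))
      (by norm_num)
    have : (2 : ℝ) ≤ Nat.card F := by exact_mod_cast hq
    linarith

end CF.Cls
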