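/-
The class number of symplectic groups in characteristic two.
-/
import Cfsg.Agent.Cls.KE5
import Cfsg.Agent.Cls.RepO

set_option autoImplicit false

namespace CF.Cls

open Module CF.Geom QuadraticMap Multiset

universe u

variable {F : Type u} [Field F] [CharP F 2]

namespace QT

variable {T A : QT F}

/-- Change of the quadratic form by a square. -/
noncomputable abbrev tw (T : QT F) (a : F) {y : T.V} (hy : T.N 1 y = 0) : QT F :=
  ⟨T.toTri, T.Q + a • linMulLin (T.B y) (T.B y), fun u v => by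
    simp only [polar, add_apply, _root_.smul_apply, linMulLin_apply, _root_.map_add, Q_add,
      smul_eq_mul]
    linear_combination a * T.B y u * T.B y v * two_eq (F := F), fun v => by
    have h1 : T.f y = y := by simpa [nn_one, sub_eq_zero] using hy
    have h2 := T.pres y v
    rw [h1] at h2
    simp [T.inv, h2]⟩

theorem tw_Q (a : F) {y : T.V} (hy : T.N 1 y = 0) (x : T.V) :
    (T.tw a hy).Q x = T.Q x + a * (T.B y x * T.B y x) := rfl

theorem IsBlk.exists_tw {v : Bool} (h : IsBlk ⟨v, 0, true⟩ A) :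
    ∃ A' : QT F, IsBlk ⟨v, 0, false⟩ A' ∧ A.toTri.Iso A'.toTri := by
  cases v
  · obtain ⟨v, w, a⟩ := h.wd
    refine ⟨A.tw (alc F true) a.nv, ⟨h.1, by simp, fun _ => ⟨v, w, a.nv, a.nw, a.b, fun i hi => ?_,
      fun i hi => ?_⟩⟩, .refl _⟩
    · rcases i with _ | i
      · simpa [tw_Q, B_self] using a.qv 0 le_rfl
      · rw [nn_of_le a.nv (by omega), _root_.map_zero, if_neg (by simp)]
    · rcases i with _ | i
      · have h1 := a.qw 0 le_rfl
        have h2 := a.b 0 le_rfl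
        simp only [nn_zero, if_true] at h1 h2
        simpa [tw_Q, h1, h2] using CharTwo.add_self_eq_zero _
      · rw [nn_of_le a.nw (by omega), _root_.map_zero, if_neg (by simp)]
  · obtain ⟨v, a⟩ := h.vd
    have h1 : A.N 1 (A.N 1 v) = 0 := by rw [nn_nn]; exact a.1
    refine ⟨A.tw (alc F true) h1, ⟨h.1, fun _ => ⟨v, a.1, fun i => ?_⟩, by simp⟩, .refl _⟩
    rw [tw_Q, a.2]
    rcases i with _ | _ | i
    · have h2 := a.tau
      simp only [mul_zero, zero_add] at h2
      simpa [B_comm _ v, h2] using CharTwo.add_self_eq_zero _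
    · simp [B_self]
    · rw [nn_of_le a.1 (k := i + 1 + 1) (by omega)]; simp

end QT

open QT

variable [Finite F] {V : Type u} [AddCommGroup V] [Module F V] [FiniteDimensional F V]

theorem card_SpG_two {B : LinearMap.BilinForm F V} (hB : B.Nondegenerate) (hA : B.IsAlt) {n : ℕ}
    (hV : finrank F V = 2 * n) : 5 * Nat.card (ConjClasses (SpG B)) ≤ 76 * Nat.card F ^ n := by
  have := Module.finite_of_finite F (M := V)
  have : Finite (V ≃ₗ[F] V) := DFunLike.finite _
  let tri : SpG B → Tri F 1 := fun g => ⟨V, B, g.1.toLinearMap, ⟨fun _ => rfl, hB.1, fun x y => by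
    simp [← hA.neg_eq x y, CharTwo.neg_eq]⟩, mem_SpG.1 g.2⟩
  have h := card_le_of_code (F := F) (PS n 0 true) n (fun g P J => ∃ l T, (tri g).Iso T.toTri ∧
    MF l T ∧ pp l = P ∧ T.ev = unp (P.bind Blk.ht) + J) (fun g => ?_) ?_
  · have h1 := mul_le_mul_of_nonneg_left (zz_zero n)
      (show (0 : ℝ) ≤ (Nat.card F : ℝ) ^ n * 3.463 by positivity)
    have h2 : (0 : ℝ) ≤ (Nat.card F : ℝ) ^ n := by positivity
    have : (5 * Nat.card (ConjClasses (SpG B)) : ℝ) ≤ 76 * Nat.card F ^ n := by linarith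
    exact_mod_cast this
  · obtain ⟨Q, h1, h2⟩ := exists_quad_fixed hB hA (tri g).pres
    obtain ⟨l, T, a1, a2, a3⟩ := exists_min (fun T => (tri g).Iso T.toTri)
      ⟨⟨tri g, Q, LinearMap.congr_fun₂ h1, h2⟩, .refl _⟩
    obtain ⟨J, m, b1, b2, b3, b4⟩ := exists_code (a1.finrank_eq.symm.trans hV) a2.1.ev_eq
    have h3 : ∀ v, l.count ⟨v, 0, true⟩ = 0 := fun v => by_contra fun h3 => by
      obtain ⟨l, rfl⟩ := exists_cons_of_mem (count_ne_zero.1 h3)
      obtain ⟨A, S, c1, c2, c3⟩ := a2.1.peel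
      obtain ⟨A', c4, c5⟩ := c1.exists_tw
      have := a3 _ (A'.add S) (a1.trans (c3.tri.trans (c5.add (.refl _)))) (.cons c4 c2 (.refl _))
      cases v <;> simp [Blk.mu] at this
    refine ⟨_, ?_, J, m, ⟨l, T, a1, a2.1, rfl, b1⟩, b2, b3, b4⟩
    rw [a2.ad.pp_eq fun b hb => (lt_hs hb).trans_le (b4 ▸ Nat.le_add_left _ _)]
    exact a2.ad.tot_mem n fun _ => ⟨h3 _, h3 _⟩
  · rintro g g' P J ⟨l, T, a1, a2, a3, a4⟩ ⟨l', T', b1, b2, b3, b4⟩
    obtain rfl := a2.eq_of_pp b2 (a4.trans b4.symm) (a3.trans b3.symm)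
    obtain ⟨Z, z1, z2⟩ := a1.trans ((a2.uniq b2 (a4.trans b4.symm)).tri.trans b1.symm)
    exact isConj_sub_of (mem_SpG.2 z1) z2

end CF.Cls
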