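/-
The type of a quadratic form in characteristic two in terms of a symplectic basis.
-/
import Cfsg.Agent.Cls.KE6
import Cfsg.Agent.Cls.El4

set_option autoImplicit false

namespace CF.Cls

open Module CF.Geom QuadraticMap

universe u

variable {F : Type u} [Field F]

/-- Elements of the form `t ^ 2 + t`. -/
def AS (x : F) : Prop := ∃ t : F, t ^ 2 + t = x

/-- A binary form. -/
def plq (a b : F) : QuadraticForm F (F × F) :=
  a • linMulLin (LinearMap.fst F F F) (LinearMap.fst F F F) +
    linMulLin (LinearMap.fst F F F) (LinearMap.snd F F F) +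
    b • linMulLin (LinearMap.snd F F F) (LinearMap.snd F F F)

theorem plq_apply (a b : F) (x : F × F) :
    plq a b x = a * (x.1 * x.1) + x.1 * x.2 + b * (x.2 * x.2) := rfl

theorem quad_sum {V ι : Type*} [AddCommGroup V] [Module F V] (Q : QuadraticForm F V)
    (v : ι → V) (h : ∀ i j, i ≠ j → polar Q (v i) (v j) = 0) (s : Finset ι) :
    Q (∑ i ∈ s, v i) = ∑ i ∈ s, Q (v i) := by
  classical
  induction s using Finset.induction_on with
  | empty => simp
  | insert i s hi ih =>
    rw [Finset.sum_insert hi, Finset.sum_insert hi, quad_add, ih, ← polarBilin_apply_apply,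
      map_sum, Finset.sum_eq_zero (s := s) (f := fun j => polarBilin Q (v i) (v j))
        fun j hj => h i j (by rintro rfl; exact hi hj), add_zero]

variable [CharP F 2]

theorem polar_plq (a b : F) (x y : F × F) : polar (plq a b) x y = x.1 * y.2 + x.2 * y.1 := by
  simp only [polar, plq_apply, Prod.fst_add, Prod.snd_add]
  linear_combination (a * x.1 * y.1 + b * x.2 * y.2) * two_eq (F := F)

theorem nondeg_pi_plq {n : ℕ} (a b : Fin n → F) :
    (polarBilin (QuadraticMap.pi fun i => plq (a i) (b i))).Nondegenerate :=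
  nondegenerate_of_left _ fun x hx => funext fun i => Prod.ext
    (by simpa [polar_plq, Pi.single_apply, apply_ite] using hx (Pi.single i (0, 1)))
    (by simpa [polar_plq, Pi.single_apply, apply_ite] using hx (Pi.single i (1, 0)))

theorem nondeg_plq (a b : F) : (polarBilin (plq a b)).Nondegenerate :=
  nondegenerate_of_left _ fun x hx => Prod.ext (by simpa [polar_plq] using hx (0, 1))
    (by simpa [polar_plq] using hx (1, 0))

theorem isPlus_plq (a b : F) : IsPlus (plq a b) ↔ AS (a * b) := by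
  constructor
  · rintro ⟨U, h1, h2⟩
    obtain ⟨⟨x, y⟩, hu, h3⟩ := U.exists_mem_ne_zero_of_ne_bot (by rintro rfl; simp at h1)
    have h4 := h2 _ hu
    rw [plq_apply] at h4
    by_cases hy : y = 0
    · subst hy
      have : x ≠ 0 := by rintro rfl; exact h3 rfl
      exact ⟨0, by simp_all⟩
    · refine ⟨a * x / y, ?_⟩
      field_simp
      linear_combination a * h4 - a * b * y ^ 2 * two_eq (F := F)
  · rintro ⟨t, ht⟩
    obtain ⟨u, h1, h2⟩ : ∃ u : F × F, u ≠ 0 ∧ plq a b u = 0 := by
      by_cases ha : a = 0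
      · exact ⟨(1, 0), by simp, by simp [plq_apply, ha]⟩
      · refine ⟨(t, a), by simp [ha], ?_⟩
        rw [plq_apply]
        linear_combination a * ht + a ^ 2 * b * two_eq (F := F)
    refine ⟨Submodule.span F {u}, by simp [finrank_span_singleton h1], fun v hv => ?_⟩
    obtain ⟨c, rfl⟩ := Submodule.mem_span_singleton.1 hv
    rw [quad_smul, h2, mul_zero]

variable [Finite F]

theorem as_alc {c : Bool} : AS (alc F c) ↔ c = false := by
  cases c
  · exact iff_of_true ⟨0, by simp⟩ rfl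
  · exact iff_of_false (fun ⟨t, ht⟩ => alc_true t (by rw [ht, CharTwo.add_self_eq_zero])) (by simp)

theorem as_add {x y : F} : AS (x + y) ↔ (AS x ↔ AS y) := by
  have h : ∀ x s : F, AS (x + s + s ^ 2) ↔ AS x := fun x s =>
    ⟨fun ⟨t, ht⟩ => ⟨t + s, by linear_combination ht + (t * s + s + s ^ 2) * two_eq (F := F)⟩,
      fun ⟨t, ht⟩ => ⟨t + s, by linear_combination ht + (t * s) * two_eq (F := F)⟩⟩
  obtain ⟨s, c, h1, -⟩ := exists_as x
  obtain ⟨t, d, h2, -⟩ := exists_as y
  rw [← h x s, ← h y t, ← h _ (s + t), show x + y + (s + t) + (s + t) ^ 2 = alc F c + alc F d by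
    linear_combination h1 + h2 + s * t * two_eq (F := F), h1, h2, as_alc, as_alc]
  cases c <;> cases d <;> simp [as_alc, CharTwo.add_self_eq_zero] <;> exact as_alc.2 rfl

theorem isPlus_pi_plq {n : ℕ} (a b : Fin n → F) :
    IsPlus (QuadraticMap.pi fun i => plq (a i) (b i)) ↔ AS (∑ i, a i * b i) := by
  induction n with
  | zero => exact iff_of_true ⟨⊥, by simp [finrank_pi_fintype], by simp⟩ ⟨0, by simp⟩
  | succ n ih =>
    rw [Fin.sum_univ_succ, as_add, ← ih, ← isPlus_plq, ← isPlus_prod_iff (nondeg_plq _ _)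
      (nondeg_pi_plq _ _) (by simp) (by simp [finrank_pi_fintype])]
    exact (isPlus_iff_of_equiv (Fin.consLinearEquiv F fun _ => F × F) one_ne_zero fun v => by
      simp [Fin.sum_univ_succ]).symm

theorem isPlus_sympl {V : Type u} [AddCommGroup V] [Module F V] [FiniteDimensional F V]
    {Q : QuadraticForm F V} {n : ℕ} (hn : finrank F V = 2 * n) (e f : Fin n → V)
    (h1 : ∀ i j, i ≠ j → polar Q (e i) (e j) = 0) (h2 : ∀ i j, i ≠ j → polar Q (f i) (f j) = 0)
    (h3 : ∀ i j, polar Q (e i) (f j) = if i = j then 1 else 0) :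
    IsPlus Q ↔ AS (∑ i, Q (e i) * Q (f i)) := by
  let L : (Fin n → F × F) →ₗ[F] V := ∑ i, ((LinearMap.toSpanSingleton F V (e i)).coprod
    (LinearMap.toSpanSingleton F V (f i))).comp (LinearMap.proj i)
  have h4 : ∀ x, Q (L x) = QuadraticMap.pi (fun i => plq (Q (e i)) (Q (f i))) x := fun x => by
    simp only [L, LinearMap.sum_apply, LinearMap.comp_apply, LinearMap.proj_apply,
      LinearMap.coprod_apply, LinearMap.toSpanSingleton_apply, pi_apply]
    rw [quad_sum Q _ fun i j h => by simp [h1 i j h, h2 i j h, h3, polar_comm Q (f i), h, h.symm]]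
    exact Finset.sum_congr rfl fun i _ => by simp [quad_add, quad_smul, h3, plq_apply]; ring
  have h5 : Function.Injective L := (injective_iff_map_eq_zero L).2 fun x hx =>
    (nondeg_pi_plq (fun i => Q (e i)) fun i => Q (f i)).1 x fun y => by
      rw [polarBilin_apply_apply, polar, ← h4, ← h4, ← h4, map_add, hx]; simp
  rw [← isPlus_pi_plq]
  exact (isPlus_iff_of_equiv (.ofBijective L ⟨h5,
    (LinearMap.injective_iff_surjective_of_finrank_eq_finrank (by
      simp [finrank_pi_fintype, hn, mul_comm])).1 h5⟩) one_ne_zero fun v =>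
    (h4 v).trans (one_mul _).symm).symm

namespace QT

variable {A T T' : QT F} {c : Bool}

theorem IsBlk.isPlus {b : Blk} (h : IsBlk b A) (hb : b.k = 0 ∨ b.v = true ∧ b.k = 1) :
    IsPlus A.Q ↔ b.c = false := by
  obtain ⟨v, k, c⟩ := b
  rw [← as_alc (F := F)]
  rcases hb with rfl | ⟨rfl, rfl⟩
  · cases v
    · obtain ⟨v, w, a⟩ := h.wd
      rw [isPlus_sympl h.1 ![v] ![w] (by simp) (by simp) (by simpa [A.pol] using a.b 0 le_rfl)]
      have h1 := a.qv 0 le_rfl
      have h2 := a.qw 0 le_rfl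
      simp only [nn_zero, if_true] at h1 h2
      simp [h1, h2]
    · obtain ⟨v, a⟩ := h.vd
      rw [isPlus_sympl h.1 ![v] ![A.N 1 v] (by simp) (by simp) (by simpa [A.pol] using a.tau)]
      have h1 := a.2 0
      simp only [nn_zero] at h1
      simp [h1, a.2]
  · obtain ⟨v, a⟩ := h.vd
    have b01 : A.B v (A.N 1 v) = alc F c := by simpa [a.2] using (Q_succ 0 v).symm
    have b12 : A.B (A.N 1 v) (A.N 2 v) = 1 := by simpa [a.2] using (Q_succ 1 v).symm
    have b02 : A.B v (A.N 2 v) = 1 := by simpa [B_self, b12] using (B_succ 0 1 v v).symm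
    have b03 : A.B v (A.N 3 v) = 1 := a.tau
    have b13 : A.B (A.N 1 v) (A.N 3 v) = 0 := B_zero a.1 (by omega) v
    have b23 : A.B (A.N 2 v) (A.N 3 v) = 0 := B_zero a.1 (by omega) v
    rw [isPlus_sympl h.1 ![A.N 1 v, A.N 3 v] ![A.N 2 v, v + A.N 1 v + alc F c • A.N 2 v]
      (by simp [A.pol, Fin.forall_fin_two, b13, B_comm (A.N 3 v)])
      (by simp [A.pol, Fin.forall_fin_two, B_self, b02, b12, B_comm (A.N 2 v),
        CharTwo.add_self_eq_zero])
      (by simp [A.pol, Fin.forall_fin_two, B_self, b01, b12, b03, b13, b23, B_comm (A.N 3 v),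
        B_comm (A.N 1 v) v, CharTwo.add_self_eq_zero])]
    simp [a.2]

omit [Finite F] in
theorem even_finrank (T : QT F) : Even (finrank F T.V) :=
  even_finrank_of_alt T.nondeg (polar_isAlt two_eq _)

theorem Iso.isPlus_add {S : QT F} (h : Iso T (A.add S)) :
    IsPlus T.Q ↔ (IsPlus A.Q ↔ IsPlus S.Q) := by
  obtain ⟨Z, z, -⟩ := h
  rw [← isPlus_prod_iff A.nondeg S.nondeg A.even_finrank S.even_finrank]
  exact isPlus_iff_of_equiv Z one_ne_zero fun v => by simpa using z v

theorem MF.not_flip {v : Bool} {k : ℕ} {l : Multiset Blk} (h : MF (⟨v, k, false⟩ ::ₘ l) T)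
    (h' : MF (⟨v, k, true⟩ ::ₘ l) T') (e : T.ev = T'.ev) (hb : k = 0 ∨ v = true ∧ k = 1) :
    ¬ (IsPlus T.Q ↔ IsPlus T'.Q) := by
  obtain ⟨A, S, a1, a2, a3⟩ := h.peel
  obtain ⟨A', S', b1, b2, b3⟩ := h'.peel
  rw [a3.ev_eq, b3.ev_eq, ev_add, ev_add, a1.ev_eq, b1.ev_eq] at e
  obtain ⟨Z, z, -⟩ := a2.uniq b2 (add_left_cancel e)
  rw [a3.isPlus_add, b3.isPlus_add, a1.isPlus hb, b1.isPlus hb,
    isPlus_iff_of_equiv Z one_ne_zero fun v => by simpa using z v]
  simp

end QT

end CF.Cls
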