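/-
The class number of orthogonal groups in characteristic two: upper bound.
-/
import Cfsg.Agent.Cls.KE7

set_option autoImplicit false

namespace CF.Cls

open Module CF.Geom QuadraticMap Multiset

universe u

/-- The options at the first two levels. -/
def ropts : Finset ((ℕ × ℕ × ℕ) × (ℕ × ℕ × ℕ)) :=
  {((1, 0, 0), (0, 0, 0)), ((1, 0, 0), (1, 0, 0)), ((1, 0, 0), (2, 0, 0)),
    ((2, 0, 0), (0, 0, 0)), ((2, 0, 0), (1, 0, 0)), ((2, 0, 0), (2, 0, 0)),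
    ((0, 0, 0), (0, 0, 0)), ((0, 0, 0), (0, 0, 1)), ((0, 0, 0), (1, 0, 0)), ((0, 0, 0), (2, 0, 0)),
    ((0, 0, 1), (1, 0, 0)), ((0, 0, 1), (2, 0, 0))}

/-- The set of reduced codes. -/
def RPS (r : ℕ) : Finset (Multiset Blk) :=
  ropts.biUnion fun o => (PS r 2 (nxt o.2)).image (lvl 0 o.1 + lvl 1 o.2 + ·)

theorem zz_RPS (r : ℕ) : zz (RPS r) ≤ 4.2 := by
  refine (zz_biUnion _ _).trans ?_
  simp [ropts, zz_image, hs_add, hs_lvl, nxt]
  linarith [(zz_two r).1, (zz_two r).2]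

/-- The block whose label is omitted. -/
def slot (l : Multiset Blk) : Bool × ℕ :=
  if ⟨true, 0, false⟩ ∈ l then (true, 0) else if ⟨true, 1, false⟩ ∈ l then (true, 1) else (false, 0)

theorem slot_spec (l : Multiset Blk) : (slot l).2 = 0 ∨ (slot l).1 = true ∧ (slot l).2 = 1 := by
  unfold slot; split_ifs <;> simp

/-- Reduction of the labels. -/
def Red (l l' : Multiset Blk) : Prop := l = l' ∨ ∃ s, l' = ⟨(slot l').1, (slot l').2, false⟩ ::ₘ s ∧
  l = ⟨(slot l').1, (slot l').2, true⟩ ::ₘ s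

variable {l l' : Multiset Blk}

theorem Red.bind_eq (h : Red l l') : l.bind Blk.ht = l'.bind Blk.ht := by
  rcases h with rfl | ⟨s, h1, h2⟩
  · rfl
  · rw [h2, congrArg (·.bind Blk.ht) h1, cons_bind, cons_bind]; rfl

theorem Ad.flip {v : Bool} {k : ℕ} (h : Ad (⟨v, k, true⟩ ::ₘ l)) : Ad (⟨v, k, false⟩ ::ₘ l) := by
  have h1 : ∀ w j, count ⟨w, j, true⟩ ((⟨v, k, false⟩ : Blk) ::ₘ l) ≤
      count ⟨w, j, true⟩ ((⟨v, k, true⟩ : Blk) ::ₘ l) := fun w j => by simp [count_cons]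
  have h2 : ∀ j c, ⟨true, j, c⟩ ∈ (⟨v, k, false⟩ : Blk) ::ₘ l →
      ∃ c', ⟨true, j, c'⟩ ∈ (⟨v, k, true⟩ : Blk) ::ₘ l := fun j c hc => by
    rcases mem_cons.1 hc with h3 | h3
    · exact ⟨true, by simp_all⟩
    · exact ⟨c, mem_cons_of_mem h3⟩
  refine ⟨fun j => le_trans ?_ (h.v3 j), fun j => (h1 _ _).trans (h.vt j),
    fun j => (h1 _ _).trans (h.wt j), fun j => Nat.le_zero.1 ((h1 _ _).trans (h.wo j).le),
    fun j c hc => ?_, fun j c hc => ?_, fun j c hc => ?_⟩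
  · simp only [count_cons, Blk.mk.injEq]
    split_ifs <;> simp_all <;> omega
  all_goals obtain ⟨c', hc'⟩ := h2 j c hc
  exacts [Nat.le_zero.1 ((h1 _ _).trans (h.vv j c' hc').le),
    Nat.le_zero.1 ((h1 _ _).trans (h.wv j c' hc').le),
    Nat.le_zero.1 ((h1 _ _).trans (h.wv' j c' hc').le)]

theorem Ad.exists_red (h : Ad l) : ∃ l', Red l l' ∧ Ad l' ∧ l'.count ⟨true, 0, true⟩ = 0 ∧
    l'.count ⟨true, 1, true⟩ = 0 ∧ (l'.count ⟨true, 1, false⟩ = 0 → l'.count ⟨false, 0, true⟩ = 0) := by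
  by_cases h1 : ⟨true, 0, true⟩ ∈ l
  · obtain ⟨s, rfl⟩ := exists_cons_of_mem h1
    have h2 := h.flip
    refine ⟨_, .inr ⟨s, by simp [slot], by simp [slot]⟩, h2, by simpa using h.vt 0,
      h2.vv 0 _ (mem_cons_self _ _), fun _ => h2.wv 0 _ (mem_cons_self _ _)⟩
  by_cases h2 : ⟨true, 0, false⟩ ∈ l
  · exact ⟨l, .inl rfl, h, count_eq_zero.2 h1, h.vv 0 _ h2, fun _ => h.wv 0 _ h2⟩
  by_cases h3 : ⟨true, 1, true⟩ ∈ l
  · obtain ⟨s, rfl⟩ := exists_cons_of_mem h3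
    simp only [mem_cons, not_or] at h1 h2
    exact ⟨_, .inr ⟨s, by simp [slot, h2], by simp [slot, h2]⟩, h.flip, by simp [h1],
      by simpa using h.vt 1, by simp⟩
  by_cases h4 : ⟨true, 1, false⟩ ∈ l
  · exact ⟨l, .inl rfl, h, count_eq_zero.2 h1, count_eq_zero.2 h3,
      fun h => (count_eq_zero.1 h h4).elim⟩
  by_cases h5 : ⟨false, 0, true⟩ ∈ l
  · obtain ⟨s, rfl⟩ := exists_cons_of_mem h5
    simp only [mem_cons, not_or] at h1 h2 h3 h4
    exact ⟨_, .inr ⟨s, by simp [slot, h2, h4], by simp [slot, h2, h4]⟩, h.flip, by simp [h1],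
      by simp [h3], fun _ => by simpa using h.wt 0⟩
  · exact ⟨l, .inl rfl, h, count_eq_zero.2 h1, count_eq_zero.2 h3, fun _ => count_eq_zero.2 h5⟩

theorem Ad.tot_mem_RPS (h : Ad l) (h1 : l.count ⟨true, 0, true⟩ = 0)
    (h2 : l.count ⟨true, 1, true⟩ = 0)
    (h3 : l.count ⟨true, 1, false⟩ = 0 → l.count ⟨false, 0, true⟩ = 0) (r : ℕ) :
    tot l (r + 2) 0 ∈ RPS r := by
  refine Finset.mem_biUnion.2 ⟨(cn l 0, cn l 1), ?_, Finset.mem_image.2 ⟨_, h.tot_mem r h.nxt,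
    add_assoc _ _ _⟩⟩
  have a1 := h.v3 0
  have a2 := h.v3 1
  have a3 := h.wt 0
  have a4 := h.wt 1
  have a5 := mt (h.wv 0 false)
  have a6 := mt (h.wv 1 false)
  have a7 := mt (h.wv' 0 false)
  simp only [← count_eq_zero, mul_zero, zero_add] at *
  simp only [cn, mul_zero, h1, h2, add_zero] at *
  generalize l.count ⟨true, 0, false⟩ = a at *
  generalize l.count ⟨true, 1, false⟩ = b at *
  generalize l.count ⟨false, 0, true⟩ = c at *
  generalize l.count ⟨false, 2 * 1, true⟩ = d at *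
  interval_cases a <;> interval_cases b <;> interval_cases c <;> interval_cases d <;>
    first | decide | omega

open QT

variable {F : Type u} [Field F] [CharP F 2] [Finite F] {V : Type u} [AddCommGroup V] [Module F V]
  [FiniteDimensional F V] {Q : QuadraticForm F V}

omit [CharP F 2] [Finite F] in
/-- The data of an orthogonal transformation. -/
abbrev oQT (hQ : (polarBilin Q).Nondegenerate) (g : OG Q) : QT F :=
  ⟨oTri hQ g, Q, fun _ _ => rfl, mem_OG.1 g.2⟩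

theorem card_OG_two (hQ : (polarBilin Q).Nondegenerate) {n : ℕ} (hn : 2 ≤ n)
    (hV : finrank F V = 2 * n) : Nat.card (ConjClasses (OG Q)) ≤ 15 * Nat.card F ^ n := by
  have := Module.finite_of_finite F (M := V)
  have : Finite (V ≃ₗ[F] V) := DFunLike.finite _
  obtain ⟨r, rfl⟩ := Nat.exists_eq_add_of_le' hn
  have h := card_le_of_code (F := F) (RPS r) (r + 2) (fun g P J => ∃ l l', MF l (oQT hQ g) ∧
    Red l l' ∧ pp l' = P ∧ (oQT hQ g).ev = unp (P.bind Blk.ht) + J) (fun g => ?_) ?_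
  · have h1 := mul_le_mul_of_nonneg_left (zz_RPS r)
      (show (0 : ℝ) ≤ (Nat.card F : ℝ) ^ (r + 2) * 3.463 by positivity)
    have h2 : (0 : ℝ) ≤ (Nat.card F : ℝ) ^ (r + 2) := by positivity
    have : (Nat.card (ConjClasses (OG Q)) : ℝ) ≤ 15 * Nat.card F ^ (r + 2) := by linarith
    exact_mod_cast this
  · obtain ⟨l, T, rfl, a2, -⟩ := exists_min (· = oQT hQ g) ⟨_, rfl⟩
    obtain ⟨l', c1, c2, c3, c4, c5⟩ := a2.ad.exists_red
    obtain ⟨J, m, b1, b2, b3, b4⟩ := exists_code (T := oQT hQ g) (l := l') hV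
      (c1.bind_eq ▸ a2.1.ev_eq)
    refine ⟨_, ?_, J, m, ⟨l, l', a2.1, c1, rfl, b1⟩, b2, b3, b4⟩
    rw [c2.pp_eq fun b hb => (lt_hs hb).trans_le (b4 ▸ Nat.le_add_left _ _)]
    exact c2.tot_mem_RPS c3 c4 c5 r
  · rintro g g' P J ⟨l, s, a1, a2, a3, a4⟩ ⟨l', s', b1, b2, b3, b4⟩
    have h1 := a4.trans b4.symm
    obtain ⟨E, c1, c2⟩ := a1.ev_eq
    obtain ⟨E', c3, c4⟩ := b1.ev_eq
    obtain rfl : s = s' := eq_of_pp (a3.trans b3.symm) (by
      rw [← a2.bind_eq, ← b2.bind_eq]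
      exact (unp_add_inj (c2.symm.trans (h1.trans c4)) c1 c3).1)
    obtain rfl : l = l' := by
      rcases a2 with rfl | ⟨t, d1, d2⟩ <;> rcases b2 with rfl | ⟨t', d3, d4⟩
      · rfl
      · exact ((d3 ▸ a1 : MF (_ ::ₘ t') _).not_flip (d4 ▸ b1) h1 (slot_spec _) Iff.rfl).elim
      · exact ((d1 ▸ b1 : MF (_ ::ₘ t) _).not_flip (d2 ▸ a1) h1.symm (slot_spec _) Iff.rfl).elim
      · rw [d2, d4, (cons_inj_right _).1 (d1.symm.trans d3)]
    obtain ⟨Z, z1, z2⟩ := a1.uniq b1 h1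
    exact isConj_sub_of (mem_OG.2 z1) z2

end CF.Cls
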