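/-
The class number of `Ω` in odd dimension: upper bound.
-/
import Cfsg.Agent.Cls.KO6

set_option autoImplicit false

namespace CF.Cls

open Polynomial Module CF.Geom QuadraticMap

universe u

theorem coprime_dvd_mul_iff {R : Type*} [CommSemiring R] {a b c : R}
    (h : IsCoprime a b) : a ∣ b * c ↔ a ∣ c := ⟨h.dvd_of_dvd_mul_left, fun h => h.mul_left _⟩

theorem kd_pow {F V : Type*} [Field F] [AddCommGroup V] [Module F V] (f : End F V) (m : ℕ)
    (P : F[X]) : kd (f ^ m) P = kd f (P.comp (X ^ m)) := by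
  rw [kd, kd, aeval_comp, aeval_X_pow]

theorem det_oNeg' {F V : Type*} [Field F] [AddCommGroup V] [Module F V] [FiniteDimensional F V]
    (Q : QuadraticForm F V) : LinearMap.det (oNeg Q).1.toLinearMap = (-1) ^ finrank F V := by
  rw [show (oNeg Q).1.toLinearMap = (-1 : F) • LinearMap.id by ext; simp, LinearMap.det_smul,
    LinearMap.det_id, mul_one]

theorem sim_pow_cyc {K : Type*} [Field K] {x : K} (hx : x ≠ 0) {m : ℕ} (hm : (m : K) ≠ 0) {e : ℕ}
    (he : 0 < e) : Sim (cyc ((X - C x) ^ e) ^ m) (cyc ((X - C (x ^ m)) ^ e)) := by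
  obtain ⟨e, rfl⟩ := Nat.exists_eq_add_one_of_ne_zero he.ne'
  have := fd_adjoinRoot (pow_ne_zero (e + 1) (X_sub_C_ne_zero x))
  have := fd_adjoinRoot (pow_ne_zero (e + 1) (X_sub_C_ne_zero (x ^ m)))
  have h0 : IsCoprime (X - C x) (∑ i ∈ Finset.range m, X ^ i * C x ^ (m - 1 - i)) := by
    rw [(irreducible_X_sub_C x).coprime_iff_not_dvd, dvd_iff_isRoot, IsRoot, eval_finsetSum,
      Finset.sum_congr rfl (g := fun _ => x ^ (m - 1)) fun i hi => by
        simp [← pow_add, Nat.add_sub_cancel' (Nat.le_sub_one_of_lt (Finset.mem_range.1 hi))]]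
    simp [hx, hm]
  have h1 : ∀ k, (cyc ((X - C x) ^ (e + 1)) ^ m - algebraMap K _ (x ^ m)) ^ k = 0 ↔ e + 1 ≤ k :=
    fun k => by
    rw [← pow_dvd_pow_iff (X_sub_C_ne_zero x) (not_isUnit_X_sub_C x),
      ← coprime_dvd_mul_iff (h0.pow (m := e + 1) (n := k)), ← mul_pow, geom_sum₂_mul,
      ← aeval_cyc_eq_zero_iff]
    simp
  have h2 := ed_eq_singleton (n := e) (by rw [finrank_adjoinRoot, natDegree_pow,
    natDegree_X_sub_C, mul_one]) ((h1 _).2 le_rfl) (by rw [Ne, h1]; omega)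
  refine sim_iff_ed.2 (h2.trans ((hasED_cyc _).ed_eq fun a ha => ?_).symm)
  rw [Multiset.mem_singleton.1 ha]
  exact ⟨_, _, monic_X_sub_C _, irreducible_X_sub_C _, he, rfl⟩

variable {F : Type u} [Field F]

namespace Tri

/-- An isometry commuting with the given one, with prescribed determinant and spinor norm. -/
def Cm (T : Tri F 1) (d : F) (s : ℤˣ) : Prop :=
  ∃ (Q : QuadraticForm F T.V) (y : OG Q), polarBilin Q = T.B ∧ (∀ v, y.1 (T.f v) = T.f (y.1 v)) ∧
    LinearMap.det y.1.toLinearMap = d ∧ sn y = s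

variable {T T' : Tri F 1} {d : F} {s : ℤˣ}

theorem exists_polar (h2 : (2 : F) ≠ 0) (T : Tri F 1) :
    ∃ Q : QuadraticForm F T.V, polarBilin Q = T.B :=
  ⟨LinearMap.BilinMap.toQuadraticMap ((2 : F)⁻¹ • T.B), by
    rw [polarBilin_toQuadraticMap ⟨fun x y => by simpa [h2] using (T.eh.symm y x).symm⟩, smul_smul,
      mul_inv_cancel₀ h2, one_smul]⟩

variable [Finite F]

theorem Cm.iso (h2 : (2 : F) ≠ 0) (h : Cm T d s) (h' : Iso T T') : Cm T' d s := by
  obtain ⟨Q, y, h1, h3, rfl, rfl⟩ := h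
  obtain ⟨Z, z1, z2⟩ := h'
  have h4 : ∀ v, Q.comp Z.symm.toLinearMap (Z v) = 1 * Q v := by simp
  have h5 : polarBilin (Q.comp Z.symm.toLinearMap) = T'.B := by
    ext u v
    rw [polarBilin_comp, h1]
    simpa using (z1 (Z.symm u) (Z.symm v)).symm
  refine ⟨_, ogMap Z h4 y, h5, fun v => ?_, ?_, sn_equiv_one h2 (h1 ▸ T.eh.nondegenerate)
    (h5 ▸ T'.eh.nondegenerate) Z h4 (ogMap_apply Z h4 y)⟩
  · obtain ⟨v, rfl⟩ := Z.surjective v
    rw [← z2, ogMap_apply, ogMap_apply, h3, z2]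
  · rw [← LinearMap.det_conj y.1.toLinearMap Z]
    exact congrArg _ (LinearMap.ext fun v => by simpa using ogMap_apply Z h4 y (Z.symm v))

theorem Cm.add (h2 : (2 : F) ≠ 0) (h : Cm T d s) (S : Tri F 1) : Cm (T.add S) d s := by
  obtain ⟨Q, y, h1, h3, rfl, rfl⟩ := h
  obtain ⟨Q', h4⟩ := S.exists_polar h2
  refine ⟨Q.prod Q', ogProd y 1, ?_, fun v => Prod.ext (h3 v.1) rfl, ?_, ?_⟩
  · refine LinearMap.ext₂ fun u v => ?_
    rw [osum_apply, ← h1, ← h4]; simp
  · rw [ogProd_coe, LinearMap.det_prodMap]; exact (congrArg _ LinearMap.det_id).trans (mul_one _)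
  · rw [sn_ogProd h2 (h1 ▸ T.eh.nondegenerate) (h4 ▸ S.eh.nondegenerate), sn_one, mul_one]

theorem cm_neg (h2 : (2 : F) ≠ 0) (T : Tri F 1) :
    Cm T ((-1) ^ finrank F T.V) (T.ds * sqSign (2 : F) ^ finrank F T.V) := by
  obtain ⟨Q, h⟩ := T.exists_polar h2
  refine ⟨Q, oNeg Q, h, fun v => by simp, det_oNeg' Q, ?_⟩
  rw [sn_oNeg h2 (h ▸ T.eh.nondegenerate), Cls.ds, h]; rfl

end Tri

open Tri

variable [Finite F] {V : Type u} [AddCommGroup V] [Module F V] [FiniteDimensional F V]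
  {Q : QuadraticForm F V}

omit [Finite F] in
theorem exists_of_cm (h2 : (2 : F) ≠ 0) (hQ : (polarBilin Q).Nondegenerate) {g : OG Q} {d : F}
    {s : ℤˣ} (h : Cm (oTri hQ g) d s) : ∃ y ∈ Subgroup.centralizer {g},
      LinearMap.det y.1.toLinearMap = d ∧ sn y = s := by
  obtain ⟨Q', y, h1, h3, h4⟩ := h
  have h5 : Q = Q' := QuadraticMap.ext fun v => mul_left_cancel₀ h2 (by
    simpa [polar_self] using (LinearMap.congr_fun₂ h1 v v).symm)
  subst h5
  exact ⟨y, Subgroup.mem_centralizer_singleton_iff.2 (Subtype.ext (LinearEquiv.ext h3)), h4⟩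

variable {K : Type*} [Field K] [Algebra F K] [IsAlgClosed K] [Algebra.IsAlgebraic F K]
  (p : ℕ) [hp : Fact p.Prime] [CharP F p]
include p

theorem ev_pow {W : Type*} [AddCommGroup W] [Module F W] [FiniteDimensional F W] {f : End F W}
    (hf : IsUnit f) {m : ℕ} (hm : ¬ p ∣ m) :
    ev K (f ^ m) = (ev K f).map fun x => (x.1 ^ m, x.2) := by
  have h1 := adm_ev' (K := K) p hf
  have := charP_of_injective_algebraMap (algebraMap F K).injective p
  obtain ⟨g, h2, h3⟩ := exists_ev (F := F) (V := W) (J := (ev K f).map fun x => (x.1 ^ m, x.2)) p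
    ⟨Multiset.forall_mem_map_iff.2 h1.pos, by simpa [dm] using h1.dim, by
      unfold St
      conv_rhs => rw [← h1.st]
      simp [← zpow_natCast, ← zpow_mul, mul_comm]⟩
  rw [← h3]
  refine (sim_iff_ev (hf.pow m) h2).1 (sim_of_kd fun P => ?_)
  rw [kd_pow, kd_eq_ev (K := K) hf, kd_eq_ev (K := K) h2, h3, Multiset.map_map]
  refine congrArg _ (Multiset.map_congr rfl fun x hx => ?_)
  have := (sim_pow_cyc x.1.ne_zero (mt (CharP.cast_eq_zero_iff K p m).1 hm) (h1.pos x hx)).kd_eq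
    (P.map (algebraMap F K))
  rw [kd_pow] at this
  rw [map_comp, Polynomial.map_pow, map_X]
  exact this

theorem exists_cm_sJ (h2 : (2 : F) ≠ 0) {d e : ℕ} (hd : 0 < d) (he : Odd e) {x : Kˣ}
    (hx : x ^ 2 ≠ 1) (h : PM (Nat.card F) d x) :
    ∃ T : Tri F 1, ev K T.f = sJ (Nat.card F) d x e ∧ Cm T 1 (-1) := by
  have hT := ta_K (K := K) F p
  have hP := pq_card (F := F) p
  obtain ⟨ε, h1⟩ : ∃ ε : ℤˣ, (orderOf x : ℤ) ∣ (Nat.card F : ℤ) ^ d - ε := by
    simp only [orderOf_dvd_iff_zpow_eq_one, zpow_sub]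
    exact h.elim (fun h => ⟨1, by simp [h]⟩) fun h => ⟨-1, by simp [h]⟩
  obtain ⟨γ, h3, h4⟩ := hT.exists_pm' hP hd (ε := ε) (m := ((Nat.card F : ℤ) ^ d - ε).natAbs)
    (by simp)
  obtain ⟨m, rfl, h5⟩ : ∃ m, x = γ ^ m ∧ ¬ p ∣ m := by
    obtain ⟨k, rfl⟩ := hT.cyc γ x (by rw [h3]; exact Int.natCast_dvd.1 h1)
    by_cases h5 : p ∣ k
    · exact ⟨k + orderOf γ, by simp [pow_add], fun h6 => hp.out.one_lt.ne'
        ((hT.cop γ).symm.eq_one_of_dvd ((Nat.dvd_add_right h5).1 h6))⟩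
    · exact ⟨k, rfl, h5⟩
  have h6 : γ ^ 2 ≠ 1 := fun h6 => hx (by rw [pow_right_comm, h6, one_pow])
  have h7 := ia_sJ h4 he.pos
  have h8 := fun y => hT.sq_ne_one_of_mem_sJ hP h6 (d := d) (e := e) (y := y)
  obtain ⟨t, s, h9⟩ := (ro_of_ne p h7 h8).rs
  have h10 := (h9.sJ' p h2 h6 (ε := ε) (by simp [h3])).2
  obtain ⟨W, _, _, _, Q, g, a1, a2, -, rfl⟩ := h9
  refine ⟨oTri a1 (g ^ m), ?_, Q, g, rfl, fun v => LinearEquiv.congr_fun
    (congrArg Subtype.val (Commute.self_pow g m).eq) v, (det_eq_one_iff (K := K) p g).2 ?_,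
    (Int.units_eq_one_or _).resolve_left fun h11 => ?_⟩
  · rw [show (oTri a1 (g ^ m)).f = g.1.toLinearMap ^ m from map_pow (subE _) g m,
      ev_pow p (isUnit_OG g) h5, a2]
    simp [sJ, bJ, ← zpow_natCast, ← zpow_mul, mul_comm]
  · rw [a2]; exact (hT.even_dm hP h7 h8).2
  · rcases h10.1 h11 with h11 | h11
    · exact Nat.not_even_iff_odd.2 he h11
    · have := Nat.le_of_dvd (h3 ▸ hT.pos γ) (Int.natAbs_dvd_natAbs.2 h11)
      have := hT.pos γ
      simp only [Int.natAbs_mul, Int.natAbs_natCast, ← h3, Int.reduceAbs] at *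
      omega

theorem exists_cm (h2 : (2 : F) ≠ 0) (T : Tri F 1) {x : Kˣ × ℕ} (h : x ∈ ev K T.f)
    (hx : x.1 ^ 2 ≠ 1) (he : Odd x.2) : Cm T 1 (-1) := by
  obtain ⟨D⟩ := T.nonempty_dec le_rfl
  have hT := ta_K (K := K) F p
  have h1 : x ∈ ev K D.U.f := by
    rw [D.ev_eq p, Multiset.mem_add, Multiset.mem_sum] at h
    refine h.resolve_left fun ⟨y, _, hy⟩ => hx ?_
    rw [Multiset.eq_of_mem_replicate hy]
    cases y.1 <;> simp [sg]
  obtain ⟨d, J, h3, -, h4, h5, h6, -⟩ := hT.exists_add_sJ (pq_card p)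
    (ia_ev p D.U.eh D.U.pres) h1 hx
  obtain ⟨T₁, h7, h8⟩ := exists_cm_sJ p h2 h3 he hx h4
  obtain ⟨W, _, _, _, Q, f, a1, a2, a3⟩ := ro_of_ne p h6 fun y hy => D.sq_ne y (by simp [h5, hy])
  let T₂ : Tri F 1 := ⟨W, polarBilin Q, f, eh_polar a1, pres_polar a2⟩
  have h9 : Iso D.U (T₁.add T₂) := D.U.eh.exists_isom_of_unit (T₁.add T₂).eh D.U.pres
    (T₁.add T₂).pres ((sim_iff_ev (K := K) D.U.unit (T₁.add T₂).unit).2 (by
      rw [h5, ev_prodMap, h7, a3])) D.unit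
  exact ((((((h8.add h2 T₂).iso h2 h9.symm).add h2 _).iso h2 (iso_comm _ _)).add h2 _).iso h2
    (iso_comm _ _)).iso h2 D.iso.symm

omit p in
theorem card_commutator_le (h2 : (2 : F) ≠ 0) (hQ : (polarBilin Q).Nondegenerate) {N : ℕ}
    (hN : 0 < N) (hV : finrank F V = 2 * N + 1) :
    10 * Nat.card (ConjClasses (commutator (OG Q))) ≤ 73 * Nat.card F ^ N := by
  classical
  obtain ⟨p, _, _⟩ := exists_charP F
  have := Module.finite_of_finite F (M := V)
  have : Finite (V ≃ₗ[F] V) := DFunLike.finite _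
  have h1 : (-1 : F) ≠ 1 := fun h => h2 (by linear_combination -h)
  let χ : OG Q →* ℤˣ := MonoidHom.mk' (fun g => sn g *
    if LinearMap.det g.1.toLinearMap = 1 then 1 else sn (oNeg Q)) fun g h => by
      rw [sn_mul h2 hQ, show (g * h).1.toLinearMap = g.1.toLinearMap * h.1.toLinearMap from rfl,
        map_mul, mul_mul_mul_comm]
      rcases det_OG hQ g with a | a <;> rcases det_OG hQ h with b | b <;> simp [a, b, h1]
  have h3 : LinearMap.det (oNeg Q).1.toLinearMap = -1 := by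
    simp [det_oNeg', hV, pow_succ]
  have h4 := four_mul_card_le (N := commutator (OG Q)) (H := χ.ker) (z := oNeg Q)
    (fun g hg => by simp [χ, (mem_commutator_iff_sn h2 hQ g).1 hg]) (by simp [χ, h3, h1])
    (fun h => h1 (h3.symm.trans ((mem_commutator_iff_sn h2 hQ _).1 h).1))
    (fun x => Subtype.ext (LinearEquiv.ext fun v => (map_neg x.1 v).symm))
    (index_commutator_odd hQ h2 (by omega))
  have h5 := card_OG_odd h2 hQ hV
  have h6 := card_fiber_tri_one (K := AlgebraicClosure F) p h2 (oTri hQ) (isConj_of_oTri h2 hQ)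
    (fun g => Subgroup.centralizer {g} ≤ χ.ker) (fun m => (sqSign (2 : F) ^ m *
      if (-1 : F) ^ m = 1 then 1 else sn (oNeg Q))⁻¹) fun g hg W S h => by
      obtain ⟨y, y1, y2, y3⟩ := exists_of_cm h2 hQ (((cm_neg h2 W).add h2 S).iso h2 h.symm)
      have := hg y1
      rw [MonoidHom.mem_ker, MonoidHom.mk'_apply, y2, y3, mul_assoc] at this
      exact eq_inv_of_mul_eq_one_left this
  have := Fintype.ofFinite (OG Q)
  let s := (Finset.univ.filter fun g : OG Q => Subgroup.centralizer {g} ≤ χ.ker).image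
    fun g => ev (AlgebraicClosure F) g.1.toLinearMap
  have h7 := card_le_sum (fun C => ∃ g, ConjClasses.mk g = C ∧ Subgroup.centralizer {g} ≤ χ.ker)
    _ s (fun _ => 1) (fun _ ⟨g, h, hg⟩ => ⟨_, Finset.mem_image_of_mem _ (Finset.mem_filter.2
      ⟨Finset.mem_univ g, hg⟩), g, h, hg, rfl⟩) fun J _ => h6 J
  have h8 := card_le_GS p (n := 2 * N + 1) s fun J hJ => by
    obtain ⟨g, hg, rfl⟩ := Finset.mem_image.1 hJ
    refine ⟨hV ▸ ia_OG p hQ g, par_ev_symm p h2 (eh_polar hQ) (pres_polar (mem_OG.1 g.2)),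
      fun x hx ho => by_contra fun h => ?_⟩
    obtain ⟨y, y1, y2, y3⟩ := exists_of_cm h2 hQ (exists_cm p h2 (oTri hQ g) hx h ho)
    simpa [χ, y2, y3] using (Finset.mem_filter.1 hg).2 y1
  have h9 := GS_le (three_le_card h2) hN
  simp only [Finset.sum_const, smul_eq_mul, mul_one] at h7
  omega

end CF.Cls
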