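/-
Lower bounds for the class numbers of orthogonal groups in odd characteristic.
-/
import Cfsg.Agent.Cls.KO7

set_option autoImplicit false

namespace CF.Cls

open Polynomial Module CF.Geom QuadraticMap

universe u

section

variable {K : Type*} [Field K] [IsAlgClosed K]

theorem exists_add_inv (t : K) : ∃ x : Kˣ, (x : K) + (x : K)⁻¹ = t := by
  obtain ⟨x, hx⟩ := IsAlgClosed.exists_root (C 1 * X ^ 2 + C (-t) * X + C 1)
    (by rw [degree_quadratic one_ne_zero]; simp)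
  have h : x ^ 2 - t * x + 1 = 0 := by simpa [sub_eq_add_neg] using hx
  have h0 : x ≠ 0 := by rintro rfl; simp at h
  exact ⟨Units.mk0 x h0, by simp only [Units.val_mk0]; field_simp; linear_combination h⟩

/-- The pair of eigenvalues with a given trace. -/
noncomputable def prT (t : K) : Multiset (Kˣ × ℕ) :=
  {((exists_add_inv t).choose, 1), ((exists_add_inv t).choose⁻¹, 1)}

theorem prT_eq (x : Kˣ) : prT ((x : K) + (x : K)⁻¹) = {(x, 1), (x⁻¹, 1)} := by
  have h := (exists_add_inv ((x : K) + (x : K)⁻¹)).choose_spec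
  rw [prT]
  generalize (exists_add_inv ((x : K) + (x : K)⁻¹)).choose = y at h
  have h1 : ((y : K) - x) * (y - (x : K)⁻¹) = 0 := by
    have := x.ne_zero
    have := y.ne_zero
    field_simp at h ⊢
    linear_combination h
  rcases mul_eq_zero.1 h1 with h2 | h2
  · rw [Units.ext (sub_eq_zero.1 h2)]
  · obtain rfl : y = x⁻¹ := Units.ext (by simpa using sub_eq_zero.1 h2)
    rw [inv_inv, Multiset.pair_comm]

variable (K) {F : Type u} [Field F] [Algebra F K]

/-- The semisimple data attached to a polynomial in the traces. -/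
noncomputable def JP (ψ : F[X]) : Multiset (Kˣ × ℕ) := (ψ.aroots K).bind prT

variable {K}

theorem JP_map {β : Type*} (ψ : F[X]) (f : Kˣ × ℕ → β) (g : K → Multiset β)
    (h : ∀ x : Kˣ, {f (x, 1), f (x⁻¹, 1)} = g ((x : K) + (x : K)⁻¹)) :
    (JP K ψ).map f = (ψ.aroots K).bind g := by
  rw [JP, Multiset.map_bind]
  refine Multiset.bind_congr fun t _ => ?_
  obtain ⟨x, rfl⟩ := exists_add_inv t
  rw [prT_eq, ← h]; rfl

theorem snd_of_mem_JP {ψ : F[X]} {x : Kˣ × ℕ} (h : x ∈ JP K ψ) : x.2 = 1 := by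
  obtain ⟨t, -, h⟩ := Multiset.mem_bind.1 h
  simp only [prT, Multiset.insert_eq_cons, Multiset.mem_cons, Multiset.mem_singleton] at h
  rcases h with rfl | rfl <;> rfl

theorem prod_JP {M : Type*} [CommMonoid M] (ψ : F[X]) (f : Kˣ × ℕ → M) (g : K → M)
    (h : ∀ x : Kˣ, f (x, 1) * f (x⁻¹, 1) = g ((x : K) + (x : K)⁻¹)) :
    ((JP K ψ).map f).prod = ((ψ.aroots K).map g).prod := by
  rw [JP, Multiset.map_bind, Multiset.prod_bind]
  refine congrArg _ (Multiset.map_congr rfl fun t _ => ?_)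
  obtain ⟨x, rfl⟩ := exists_add_inv t
  rw [prT_eq, ← h]; simp

theorem dt_JP (ψ : F[X]) : dt (JP K ψ) = 1 := by
  rw [dt, prod_JP ψ _ (fun _ => 1) (by simp)]; simp

theorem JP_inj {ψ ψ' : F[X]} (h : ψ.Monic) (h' : ψ'.Monic) (e : JP K ψ = JP K ψ') : ψ = ψ' := by
  have h1 : ∀ ψ : F[X], (JP K ψ).map (fun x => (x.1 : K) + (x.1 : K)⁻¹) = 2 • ψ.aroots K :=
    fun ψ => by
    rw [JP_map ψ _ (fun t => {t, t}) fun x => by simp [add_comm], two_nsmul]
    simp [show (ψ.aroots K).bind singleton = _ from Multiset.bind_singleton _ id]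
  have h2 := nsmul_right_injective two_ne_zero ((h1 ψ).symm.trans (e ▸ h1 ψ'))
  refine map_injective _ (algebraMap F K).injective ?_
  rw [(IsAlgClosed.splits _).eq_prod_roots_of_monic (h.map _),
    (IsAlgClosed.splits (ψ'.map _)).eq_prod_roots_of_monic (h'.map _)]
  exact congrArg (fun s : Multiset K => (s.map (X - C ·)).prod) h2

theorem prod_sub_JP {ψ : F[X]} (h : ψ.Monic) {c : F} (hc : c * c = 1) :
    ((JP K ψ).map fun x => (algebraMap F K c - x.1) ^ x.2).prod =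
      algebraMap F K (c ^ ψ.natDegree * ψ.eval (2 * c)) := by
  have h1 : algebraMap F K c * algebraMap F K c = 1 := by rw [← map_mul, hc, map_one]
  rw [prod_JP ψ _ (fun t => algebraMap F K c * (algebraMap F K (2 * c) - t)) fun x => by
    have := x.mul_inv
    rw [Units.val_inv_eq_inv_val] at this ⊢
    rw [map_mul, map_ofNat]
    linear_combination this - h1, Multiset.prod_map_mul, map_mul _ (c ^ _), ← eval₂_at_apply, ← eval_map,
    (IsAlgClosed.splits _).eval_eq_prod_roots_of_monic (h.map _)]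
  simp [IsAlgClosed.card_aroots_eq_natDegree, aroots_def]

variable [Finite F] (p : ℕ) [hp : Fact p.Prime] [CharP F p]

theorem ia_JP (ψ : F[X]) : IA (Nat.card F) (2 * ψ.natDegree) (JP K ψ) := by
  have := Fintype.ofFinite F
  refine ⟨⟨fun x hx => by simp [snd_of_mem_JP hx], ?_, ?_⟩, ?_⟩
  · rw [dm, JP_map ψ _ (fun _ => {1, 1}) fun _ => rfl, Multiset.sum_bind]
    simp [IsAlgClosed.card_aroots_eq_natDegree, mul_comm]
  · rw [St, JP_map ψ _ (fun t => prT (FiniteField.frobeniusAlgHom F K t)) fun x => by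
      rw [map_add, map_inv₀, show FiniteField.frobeniusAlgHom F K x = (x ^ Nat.card F : Kˣ) by simp,
        prT_eq]
      simp, ← Multiset.bind_map, JP, aroots_def]
    erw [roots_map_of_injective_of_card_eq_natDegree
      (f := (FiniteField.frobeniusAlgHom F K : K →+* K)) (RingHom.injective _)
      IsAlgClosed.card_roots_eq_natDegree]
    rw [Polynomial.map_map, AlgHom.comp_algebraMap]
  · exact JP_map ψ _ prT fun x => by rw [prT_eq, Multiset.pair_comm]; simp

variable [Algebra.IsAlgebraic F K]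
include p

theorem rs_any (h2 : (2 : F) ≠ 0) {n : ℕ} {J : Multiset (Kˣ × ℕ)} (h : IA (Nat.card F) n J)
    (h1 : Par Even J) {z : Kˣ} (hz : z ^ 2 = 1) (h3 : (z, 1) ∈ J) (t : ℤˣ) : ∃ s, RS F J t s := by
  obtain ⟨J, rfl⟩ := Multiset.exists_cons_of_mem h3
  rw [← Multiset.singleton_add] at *
  obtain ⟨t', s', h4⟩ := (ro_of_par p h2 (h.of_add ((ta_K F p).ia_singleton (pq_card p)
    (x := (z, 1)) hz one_pos)).1 (h1.of_add (par_of_not (by simp)))).rs
  obtain ⟨s, h5⟩ : ∃ s, RS F {(z, 1)} (t * t') s := by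
    rcases eq_or_of_sq_units hz with rfl | rfl
    · exact ⟨_, rs_one p h2 0 _⟩
    · exact ⟨_, by simpa [tw] using (rs_one (K := K) p h2 0 (t * t')).neg p h2⟩
  exact ⟨_, by simpa [mul_assoc] using h5.add h2 h4⟩

theorem par_JP (ψ : F[X]) : Par Even (JP K ψ) :=
  par_of_not fun x hx _ => by simp [snd_of_mem_JP hx]

variable {V : Type u} [AddCommGroup V] [Module F V] [FiniteDimensional F V] {Q : QuadraticForm F V}

theorem exists_OG_JP (h2 : (2 : F) ≠ 0) (hQ : (polarBilin Q).Nondegenerate) {ψ : F[X]}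
    (h : ψ.Monic) (hV : finrank F V = 2 * ψ.natDegree)
    (h1 : ψ.eval 2 * ((-1) ^ ψ.natDegree * ψ.eval (-2)) ≠ 0 →
      sqSign (ψ.eval 2 * ((-1) ^ ψ.natDegree * ψ.eval (-2))) = ds Q) :
    ∃ g : OG Q, ev K g.1.toLinearMap = JP K ψ := by
  have h3 := ia_JP (K := K) ψ
  suffices h4 : ∃ s, RS F (JP K ψ) (ds Q) s from
    (h4.choose_spec.exists_OG p h2 hQ (h3.dim.trans hV.symm)).imp fun _ h => h.1
  by_cases h4 : ∃ x ∈ JP K ψ, x.1 ^ 2 = 1
  · obtain ⟨x, h5, h6⟩ := h4
    exact rs_any p h2 h3 (par_JP p ψ) h6 (snd_of_mem_JP h5 ▸ h5) _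
  push Not at h4
  obtain ⟨t, s, h5⟩ := (ro_of_ne p h3 h4).rs
  refine ⟨s, ?_⟩
  convert h5
  obtain ⟨W, _, _, _, Q', g, a1, a2, rfl, -⟩ := h5
  have h6 := isUnit_sq_sub_one_of_ev (isUnit_OG g) (a2 ▸ h4)
  have h7 : ∀ c : F, c * c = 1 → LinearMap.det (algebraMap F (End F W) c - g.1.toLinearMap) =
      c ^ ψ.natDegree * ψ.eval (2 * c) := fun c hc => (algebraMap F K).injective (by
    rw [det_sub_ev (isUnit_OG g), a2, prod_sub_JP h hc])
  have h8 : LinearMap.det (g.1.toLinearMap * g.1.toLinearMap - 1) =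
      ψ.eval 2 * ((-1) ^ ψ.natDegree * ψ.eval (-2)) := by
    have := h7 1 (by simp)
    have := h7 (-1) (by simp)
    rw [show g.1.toLinearMap * g.1.toLinearMap - 1 = (algebraMap F (End F W) 1 - g.1.toLinearMap) *
      (algebraMap F (End F W) (-1) - g.1.toLinearMap) by simp [sub_mul, mul_sub], map_mul]
    simp_all
  rw [ds_of_unit a1 g h6, (det_eq_one_iff (K := K) p g).2 (a2 ▸ dt_JP ψ), one_mul, h8,
    h1 (h8 ▸ (h6.map LinearMap.det).ne_zero)]

end

variable {F : Type u} [Field F] [Finite F] {V : Type u} [AddCommGroup V] [Module F V]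
  [FiniteDimensional F V] {Q : QuadraticForm F V}

theorem card_monic' (F : Type*) [Field F] (n : ℕ) :
    Nat.card {χ : F[X] // χ.Monic ∧ χ.natDegree = n} = Nat.card F ^ n := by
  simpa [Nat.card_fun] using card_monic (F := F) n fun _ => True

theorem ev_eq_of_isConj {K : Type*} [Field K] [Algebra F K] [IsAlgClosed K] (g g' : OG Q)
    (h : IsConj g g') : ev K g.1.toLinearMap = ev K g'.1.toLinearMap := by
  obtain ⟨c, rfl⟩ := isConj_iff.1 h
  exact (sim_iff_ev (isUnit_OG _) (isUnit_OG _)).1 ⟨c.1, fun v => by simp⟩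

theorem le_card_OG_odd (h2 : (2 : F) ≠ 0) (hQ : (polarBilin Q).Nondegenerate) {N : ℕ}
    (hV : finrank F V = 2 * N + 1) : 2 * Nat.card F ^ N ≤ Nat.card (ConjClasses (OG Q)) := by
  obtain ⟨p, _, _⟩ := exists_charP F
  have := Module.finite_of_finite F (M := V)
  have : Finite (V ≃ₗ[F] V) := DFunLike.finite _
  have h1 : ∀ b, (sg b : (AlgebraicClosure F)ˣ) ^ 2 = 1 := fun b => by cases b <;> simp [sg]
  refine le_trans (by simp [card_monic']) (card_le_classes _ ev_eq_of_isConj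
    (fun c : Bool × {χ : F[X] // χ.Monic ∧ χ.natDegree = N} =>
      {(sg c.1, 1)} + JP (AlgebraicClosure F) c.2.1) ?_ fun c => ?_)
  · rintro ⟨b, ψ⟩ ⟨b', ψ'⟩ h
    have h3 := neg_one_ne_one_units (F := F) (K := AlgebraicClosure F) h2
    obtain rfl : b = b' := by
      have := congrArg dt h
      simp only [dt_add, dt_JP, dt_singleton] at this
      cases b <;> cases b' <;> simp_all [sg, eq_comm]
    exact congrArg _ (Subtype.ext (JP_inj ψ.2.1 ψ'.2.1 (add_left_cancel h)))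
  · have h3 := ((ta_ac (F := F) p).ia_singleton (pq_card (F := F) p) (x := (sg c.1, 1)) (h1 _)
      one_pos).add (ia_JP c.2.1)
    exact (ro_of_par p h2 h3 ((par_of_not (by simp)).add (par_JP p _))).exists_OG_odd p hQ
      (by rw [h3.dim, hV, c.2.2.2, add_comm]) (hV ▸ odd_two_mul_add_one N)

theorem le_card_OG_even (h2 : (2 : F) ≠ 0) (hQ : (polarBilin Q).Nondegenerate) {N : ℕ}
    (hN : 2 ≤ N) (hV : finrank F V = 2 * N) :
    Nat.card F ^ N ≤ 2 * Nat.card (ConjClasses (OG Q)) := by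
  classical
  obtain ⟨p, _, _⟩ := exists_charP F
  have := Module.finite_of_finite F (M := V)
  have : Finite (V ≃ₗ[F] V) := DFunLike.finite _
  have := finite_monic (F := F) N fun _ => True
  have : Finite {χ : F[X] // χ.Monic ∧ χ.natDegree = N} :=
    Finite.of_surjective (fun x : {χ : F[X] // (χ.Monic ∧ χ.natDegree = N) ∧ True} =>
      (⟨x.1, x.2.1⟩ : {χ : F[X] // χ.Monic ∧ χ.natDegree = N})) fun x => ⟨⟨x.1, x.2, trivial⟩, rfl⟩
  let R : {χ : F[X] // χ.Monic ∧ χ.natDegree = N} → Prop := fun ψ =>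
    ψ.1.eval 2 * ((-1) ^ N * ψ.1.eval (-2)) ≠ 0 →
      sqSign (ψ.1.eval 2 * ((-1) ^ N * ψ.1.eval (-2))) = ds Q
  have h1 : Nat.card {ψ // R ψ} ≤ Nat.card (ConjClasses (OG Q)) :=
    card_le_classes _ ev_eq_of_isConj (fun ψ => JP (AlgebraicClosure F) ψ.1.1)
      (fun a b h => Subtype.ext (Subtype.ext (JP_inj a.1.2.1 b.1.2.1 h))) fun ψ =>
        exists_OG_JP p h2 hQ ψ.1.2.1 (by rw [hV, ψ.1.2.2]) (by rw [ψ.1.2.2]; exact ψ.2)
  obtain ⟨ν, h3, h4⟩ := exists_sqSign h2 (-1)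
  have h5 : (4 : F) ≠ 0 := by rw [show (4 : F) = 2 * 2 by norm_num]; exact mul_ne_zero h2 h2
  have h6 : ∀ ψ : F[X], (ψ + C ((ν - 1) * ψ.eval 2 / 4) * (X + C 2)).eval 2 = ν * ψ.eval 2 :=
    fun ψ => by simp; field_simp; ring
  have h7 : Nat.card {ψ // ¬ R ψ} ≤ Nat.card {ψ // R ψ} := by
    refine Nat.card_le_card_of_injective (fun ψ => ⟨⟨ψ.1.1 + C ((ν - 1) * ψ.1.1.eval 2 / 4) *
      (X + C 2), ?_⟩, fun _ => ?_⟩) fun a b h => ?_
    · have h8 : (C ((ν - 1) * ψ.1.1.eval 2 / 4) * (X + C 2)).natDegree < ψ.1.1.natDegree :=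
        (natDegree_C_mul_le _ _).trans_lt (by rw [natDegree_X_add_C, ψ.1.2.2]; omega)
      exact ⟨ψ.1.2.1.add_of_left (degree_lt_degree h8),
        (natDegree_add_eq_left_of_natDegree_lt h8).trans ψ.1.2.2⟩
    · obtain ⟨h8, h9⟩ := Classical.not_imp.1 ψ.2
      have h10 : (ψ.1.1 + C ((ν - 1) * ψ.1.1.eval 2 / 4) * (X + C 2)).eval (-2) =
        ψ.1.1.eval (-2) := by simp
      rw [h6, mul_assoc, h10, sqSign_mul _ _ h3 h8, h4]
      generalize sqSign (_ : F) = a at h9 ⊢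
      generalize ds Q = b at h9 ⊢
      revert a b; decide
    · have h8 : a.1.1 + _ = b.1.1 + _ := congrArg (fun x => x.1.1) h
      have h9 := congrArg (eval 2) h8
      rw [h6, h6, mul_right_inj' h3] at h9
      rw [h9, add_left_inj] at h8
      exact Subtype.ext (Subtype.ext h8)
  rw [← card_monic', Nat.card_congr (Equiv.sumCompl R).symm, Nat.card_sum]
  omega

end CF.Cls
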