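/-
The class number of orthogonal groups in characteristic two: lower bound.
-/
import Cfsg.Agent.Cls.KE8
import Cfsg.Agent.Cls.KO8

set_option autoImplicit false

namespace CF.Cls

open Polynomial Module CF.Geom QuadraticMap

universe u

variable {F : Type u} [Field F]

theorem exists_frob_fun {ψ : F[X]} (h : ψ.Monic) :
    ∃ l : AdjoinRoot ψ →ₗ[F] F, ∀ x, (∀ y, l (x * y) = 0) → x = 0 := by
  refine ⟨(lcoeff F (ψ.natDegree - 1)).comp (AdjoinRoot.modByMonicHom h), fun x hx => ?_⟩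
  obtain ⟨p, rfl⟩ := AdjoinRoot.mk_surjective x
  rw [← AdjoinRoot.mk_leftInverse h (AdjoinRoot.mk ψ p), AdjoinRoot.modByMonicHom_mk] at hx ⊢
  have h1 := degree_modByMonic_lt p h
  generalize p %ₘ ψ = r at hx h1
  by_cases h2 : r = 0
  · simp [h2]
  have h3 := natDegree_lt_natDegree h2 h1
  have h4 := hx (AdjoinRoot.mk ψ (X ^ (ψ.natDegree - 1 - r.natDegree)))
  rw [← map_mul, LinearMap.comp_apply, AdjoinRoot.modByMonicHom_mk, (modByMonic_eq_self_iff h).2
    (degree_lt_degree (by rw [natDegree_mul_X_pow _ h2]; omega)), lcoeff_apply,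
    coeff_mul_X_pow', if_pos (by omega), show ψ.natDegree - 1 - (ψ.natDegree - 1 - r.natDegree) =
      r.natDegree by omega] at h4
  exact absurd (leadingCoeff_eq_zero.1 h4) h2

theorem coeff_one_charpoly {ι : Type*} [Fintype ι] [DecidableEq ι] {A M : Matrix ι ι F}
    (h : A * M = 1) : M.charpoly.coeff 1 = -A.trace * M.charpoly.coeff 0 := by
  rw [← Matrix.inv_eq_right_inv h, Matrix.charpoly_inv A (IsUnit.of_mul_eq_one _ h), ← C_1,
    ← C_neg, ← C_pow, ← C_mul, coeff_C_mul, coeff_C_mul, Matrix.coeff_charpolyRev_eq_neg_trace,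
    coeff_zero_eq_eval_zero, Matrix.eval_charpolyRev]
  ring

variable [CharP F 2]

theorem sum_sum_symm {ι : Type*} [Fintype ι] (s : ι → ι → F) (h : ∀ i j, s i j = s j i) :
    ∑ i, ∑ j, s i j = ∑ i, s i i := by
  classical
  rw [← Finset.sum_product', ← Finset.diag_union_offDiag, Finset.sum_union
    (Finset.disjoint_diag_offDiag _), Finset.sum_diag, add_eq_left]
  exact Finset.sum_involution (fun p _ => p.swap) (fun p _ => by
    rw [h]; exact CharTwo.add_self_eq_zero _)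
    (fun p hp _ e => (Finset.mem_offDiag.1 hp).2.2 (congrArg Prod.snd e))
    (fun p hp => by simpa [eq_comm] using hp) fun _ _ => rfl

namespace QT

omit [CharP F 2] in
/-- The data of an isometry. -/
abbrev mk' {V : Type u} [AddCommGroup V] [Module F V] [FiniteDimensional F V]
    {Q : QuadraticForm F V} (hQ : (polarBilin Q).Nondegenerate) {f : End F V}
    (hf : ∀ v, Q (f v) = Q v) : QT F :=
  ⟨⟨V, polarBilin Q, f, eh_polar hQ, pres_polar hf⟩, Q, fun _ _ => rfl, hf⟩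

omit [CharP F 2] in
/-- The characteristic polynomial of `f + f⁻¹`. -/
def Cp (T : QT F) (χ : F[X]) : Prop := ∃ g, T.f * g = 1 ∧ (T.f + g).charpoly = χ

variable [Finite F]

theorem exists_cp {ψ : F[X]} (h : ψ.Monic) (h0 : ψ.coeff 0 ≠ 0) : ∃ T : QT F,
    finrank F T.V = 2 * ψ.natDegree ∧ T.Cp (ψ ^ 2) ∧
      (IsPlus T.Q ↔ AS (ψ.coeff 1 / ψ.coeff 0)) := by
  classical
  have := fd_adjoinRoot h.ne_zero
  obtain ⟨l, hl⟩ := exists_frob_fun h
  set s := AdjoinRoot.root ψ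
  obtain ⟨r, hr⟩ : ∃ r, r * s = 1 := ⟨AdjoinRoot.mk ψ (-C (ψ.coeff 0)⁻¹ * ψ.divX), by
    rw [show s = AdjoinRoot.mk ψ X from rfl, ← map_mul, ← map_one (AdjoinRoot.mk ψ),
      AdjoinRoot.mk_eq_mk, mul_assoc, eq_sub_of_add_eq (divX_mul_X_add ψ)]
    have : C (ψ.coeff 0)⁻¹ * C (ψ.coeff 0) = 1 := by rw [← C_mul, inv_mul_cancel₀ h0, C_1]
    exact ⟨-C (ψ.coeff 0)⁻¹, by linear_combination this⟩⟩
  have h2 : (2 : AdjoinRoot ψ) = 0 := by
    rw [← map_ofNat (algebraMap F (AdjoinRoot ψ)), two_eq, map_zero]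
  let B : LinearMap.BilinForm F (AdjoinRoot ψ) := (LinearMap.mul F _).compr₂ l
  have hB : B.Nondegenerate := ⟨hl, fun x hx => hl x fun y => by rw [mul_comm]; exact hx y⟩
  let p := LinearMap.fst F (AdjoinRoot ψ) (AdjoinRoot ψ)
  let q := LinearMap.snd F (AdjoinRoot ψ) (AdjoinRoot ψ)
  let Q : QuadraticForm F (AdjoinRoot ψ × AdjoinRoot ψ) := LinearMap.BilinMap.toQuadraticMap
    (B.compl₁₂ p p + B.compl₁₂ p q + B.compl₁₂ ((LinearMap.mul F _ r).comp q) q)
  have q1 : ∀ x, Q x = l (x.1 * x.1 + x.1 * x.2 + r * x.2 * x.2) := fun x => by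
    simp [Q, B, p, q]
  have q2 : ∀ x y, polar Q x y = l (x.1 * y.2 + y.1 * x.2) := fun x y => by
    rw [polar, q1, q1, q1, ← map_sub, ← map_sub]
    congr 1
    simp only [Prod.fst_add, Prod.snd_add]
    linear_combination (x.1 * y.1 + r * x.2 * y.2) * h2
  have q3 : (polarBilin Q).Nondegenerate := nondegenerate_of_left _ fun x hx => Prod.ext
    (hl _ fun y => by simpa [q2] using hx (0, y))
    (hl _ fun y => by simpa [q2, mul_comm] using hx (y, 0))
  let m := LinearMap.mul F _ s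
  let f : End F (AdjoinRoot ψ × AdjoinRoot ψ) := (p + q + m.comp p).prod (q + m.comp p)
  have q4 : ∀ x, Q (f x) = Q x := fun x => by
    rw [q1, q1]
    congr 1
    simp only [f, p, q, m, LinearMap.prod_apply, Function.prod, LinearMap.add_apply,
      LinearMap.comp_apply, LinearMap.fst_apply, LinearMap.snd_apply, LinearMap.mul_apply']
    linear_combination (s * x.1 ^ 2 + 2 * x.1 * x.2) * hr + (x.1 * x.2 + x.1 * x.2 + x.2 ^ 2 +
      2 * s * x.1 ^ 2 + 2 * s * x.1 * x.2 + s ^ 2 * x.1 ^ 2) * h2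
  refine ⟨mk' q3 q4, by simp [finrank_adjoinRoot, two_mul], ⟨(p + q).prod (q + m.comp (p + q)),
    ?_, ?_⟩, ?_⟩
  · refine LinearMap.ext fun x => Prod.ext ?_ ?_ <;> simp [f, p, q, m]
    · linear_combination (x.2 + s * (x.1 + x.2)) * h2
    · linear_combination (s * (x.1 + x.2)) * h2
  · rw [show f + (p + q).prod (q + m.comp (p + q)) = (cyc ψ).prodMap (cyc ψ) from ?_,
      LinearMap.charpoly_prodMap, charpoly_cyc h, pow_two]
    refine LinearMap.ext fun x => Prod.ext ?_ ?_ <;> simp [f, p, q, m, cyc_apply]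
    · linear_combination (x.1 + x.2) * h2
    · linear_combination (x.2 + s * x.1) * h2
  let b := finBasis F (AdjoinRoot ψ)
  let d := B.dualBasis hB b
  have d1 : ∀ x i, d.repr x i = l (x * b i) := B.dualBasis_repr_apply hB b
  rw [isPlus_sympl (Q := Q) (by simp [two_mul]) (fun i => (b i, 0)) (fun i => (0, d i))
    (by simp [q2]) (by simp [q2]) fun i j => by
      rw [q2, mul_comm, ← B.apply_dualBasis_left hB b j i]; simp [B, d]]
  have d2 := coeff_one_charpoly (A := LinearMap.toMatrix d d (LinearMap.mul F _ r))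
    (M := LinearMap.toMatrix d d (cyc ψ)) (by
      rw [← LinearMap.toMatrix_mul, ← LinearMap.toMatrix_one (v₁ := d)]
      exact congrArg _ (LinearMap.ext fun x => by simp [cyc_apply, ← mul_assoc, hr, s]))
  rw [LinearMap.charpoly_toMatrix, charpoly_cyc h, CharTwo.neg_eq] at d2
  rw [d2, mul_div_cancel_right₀ _ h0, Matrix.trace]
  simp only [q1, Matrix.diag_apply, LinearMap.toMatrix_apply, d1, LinearMap.mul_apply', mul_zero,
    add_zero, zero_add, zero_mul]
  rw [← sum_sum_symm (fun i j => l (b i * b j) * l (r * d i * d j)) fun i j => by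
    rw [mul_comm (b i), mul_right_comm r]]
  refine iff_of_eq (congrArg _ (Finset.sum_congr rfl fun i _ => ?_))
  conv_rhs => rw [← d.sum_repr (b i)]
  simp [Finset.mul_sum, d1]

theorem exists_cp' {ψ : F[X]} (h : ψ.Monic) (P : Prop)
    (h1 : ψ.coeff 0 ≠ 0 → (AS (ψ.coeff 1 / ψ.coeff 0) ↔ P)) (h2 : ψ.coeff 0 = 0 → ψ.coeff 1 ≠ 0) :
    ∃ T : QT F, finrank F T.V = 2 * ψ.natDegree ∧ T.Cp (ψ ^ 2) ∧ (IsPlus T.Q ↔ P) := by
  classical
  by_cases h0 : ψ.coeff 0 = 0
  swap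
  · obtain ⟨T, a1, a2, a3⟩ := exists_cp h h0
    exact ⟨T, a1, a2, a3.trans (h1 h0)⟩
  obtain ⟨φ, rfl⟩ := X_dvd_iff.2 h0
  have h3 := monic_X.of_mul_monic_left h
  obtain ⟨T, a1, ⟨g, a2, a3⟩, -⟩ := exists_cp h3 (by simpa using h2 h0)
  let S := mk' (nondeg_plq 1 (alc F (decide ¬ (IsPlus T.Q ↔ P)))) (f := 1) fun _ => rfl
  refine ⟨T.add S, ?_, ⟨g.prodMap 1, ?_, ?_⟩, ?_⟩
  · rw [finrank_prod, a1, monic_X.natDegree_mul h3]; simp [S]; ring
  · exact (LinearMap.prodMap_mul _ _ _ _).trans (by rw [a2, one_mul]; rfl)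
  · rw [show (T.add S).f + g.prodMap 1 = (T.f + g).prodMap (0 : End F (F × F)) from
      LinearMap.ext fun x => Prod.ext rfl (by
        change x.2 + x.2 = 0
        rw [← two_smul F, two_eq, zero_smul]), LinearMap.charpoly_prodMap, a3,
      LinearMap.charpoly_zero]
    simp; ring
  · rw [(Iso.refl _).isPlus_add, isPlus_plq, one_mul, as_alc]
    simp only [decide_eq_false_iff_not, not_not]
    tauto

end QT

open QT

variable [Finite F] {V : Type u} [AddCommGroup V] [Module F V] [FiniteDimensional F V]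
  {Q : QuadraticForm F V}

theorem exists_OG_cp (hQ : (polarBilin Q).Nondegenerate) {T : QT F} {χ : F[X]}
    (h1 : finrank F T.V = finrank F V) (h2 : T.Cp χ) (h3 : IsPlus T.Q ↔ IsPlus Q) :
    ∃ g : OG Q, (g.1.toLinearMap + g.1.symm.toLinearMap).charpoly = χ := by
  obtain ⟨Z, hZ⟩ : ∃ Z : T.V ≃ₗ[F] V, ∀ v, Q (Z v) = T.Q v := by
    by_cases h : IsPlus Q
    · exact exists_equiv_of_isPlus T.nondeg hQ (h3.2 h) h h1
    · exact exists_equiv_of_not_isPlus T.nondeg hQ (mt h3.1 h) h T.even_finrank h1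
  obtain ⟨g, a1, rfl⟩ := h2
  let E := Z.symm.trans ((LinearEquiv.ofBijective T.f ((End.isUnit_iff _).1 T.unit)).trans Z)
  have hE : ∀ v, E (Z v) = Z (T.f v) := fun v => by simp [E]
  refine ⟨⟨E, mem_OG.2 fun v => ?_⟩, ?_⟩
  · obtain ⟨v, rfl⟩ := Z.surjective v
    rw [hE, hZ, hZ, T.inv]
  · rw [← Z.charpoly_conj]
    refine congrArg _ (LinearMap.ext fun v => ?_)
    obtain ⟨v, rfl⟩ := Z.surjective v
    have : E.symm (Z v) = Z (g v) := by
      rw [LinearEquiv.symm_apply_eq, hE, ← End.mul_apply, a1, End.one_apply]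
    simp [hE, this]

theorem le_card_OG_two (hQ : (polarBilin Q).Nondegenerate) {N : ℕ} (hN : 2 ≤ N)
    (hV : finrank F V = 2 * N) : Nat.card F ^ N ≤ 2 * Nat.card (ConjClasses (OG Q)) := by
  classical
  have := Module.finite_of_finite F (M := V)
  have : Finite (V ≃ₗ[F] V) := DFunLike.finite _
  have := finite_monic (F := F) N fun _ => True
  have : Finite {χ : F[X] // χ.Monic ∧ χ.natDegree = N} :=
    Finite.of_surjective (fun x : {χ : F[X] // (χ.Monic ∧ χ.natDegree = N) ∧ True} =>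
      (⟨x.1, x.2.1⟩ : {χ : F[X] // χ.Monic ∧ χ.natDegree = N})) fun x => ⟨⟨x.1, x.2, trivial⟩, rfl⟩
  let R : {χ : F[X] // χ.Monic ∧ χ.natDegree = N} → Prop := fun ψ =>
    (ψ.1.coeff 0 ≠ 0 → (AS (ψ.1.coeff 1 / ψ.1.coeff 0) ↔ IsPlus Q)) ∧
      (ψ.1.coeff 0 = 0 → ψ.1.coeff 1 ≠ 0)
  have h1 : Nat.card {ψ // R ψ} ≤ Nat.card (ConjClasses (OG Q)) := by
    refine card_le_classes (fun g : OG Q => (g.1.toLinearMap + g.1.symm.toLinearMap).charpoly)
      (fun g g' h => ?_) (fun ψ => ψ.1.1 ^ 2) (fun a b h => Subtype.ext (Subtype.ext ?_)) fun ψ => ?_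
    · obtain ⟨c, rfl⟩ := isConj_iff.1 h
      rw [← c.1.charpoly_conj]
      exact congrArg _ (LinearMap.ext fun v => by simp; rfl)
    · simpa [CharTwo.neg_eq] using sq_eq_sq_iff_eq_or_eq_neg.1 h
    · obtain ⟨T, a1, a2, a3⟩ := exists_cp' ψ.1.2.1 _ ψ.2.1 ψ.2.2
      exact exists_OG_cp hQ (by rw [a1, hV, ψ.1.2.2]) a2 a3
  let c : F[X] → F := fun ψ => if ψ.coeff 0 = 0 then 1 else alc F true * ψ.coeff 0
  have h7 : Nat.card {ψ // ¬ R ψ} ≤ Nat.card {ψ // R ψ} := by
    refine Nat.card_le_card_of_injective (fun ψ => ⟨⟨ψ.1.1 + C (c ψ.1.1) * X, ?_⟩, ?_⟩)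
      fun a b h => ?_
    · have h8 : (C (c ψ.1.1) * X).natDegree < ψ.1.1.natDegree :=
        (natDegree_C_mul_le _ _).trans_lt (by rw [natDegree_X, ψ.1.2.2]; omega)
      exact ⟨ψ.1.2.1.add_of_left (degree_lt_degree h8),
        (natDegree_add_eq_left_of_natDegree_lt h8).trans ψ.1.2.2⟩
    · have h8 := ψ.2
      by_cases h9 : ψ.1.1.coeff 0 = 0
      · simp_all [R, c]
      · simp only [R, c, h9, coeff_add, mul_coeff_zero, coeff_X_zero, mul_zero, add_zero,
          if_false, coeff_C_mul, coeff_X_one, mul_one, add_div, mul_div_cancel_right₀ _ h9, as_add,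
          as_alc] at h8 ⊢
        tauto
    · have h8 : a.1.1 + _ = b.1.1 + _ := congrArg (fun x => x.1.1) h
      have h9 : a.1.1.coeff 0 = b.1.1.coeff 0 := by simpa using congrArg (coeff · 0) h8
      simp only [c, h9, add_left_inj] at h8
      exact Subtype.ext (Subtype.ext h8)
  rw [← card_monic', Nat.card_congr (Equiv.sumCompl R).symm, Nat.card_sum]
  omega

end CF.Cls
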