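/-
Class numbers of central quotients.
-/
import Cfsg.Agent.Cls.KN5

set_option autoImplicit false

namespace CF.Cls

open Module CF.Geom Finset

theorem card_center_mul_le (G : Type*) [Group G] [Finite G] [Fintype (Subgroup.center G)] :
    Nat.card (Subgroup.center G) * Nat.card (ConjClasses (G ⧸ Subgroup.center G)) ≤
      ∑ z : Subgroup.center G,
        Nat.card {C : ConjClasses G // ∃ g, ConjClasses.mk g = C ∧ IsConj (z.1 * g) g} := by
  classical
  letI : MulAction (Subgroup.center G) (ConjClasses G) :=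
    { smul z C := Quotient.map (fun g => z.1 * g) (fun a b h => by
        obtain ⟨c, rfl⟩ := isConj_iff.1 h
        exact isConj_iff.2 ⟨c, by rw [← mul_assoc, Subgroup.mem_center_iff.1 z.2 c]; group⟩) C
      one_smul C := Quotient.inductionOn C fun g => congrArg ConjClasses.mk (one_mul g)
      mul_smul z w C := Quotient.inductionOn C fun g => congrArg ConjClasses.mk (mul_assoc _ _ g) }
  have hs : ∀ (z : Subgroup.center G) (g : G), z • ConjClasses.mk g = ConjClasses.mk (z.1 * g) :=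
    fun _ _ => rfl
  have := Fintype.ofFinite (ConjClasses G)
  have := Fintype.ofFinite (MulAction.orbitRel.Quotient (Subgroup.center G) (ConjClasses G))
  have h1 := MulAction.sum_card_fixedBy_eq_card_orbits_mul_card_group (Subgroup.center G)
    (ConjClasses G)
  simp only [← Nat.card_eq_fintype_card] at h1
  rw [mul_comm]
  refine (Nat.mul_le_mul_right _ ?_).trans (h1.symm.trans_le (sum_le_sum fun z _ => ?_))
  · refine Nat.card_le_card_of_surjective (Quotient.lift
      (ConjClasses.map (QuotientGroup.mk' (Subgroup.center G))) ?_) fun D => ?_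
    · rintro _ C ⟨z, rfl⟩
      obtain ⟨g, rfl⟩ := C.exists_rep
      change ConjClasses.mk ((z.1 * g : G) : G ⧸ Subgroup.center G) = ConjClasses.mk (g : G ⧸ _)
      rw [QuotientGroup.mk_mul, (QuotientGroup.eq_one_iff _).2 z.2, one_mul]
    · obtain ⟨C, rfl⟩ := ConjClasses.map_surjective (QuotientGroup.mk'_surjective _) D
      exact ⟨Quotient.mk _ C, rfl⟩
  · refine Nat.card_le_card_of_injective (Subtype.map id fun C hC => ?_)
      (Subtype.map_injective _ Function.injective_id)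
    obtain ⟨g, rfl⟩ := C.exists_rep
    exact ⟨g, rfl, ConjClasses.mk_eq_mk_iff_isConj.1 hC⟩

section
variable {A : Type*} [CommGroup A] {Q : ℤ} {J : Multiset (A × ℕ)} {p q t : ℕ}

/-- The orbit under multiplication by `z`. -/
noncomputable def orbz (z : A) (x : A × ℕ) : Multiset (A × ℕ) :=
  (Multiset.range (orderOf z)).map fun k => (x.1 * z ^ k, x.2)

theorem tw_orbz (z : A) (x : A × ℕ) : tw z (orbz z x) = orbz z x := by
  have h1 : (Multiset.range (orderOf z + 1)).map (fun k => (x.1 * z ^ k, x.2)) =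
      (x.1 * z ^ 0, x.2) ::ₘ (Multiset.range (orderOf z)).map fun k => (x.1 * z ^ (k + 1), x.2) := by
    rw [Multiset.range, List.range_succ_eq_map]
    simp [Multiset.range, Function.comp_def]
  rw [Multiset.range_succ, Multiset.map_cons, pow_orderOf_eq_one, pow_zero,
    Multiset.cons_inj_right] at h1
  rw [tw, orbz, Multiset.map_map, h1]
  simp [pow_succ, mul_assoc]

theorem orbz_mul (z : A) (x : A × ℕ) (k : ℕ) : orbz z (x.1 * z ^ k, x.2) = orbz z x := by
  induction k with
  | zero => simp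
  | succ k ih =>
    rw [← ih, ← tw_orbz z (x.1 * z ^ k, x.2), tw, orbz, orbz, Multiset.map_map]
    simp [pow_succ, mul_assoc, mul_comm z]

theorem exists_bind_orbz {z : A} (hz : 0 < orderOf z) (h : tw z J = J) :
    ∃ R : Multiset (A × ℕ), J = R.bind (orbz z) := by
  induction J using Multiset.strongInductionOn with
  | _ J ih =>
  rcases J.empty_or_exists_mem with rfl | ⟨x, hx⟩
  · exact ⟨0, rfl⟩
  have h1 : orbz z x ≤ J := by
    refine (Multiset.le_iff_subset ((Multiset.nodup_range _).map_on fun i hi j hj e =>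
      pow_injOn_Iio_orderOf (Multiset.mem_range.1 hi) (Multiset.mem_range.1 hj)
        (mul_left_cancel (congrArg Prod.fst e)))).2 fun y hy => ?_
    obtain ⟨k, -, rfl⟩ := Multiset.mem_map.1 hy
    clear hy
    induction k with
    | zero => simpa using hx
    | succ k ih => exact h ▸ mem_tw.2 ⟨_, ih, by simp [pow_succ, mul_assoc]⟩
  obtain ⟨J', rfl⟩ := Multiset.le_iff_exists_add.1 h1
  obtain ⟨R, hR⟩ := ih J' (lt_add_of_pos_left _ (Multiset.card_pos.1 (by simpa [orbz] using hz)).bot_lt)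
    (by rw [tw, Multiset.map_add, ← tw, ← tw, tw_orbz] at h; exact add_left_cancel h)
  exact ⟨x ::ₘ R, by rw [Multiset.cons_bind, hR]⟩

theorem TA.exists_quot (hT : TA A p) (z : A) : ∃ (ρ : A × ℕ → Multiset (A × ℕ)) (κ : A),
    ∀ n J, Adm Q n J → tw z J = J → ∃ J', J = J'.bind ρ ∧ Adm Q (n / orderOf z) J' ∧
      orderOf z ∣ n ∧ dt J = dt J' * κ ^ (n / orderOf z) ∧
      ∀ i, i ∈ J.map Prod.snd ↔ i ∈ J'.map Prod.snd := by
  have hz := hT.pos z
  obtain ⟨ρ, hρ⟩ := (Function.factorsThrough_iff (f := fun x : A × ℕ => (x.1 ^ orderOf z, x.2))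
      (orbz z)).1 fun x y e => by
    obtain ⟨k, hk⟩ := hT.cyc z (y.1⁻¹ * x.1) (orderOf_dvd_of_pow_eq_one (by
      rw [mul_pow, inv_pow, inv_mul_eq_one]; exact (congrArg Prod.fst e).symm))
    rw [← orbz_mul z y k, ← hk, mul_inv_cancel_left, ← (Prod.ext_iff.1 e).2]
  refine ⟨ρ, ∏ k ∈ range (orderOf z), z ^ k, fun n J hJ h => ?_⟩
  obtain ⟨R, rfl⟩ := exists_bind_orbz hz h
  set J' := R.map fun x => (x.1 ^ orderOf z, x.2)
  have h1 : (R.bind (orbz z)).map (fun x => (x.1 ^ orderOf z, x.2)) = orderOf z • J' := by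
    simp only [J']
    clear h hJ J'
    induction R using Multiset.induction_on with
    | empty => simp
    | cons x R ih =>
      rw [Multiset.cons_bind, Multiset.map_add, ih, Multiset.map_cons, Multiset.nsmul_cons]
      have : ∀ k, (z ^ k) ^ orderOf z = 1 := fun k => by
        rw [pow_right_comm, pow_orderOf_eq_one, one_pow]
      simp [orbz, mul_pow, this, Multiset.nsmul_singleton]
  have h2 : (R.bind (orbz z)).map Prod.snd = orderOf z • J'.map Prod.snd := by
    rw [← Multiset.map_nsmul, ← h1, Multiset.map_map]; rfl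
  have h3 : n = orderOf z * dm J' := by rw [← hJ.dim, dm, h2, Multiset.sum_nsmul]; rfl
  have h4 : n / orderOf z = dm J' := Nat.div_eq_of_eq_mul_right hz h3
  have h5 : ∀ i, i ∈ (R.bind (orbz z)).map Prod.snd ↔ i ∈ J'.map Prod.snd := fun i => by
    rw [h2, Multiset.mem_nsmul_of_ne_zero hz.ne']
  refine ⟨J', by rw [Multiset.bind_map, hρ]; rfl, ⟨fun x hx => ?_, h4.symm, ?_⟩, ⟨_, h3⟩, ?_, h5⟩
  · obtain ⟨y, hy, e⟩ := Multiset.mem_map.1 ((h5 x.2).2 (Multiset.mem_map_of_mem _ hx))
    exact e ▸ hJ.pos y hy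
  · refine nsmul_right_injective hz.ne' ?_
    change orderOf z • _ = orderOf z • _
    rw [← Multiset.map_nsmul, ← h1, Multiset.map_map]
    nth_rw 2 [← hJ.st]
    simp [← zpow_natCast, ← zpow_mul, mul_comm]
  · simp only [h4, J']
    clear h hJ h1 h2 h3 h4 h5 J'
    induction R using Multiset.induction_on with
    | empty => simp
    | cons x R ih =>
      rw [Multiset.cons_bind, dt_add, ih, Multiset.map_cons, ← Multiset.singleton_add, dt_add,
        dm_add, pow_add, mul_mul_mul_comm]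
      congr 1
      simp [orbz, dt, mul_pow, Multiset.prod_map_mul, pow_right_comm x.1, Multiset.prod_map_pow,
        Finset.prod_eq_multiset_prod]

theorem Ct.sum_gg_tw (h : Ct A Q q t) (hT : TA A p) (z : A) {n : ℕ} (hn : 0 < n)
    (s : Finset (Multiset (A × ℕ))) (hs : ∀ J ∈ s, Adm Q n J ∧ dt J = 1 ∧ tw z J = J) :
    t * ∑ J ∈ s, gg t (J.map Prod.snd) ≤ BB q t (n / orderOf z) := by
  classical
  obtain ⟨ρ, κ, h1⟩ := hT.exists_quot (Q := Q) z
  rcases s.eq_empty_or_nonempty with rfl | ⟨J₀, h₀⟩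
  · simp
  choose! ψ h2 h3 h4 h5 h6 using h1 n
  rw [sum_congr rfl fun J hJ => gg_congr t (h6 J (hs J hJ).1 (hs J hJ).2.2),
    ← sum_image (g := ψ) (f := fun J => gg t (J.map Prod.snd)) fun J hJ J' hJ' e => by
      rw [h2 J (hs J hJ).1 (hs J hJ).2.2, h2 J' (hs J' hJ').1 (hs J' hJ').2.2, e]]
  refine h.sum_gg (Nat.div_pos (Nat.le_of_dvd hn (h4 J₀ (hs J₀ h₀).1 (hs J₀ h₀).2.2)) (hT.pos z))
    (κ ^ (n / orderOf z))⁻¹ _ fun J' hJ' => ?_
  obtain ⟨J, hJ, rfl⟩ := mem_image.1 hJ'
  refine ⟨h3 J (hs J hJ).1 (hs J hJ).2.2, eq_inv_of_mul_eq_one_left ?_⟩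
  rw [← h5 J (hs J hJ).1 (hs J hJ).2.2, (hs J hJ).2.1]

end

variable {F : Type*} [Field F] [Finite F] (p : ℕ) [hp : Fact p.Prime] [CharP F p]

include p in
theorem card_fix_SL {n : ℕ} (hn : 0 < n) (z : Subgroup.center (Matrix.SpecialLinearGroup (Fin n) F))
    (hz : z ≠ 1) : ∃ m, 2 * m ≤ n ∧ 0 < m ∧ (Nat.card F - 1) *
      Nat.card {C : ConjClasses (Matrix.SpecialLinearGroup (Fin n) F) //
        ∃ g, ConjClasses.mk g = C ∧ IsConj (z.1 * g) g} ≤ BB (Nat.card F) (Nat.card F - 1) m := by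
  obtain ⟨c, hc1, hc⟩ := Matrix.SpecialLinearGroup.mem_center_iff.1 z.2
  rw [Fintype.card_fin] at hc1
  let u := Units.map (algebraMap F (AlgebraicClosure F) : F →* AlgebraicClosure F)
    (Units.ofPowEqOne c n hc1 hn.ne')
  have h1 : orderOf u ∣ n := orderOf_dvd_of_pow_eq_one (by
    rw [← map_pow, Units.pow_ofPowEqOne, map_one])
  have h2 : orderOf u ≠ 1 := fun h => hz (Subtype.ext (Subtype.ext (by
    have : c = 1 := (algebraMap F (AlgebraicClosure F)).injective (by
      simpa [u] using congrArg Units.val (orderOf_eq_one_iff.1 h))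
    rw [← hc, this, map_one]; rfl)))
  have h3 := (ta_ac (F := F) p).pos u
  refine ⟨n / orderOf u, (Nat.mul_le_mul_right _ (show 2 ≤ orderOf u by omega)).trans
    (Nat.mul_div_le _ _), Nat.div_pos (Nat.le_of_dvd hn h1) h3, ?_⟩
  obtain ⟨s, h4, h5⟩ := card_le_sum_gg _ (fun J => tw u J = J) _
    (card_fiber_SL (F := F) (K := AlgebraicClosure F) hn)
  have hu : ∀ g : Matrix.SpecialLinearGroup (Fin n) F,
      IsUnit (toE Matrix.SpecialLinearGroup.coeMonoidHom g) := fun g => (Group.isUnit g).map _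
  refine (Nat.mul_le_mul_left _ (le_trans (Nat.card_le_card_of_injective (Subtype.map id ?_)
    (Subtype.map_injective _ Function.injective_id)) h5)).trans
    ((ct_gl p).sum_gg_tw (ta_ac (F := F) p) u hn s fun J hJ => ?_)
  · rintro _ ⟨g, rfl, hg⟩
    refine ⟨g, rfl, ?_⟩
    rw [← ev_smul p (hu g), ← (sim_iff_ev (hu _) (hu g)).1
      ((isConj_iff_sim _ _).1 (isConj_matrix_of_SL hg)), map_mul, toE_eq _ z.1]
    congr 1
    rw [Algebra.smul_def, ← toLin'_scalar]
    exact congrArg (fun x => Matrix.toLin' x * _) hc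
  · obtain ⟨h6, g, rfl⟩ := h4 J hJ
    exact ⟨by simpa using adm_ev' (K := AlgebraicClosure F) p (hu g),
      (dt_eq_one_iff p (hu g)).2 (by rw [toE_eq, LinearMap.det_toLin']; exact g.2), h6⟩

end CF.Cls
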